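import Cfsg.Agent.Lib.SFourHat.Half
import Cfsg.Agent.Lib.PLocal.Thompson
import Cfsg.Prelude.Def_LocalEven

set_option autoImplicit false
set_option linter.unusedSectionVars false

/-!
E-groups inside an ambient group and the join `jH P` of the E-subgroups of `P` containing its Thompson
subgroup.
-/

namespace CfsgLib.SFourHat

open Subgroup
open scoped commutatorElement

variable {G : Type*} [Group G]

/-- Both inequalities for all elementary actions of subgroups of `T` on `V`. -/
def Moves (T V : Subgroup G) : Prop :=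
  ∀ R : Subgroup G, R ≤ T → ElemOn R V → ¬ R ≤ centralizer (V : Set G) →
    (centralizer (V : Set G)).relIndex R ^ 3 < (centralizer (R : Set G)).relIndex V ^ 2 ∧
      (centralizer (V : Set G)).relIndex R < Nat.card ↥⁅V, R⁆

theorem Moves.half {T V : Subgroup G} (h : Moves T V) : Half T V :=
  fun R hR he hn => (h R hR he hn).1

theorem Moves.mono {T U V : Subgroup G} (h : Moves T V) (hU : U ≤ T) : Moves U V :=
  fun R hR => h R (hR.trans hU)

/-- `T` is an E-group. -/
def IsEGroupIn (T : Subgroup G) : Prop :=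
  ∀ V : Subgroup G, V ≤ T → T ≤ normalizer (V : Set G) → Cfsg.IsElementaryAbelian 2 V → Moves T V →
    V ≤ centralizer (T : Set G)

theorem card_eq_mul_relIndex [Finite G] (H K : Subgroup G) :
    Nat.card K = Nat.card ↥(K ⊓ H) * H.relIndex K := by
  rw [← inf_relIndex_right H K, inf_comm H K, ← relIndex_bot_left (K ⊓ H), relIndex_mul_relIndex _ _ _
    bot_le inf_le_left, relIndex_bot_left]

/-- The two inequalities of the definition, as indices. -/
theorem ineq_iff [Finite G] (V R : Subgroup G) :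
    ((Nat.card V) ^ 2 * (Nat.card ↥(R ⊓ centralizer (V : Set G))) ^ 3 >
        (Nat.card R) ^ 3 * (Nat.card ↥(V ⊓ centralizer (R : Set G))) ^ 2 ∧
      Nat.card ↥⁅V, R⁆ * Nat.card ↥(R ⊓ centralizer (V : Set G)) > Nat.card R) ↔
    (centralizer (V : Set G)).relIndex R ^ 3 < (centralizer (R : Set G)).relIndex V ^ 2 ∧
      (centralizer (V : Set G)).relIndex R < Nat.card ↥⁅V, R⁆ := by
  rw [card_eq_mul_relIndex (centralizer (R : Set G)) V, card_eq_mul_relIndex (centralizer (V : Set G)) R]
  set a := (centralizer (V : Set G)).relIndex R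
  set b := (centralizer (R : Set G)).relIndex V
  set p := Nat.card ↥(R ⊓ centralizer (V : Set G))
  set q := Nat.card ↥(V ⊓ centralizer (R : Set G))
  set k := Nat.card ↥⁅V, R⁆
  have hp : 0 < p := Nat.card_pos
  have hq : 0 < q := Nat.card_pos
  have e1 : (p * a) ^ 3 * q ^ 2 = a ^ 3 * (p ^ 3 * q ^ 2) := by ring
  have e2 : (q * b) ^ 2 * p ^ 3 = b ^ 2 * (p ^ 3 * q ^ 2) := by ring
  rw [gt_iff_lt, e1, e2, gt_iff_lt, Nat.mul_lt_mul_right (by positivity), mul_comm p a,
    Nat.mul_lt_mul_right hp]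

theorem isEGroup_iff [Finite G] (U : Subgroup G) : Cfsg.IsEGroup U ↔ IsEGroupIn U := by
  have key : ∀ (V R : Subgroup U),
      (ElemOn (R.map U.subtype) (V.map U.subtype) ↔
        (⁅R, R⁆ ≤ centralizer (V : Set U) ∧ ∀ r ∈ R, r ^ 2 ∈ centralizer (V : Set U))) ∧
      (R.map U.subtype ≤ centralizer ((V.map U.subtype : Subgroup G) : Set G) ↔
        R ≤ centralizer (V : Set U)) ∧
      Nat.card ↥(R.map U.subtype ⊓ centralizer ((V.map U.subtype : Subgroup G) : Set G)) =
        Nat.card ↥(R ⊓ centralizer (V : Set U)) ∧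
      Nat.card ↥(V.map U.subtype ⊓ centralizer ((R.map U.subtype : Subgroup G) : Set G)) =
        Nat.card ↥(V ⊓ centralizer (R : Set U)) ∧
      Nat.card ↥⁅V.map U.subtype, R.map U.subtype⁆ = Nat.card ↥⁅V, R⁆ := by
    intro V R
    have hc : ∀ (A : Subgroup U) (x : U), (x : G) ∈ centralizer ((A.map U.subtype : Subgroup G) : Set G) ↔
        x ∈ centralizer (A : Set U) := by
      intro A x
      constructor
      · intro h
        exact mem_centralizer_iff.2 fun a ha => Subtype.ext (mem_centralizer_iff.1 h _ ⟨a, ha, rfl⟩)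
      · intro h
        refine mem_centralizer_iff.2 ?_
        rintro _ ⟨a, ha, rfl⟩
        exact congrArg Subtype.val (mem_centralizer_iff.1 h a ha)
    have hinf : ∀ A B : Subgroup U, B.map U.subtype ⊓ centralizer ((A.map U.subtype : Subgroup G) : Set G) =
        (B ⊓ centralizer (A : Set U)).map U.subtype := by
      intro A B
      ext g
      constructor
      · rintro ⟨⟨b, hb, rfl⟩, hg⟩
        exact ⟨b, ⟨hb, (hc A b).1 hg⟩, rfl⟩
      · rintro ⟨b, ⟨hb, hbc⟩, rfl⟩
        exact ⟨⟨b, hb, rfl⟩, (hc A b).2 hbc⟩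
    refine ⟨?_, ⟨fun h r hr => (hc V r).1 (h ⟨r, hr, rfl⟩), fun h => ?_⟩, ?_, ?_, ?_⟩
    · constructor
      · rintro ⟨h1, h2⟩
        refine ⟨commutator_le.2 fun a ha b hb => (hc V _).1 ?_, fun r hr => (hc V _).1 (h2 _ ⟨r, hr, rfl⟩)⟩
        exact h1 (commutator_mem_commutator (mem_map_of_mem U.subtype ha) (mem_map_of_mem U.subtype hb))
      · rintro ⟨h1, h2⟩
        refine ⟨?_, ?_⟩
        · rw [← map_commutator]
          rintro _ ⟨c, hcR, rfl⟩
          exact (hc V c).2 (h1 hcR)
        · rintro _ ⟨r, hr, rfl⟩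
          exact (hc V (r ^ 2)).2 (h2 r hr)
    · rintro _ ⟨r, hr, rfl⟩
      exact (hc V r).2 (h hr)
    · rw [hinf, card_map_of_injective U.subtype_injective]
    · rw [hinf, card_map_of_injective U.subtype_injective]
    · rw [← map_commutator, card_map_of_injective U.subtype_injective]
  constructor
  · intro h V hVU hUV hV hM
    have e : (V.subgroupOf U).map U.subtype = V := map_subgroupOf_eq_of_le hVU
    haveI := normal_subgroupOf_of_le_normalizer hUV
    have hc := h (V.subgroupOf U) inferInstance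
      ((CfsgLib.PLocal.elemAb_map_iff U.subtype_injective).1 (by rwa [e])) (fun R h1 h2 h3 => ?_)
    · intro v hv
      refine mem_centralizer_iff.2 fun u hu => ?_
      exact congrArg Subtype.val (mem_center_iff.1
        (hc (show (⟨v, hVU hv⟩ : U) ∈ V.subgroupOf U from hv)) ⟨u, hu⟩)
    · obtain ⟨k1, k2, k3, k4, k5⟩ := key (V.subgroupOf U) R
      rw [e] at k1 k2 k3 k4 k5
      have := (ineq_iff V (R.map U.subtype)).2
        (hM _ (map_subtype_le R) (k1.2 ⟨h1, h2⟩) (mt k2.1 h3))
      have eV : Nat.card V = Nat.card ↥(V.subgroupOf U) := by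
        rw [← card_map_of_injective U.subtype_injective, e]
      rwa [k3, k4, k5, eV, card_map_of_injective U.subtype_injective] at this
  · intro h V hVn hV hR v hv
    have hle : U ≤ normalizer ((V.map U.subtype : Subgroup G) : Set G) := fun u hu => by
      rw [mem_normalizer_iff_map_conj_eq, Subgroup.map_map]
      refine le_antisymm ?_ ?_
      · rintro _ ⟨w, hw, rfl⟩
        exact ⟨⟨u, hu⟩ * w * (⟨u, hu⟩ : U)⁻¹, hVn.conj_mem w hw _, rfl⟩
      · rintro _ ⟨w, hw, rfl⟩
        refine ⟨(⟨u, hu⟩ : U)⁻¹ * w * ⟨u, hu⟩, by simpa using hVn.conj_mem w hw (⟨u, hu⟩ : U)⁻¹, ?_⟩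
        simp [mul_assoc]
    have hc := h (V.map U.subtype) (map_subtype_le V) hle (CfsgLib.PLocal.elemAb_map _ hV)
      (fun R' hR' he hn => ?_) (mem_map_of_mem U.subtype hv)
    · exact mem_center_iff.2 fun u => Subtype.ext (mem_centralizer_iff.1 hc u u.2)
    · obtain ⟨R, rfl⟩ : ∃ R : Subgroup U, R.map U.subtype = R' :=
        ⟨R'.subgroupOf U, map_subgroupOf_eq_of_le hR'⟩
      obtain ⟨k1, k2, k3, k4, k5⟩ := key V R
      refine (ineq_iff _ _).1 ?_
      rw [k3, k4, k5, card_map_of_injective U.subtype_injective,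
        card_map_of_injective U.subtype_injective]
      exact hR R (k1.1 he).1 (k1.1 he).2 (mt k2.2 hn)

/-- `Ĵ(P)`. -/
def jH (P : Subgroup G) : Subgroup G :=
  sSup {U | U ≤ P ∧ IsEGroupIn U ∧ CfsgLib.PLocal.thompson 2 P ≤ U}

theorem jH_le (P : Subgroup G) : jH P ≤ P := sSup_le fun _ hU => hU.1

theorem le_jH {P U : Subgroup G} (h1 : U ≤ P) (h2 : IsEGroupIn U)
    (h3 : CfsgLib.PLocal.thompson 2 P ≤ U) : U ≤ jH P := le_sSup ⟨h1, h2, h3⟩

theorem isEGroup_of_equiv {A B : Type*} [Group A] [Group B] [Finite A] (e : A ≃* B) (h : Cfsg.IsEGroup A) :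
    Cfsg.IsEGroup B := by
  intro V hV he hR v hv
  set V' := V.comap e.toMonoidHom
  have hcard : ∀ X : Subgroup B, Nat.card ↥(X.comap e.toMonoidHom) = Nat.card X := fun X =>
    Nat.card_congr (e.toEquiv.subtypeEquiv fun a => Iff.rfl)
  have hcen : ∀ X : Subgroup B, centralizer ((X.comap e.toMonoidHom : Subgroup A) : Set A) =
      (centralizer (X : Set B)).comap e.toMonoidHom := fun X => by
    ext a
    simp only [mem_comap, mem_centralizer_iff]
    constructor
    · intro h x hx
      obtain ⟨x, rfl⟩ := e.surjective x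
      show e x * e a = e a * e x
      rw [← map_mul, ← map_mul, h x hx]
    · intro h x hx
      exact e.injective (by rw [map_mul, map_mul]; exact h _ hx)
  have hcomm : ∀ X Y : Subgroup B, ⁅X.comap e.toMonoidHom, Y.comap e.toMonoidHom⁆ =
      ⁅X, Y⁆.comap e.toMonoidHom := fun X Y => by
    apply map_injective (f := e.toMonoidHom) e.injective
    rw [map_commutator, map_comap_eq_self_of_surjective e.surjective,
      map_comap_eq_self_of_surjective e.surjective, map_comap_eq_self_of_surjective e.surjective]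
  have hve : e.symm v ∈ V' := by
    show e (e.symm v) ∈ V
    rw [e.apply_symm_apply]; exact hv
  have := h V' (hV.comap _) ⟨CfsgLib.PLocal.isMulCommutative_of_forall fun a ha b hb => e.injective (by
    rw [map_mul, map_mul]; exact CfsgLib.PLocal.elemAb_commute he ha hb), fun a ha => e.injective (by
    rw [map_pow, map_one]; exact he.2 _ ha)⟩ (fun R h1 h2 h3 => ?_) hve
  · rw [mem_center_iff] at this ⊢
    intro b
    have h' := congrArg e (this (e.symm b))
    rwa [map_mul, map_mul, e.apply_symm_apply, e.apply_symm_apply] at h'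
  · set R' := R.map e.toMonoidHom
    have hR' : R'.comap e.toMonoidHom = R := comap_map_eq_self_of_injective e.injective R
    have key := hR R' ?_ ?_ ?_
    · rw [← hcard V, ← hcard R', ← hcard (R' ⊓ _), ← hcard (V ⊓ _), ← hcard ⁅V, R'⁆, comap_inf,
        comap_inf, ← hcen, ← hcen, ← hcomm, hR'] at key
      exact key
    · rw [← comap_le_comap_of_surjective (f := e.toMonoidHom) e.surjective, ← hcomm, ← hcen, hR']
      exact h1
    · rintro _ ⟨r, hr, rfl⟩
      have := (hcen V).le (h2 r hr)
      simpa using this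
    · intro hle
      apply h3
      rw [← hR', hcen]
      exact comap_mono hle

theorem isEGroupIn_map [Finite G] {H : Type*} [Group H] [Finite H] (f : G →* H) (hf : Function.Injective f)
    (U : Subgroup G) : IsEGroupIn (U.map f) ↔ IsEGroupIn U := by
  rw [← isEGroup_iff, ← isEGroup_iff]
  exact ⟨isEGroup_of_equiv (U.equivMapOfInjective f hf).symm, isEGroup_of_equiv (U.equivMapOfInjective f hf)⟩

theorem map_jHat [Finite G] (P : Subgroup G) : (Cfsg.jHat ↥P).map P.subtype = jH P := by
  unfold Cfsg.jHat jH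
  rw [(Subgroup.gc_map_comap P.subtype).l_sSup, ← sSup_image]
  congr 1
  ext W
  constructor
  · rintro ⟨U, ⟨hU, hJ⟩, rfl⟩
    refine ⟨map_subtype_le U, (isEGroupIn_map P.subtype P.subtype_injective U).2 ((isEGroup_iff U).1 hU), ?_⟩
    rw [← CfsgLib.PLocal.thompsonSubgroupOf_eq]
    exact map_mono hJ
  · rintro ⟨hWP, hW, hJ⟩
    refine ⟨W.subgroupOf P, ⟨?_, ?_⟩, map_subgroupOf_eq_of_le hWP⟩
    · rw [isEGroup_iff, ← isEGroupIn_map P.subtype P.subtype_injective, map_subgroupOf_eq_of_le hWP]
      exact hW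
    · rw [← map_le_map_iff_of_injective P.subtype_injective, map_subgroupOf_eq_of_le hWP]
      exact (CfsgLib.PLocal.thompsonSubgroupOf_eq 2 P).le.trans hJ

theorem jH_map [Finite G] {H : Type*} [Group H] [Finite H] {f : G →* H} (hf : Function.Injective f)
    (P : Subgroup G) : jH (P.map f) = (jH P).map f := by
  unfold jH
  rw [(Subgroup.gc_map_comap f).l_sSup, ← sSup_image, CfsgLib.PLocal.thompson_map hf]
  congr 1
  ext W
  constructor
  · rintro ⟨hWP, hW, hJ⟩
    have e : (W.comap f).map f = W := map_comap_eq_self (hWP.trans (map_le_range f P))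
    refine ⟨W.comap f, ⟨?_, ?_, ?_⟩, e⟩
    · rw [← map_le_map_iff_of_injective hf, e]; exact hWP
    · rwa [← isEGroupIn_map f hf, e]
    · rw [← map_le_map_iff_of_injective hf, e]; exact hJ
  · rintro ⟨U, ⟨h1, h2, h3⟩, rfl⟩
    exact ⟨map_mono h1, (isEGroupIn_map f hf U).2 h2, map_mono h3⟩

theorem normalizer_le_normalizer_jH [Finite G] (P : Subgroup G) :
    normalizer (P : Set G) ≤ normalizer (jH P : Set G) := by
  intro g hg
  have e := CfsgLib.PLocal.map_conj_eq_of_mem_normalizer hg
  rw [mem_normalizer_iff_map_conj_eq, ← jH_map (f := (MulAut.conj g : G →* G)) (MulAut.conj g).injective, e]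

theorem le_normalizer_jH [Finite G] (P : Subgroup G) : P ≤ normalizer (jH P : Set G) :=
  le_normalizer.trans (normalizer_le_normalizer_jH P)

/-- An E-group containing the maximal elementary subgroups exists, so `J ≤ Ĵ` holds as soon as `J` is one. -/
theorem jH_eq_of_le [Finite G] {P T : Subgroup G} (hTP : T ≤ P)
    (hJ : CfsgLib.PLocal.thompson 2 P ≤ T) (hjT : jH P ≤ T) : jH T = jH P := by
  refine le_antisymm (sSup_le fun U ⟨h1, h2, h3⟩ => le_jH (h1.trans hTP) h2 ?_)
    (sSup_le fun U hU => le_jH (le_trans (le_sSup hU) hjT) hU.2.1 ?_)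
  · rwa [CfsgLib.PLocal.thompson_eq_of_le hTP hJ] at h3
  · rw [CfsgLib.PLocal.thompson_eq_of_le hTP hJ]; exact hU.2.2

end CfsgLib.SFourHat
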