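import Cfsg.Agent.Lib.SFourHat.Layer
import Cfsg.Agent.Lib.PLocal.Thompson

set_option autoImplicit false
set_option linter.unusedSectionVars false

/-!
The join of the conjugates of `U` under `E` and the group of elements acting on each of them like an element
of `Q₁`.
-/

namespace CfsgLib.SFourHat

open Subgroup
open scoped commutatorElement

variable {G : Type*} [Group G]

/-- `⟨U ^ E⟩`. -/
def orbitSup (E U : Subgroup G) : Subgroup G :=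
  ⨆ c : E, U.map (MulAut.conj (c : G)).toMonoidHom

theorem mem_orbitSup {E U : Subgroup G} {c u : G} (hc : c ∈ E) (hu : u ∈ U) :
    c * u * c⁻¹ ∈ orbitSup E U :=
  mem_iSup_of_mem (⟨c, hc⟩ : E) ⟨u, hu, rfl⟩

theorem orbitSup_le {E U W : Subgroup G} (h : ∀ c ∈ E, ∀ u ∈ U, c * u * c⁻¹ ∈ W) : orbitSup E U ≤ W :=
  iSup_le fun c => by rintro _ ⟨u, hu, rfl⟩; exact h c c.2 u hu

theorem le_orbitSup (E U : Subgroup G) : U ≤ orbitSup E U := fun u hu => by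
  simpa using mem_orbitSup (one_mem E) hu

theorem orbitSup_le_of_normal {E U N : Subgroup G} [N.Normal] (h : U ≤ N) : orbitSup E U ≤ N :=
  orbitSup_le fun c _ _ hu => Normal.conj_mem inferInstance _ (h hu) c

theorem half_orbitSup [Finite G] {Q₁ : Subgroup G} [Q₁.Normal] {E U : Subgroup G} (h : Half Q₁ U) :
    Half Q₁ (orbitSup E U) :=
  half_iSup _ fun c => h.conj _ (normalizer_eq_top Q₁ ▸ mem_top _)

variable [Finite G]

theorem le_normalizer_orbitSup_self (E U : Subgroup G) :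
    E ≤ normalizer (orbitSup E U : Set G) := by
  refine le_normalizer_of_conj_mem fun e he x hx => ?_
  have h : orbitSup E U ≤ (orbitSup E U).comap (MulAut.conj e).toMonoidHom := orbitSup_le fun c hc u hu => by
    show e * (c * u * c⁻¹) * e⁻¹ ∈ orbitSup E U
    have := mem_orbitSup (mul_mem he hc) hu
    rwa [show e * c * u * (e * c)⁻¹ = e * (c * u * c⁻¹) * e⁻¹ by group] at this
  exact h hx

theorem le_normalizer_orbitSup {P E U : Subgroup G} (hPE : P ≤ normalizer (E : Set G))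
    (hPU : P ≤ normalizer (U : Set G)) : P ≤ normalizer (orbitSup E U : Set G) := by
  refine le_normalizer_of_conj_mem fun p hp x hx => ?_
  have h : orbitSup E U ≤ (orbitSup E U).comap (MulAut.conj p).toMonoidHom := orbitSup_le fun c hc u hu => by
    show p * (c * u * c⁻¹) * p⁻¹ ∈ orbitSup E U
    have := mem_orbitSup (conj_mem_of_le_normalizer hPE hp hc) (conj_mem_of_le_normalizer hPU hp hu)
    rwa [show p * c * p⁻¹ * (p * u * p⁻¹) * (p * c * p⁻¹)⁻¹ = p * (c * u * c⁻¹) * p⁻¹ by group] at this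
  exact h hx

theorem conj_conj_mem {Q₁ U : Subgroup G} [Q₁.Normal] (hQU : Q₁ ≤ normalizer (U : Set G)) {q : G} (hq : q ∈ Q₁)
    (c : G) {u : G} (hu : u ∈ U) : ∃ u' ∈ U, q * (c * u * c⁻¹) * q⁻¹ = c * u' * c⁻¹ := by
  have hq' : c⁻¹ * q * c ∈ Q₁ := by simpa using Normal.conj_mem inferInstance q hq c⁻¹
  exact ⟨_, conj_mem_of_le_normalizer hQU hq' hu, by group⟩

/-- The elements of `S` acting on every conjugate `U ^ c` like an element of `Q₁`. -/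
def likeGroup (Q₁ S E U : Subgroup G) [Q₁.Normal] (hQU : Q₁ ≤ normalizer (U : Set G)) : Subgroup G where
  carrier := {x | x ∈ S ∧ ∀ c ∈ E, ∃ q ∈ Q₁, ∀ u ∈ U, x * (c * u * c⁻¹) * x⁻¹ = q * (c * u * c⁻¹) * q⁻¹}
  one_mem' := ⟨one_mem _, fun c _ => ⟨1, one_mem _, fun u _ => rfl⟩⟩
  mul_mem' := fun {x y} hx hy => ⟨mul_mem hx.1 hy.1, fun c hc => by
    obtain ⟨q, hq, h⟩ := hx.2 c hc
    obtain ⟨q', hq', h'⟩ := hy.2 c hc
    refine ⟨q * q', mul_mem hq hq', fun u hu => ?_⟩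
    obtain ⟨u', hu', e⟩ := conj_conj_mem hQU hq' c hu
    calc x * y * (c * u * c⁻¹) * (x * y)⁻¹ = x * (y * (c * u * c⁻¹) * y⁻¹) * x⁻¹ := by group
      _ = x * (c * u' * c⁻¹) * x⁻¹ := by rw [h' u hu, e]
      _ = q * (c * u' * c⁻¹) * q⁻¹ := h u' hu'
      _ = q * q' * (c * u * c⁻¹) * (q * q')⁻¹ := by rw [← e]; group⟩
  inv_mem' := fun {x} hx => ⟨inv_mem hx.1, fun c hc => by
    obtain ⟨q, hq, h⟩ := hx.2 c hc
    refine ⟨q⁻¹, inv_mem hq, fun u hu => ?_⟩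
    obtain ⟨u', hu', e⟩ := conj_conj_mem hQU (inv_mem hq) c hu
    have h1 : x * (q⁻¹ * (c * u * c⁻¹) * q⁻¹⁻¹) * x⁻¹ = c * u * c⁻¹ := by
      rw [e, h u' hu', ← e]; group
    calc x⁻¹ * (c * u * c⁻¹) * x⁻¹⁻¹
        = x⁻¹ * (x * (q⁻¹ * (c * u * c⁻¹) * q⁻¹⁻¹) * x⁻¹) * x⁻¹⁻¹ := by rw [h1]
      _ = _ := by group⟩

theorem mem_likeGroup {Q₁ S E U : Subgroup G} [Q₁.Normal] {hQU : Q₁ ≤ normalizer (U : Set G)} {x : G} :
    x ∈ likeGroup Q₁ S E U hQU ↔ x ∈ S ∧ ∀ c ∈ E, ∃ q ∈ Q₁, ∀ u ∈ U,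
      x * (c * u * c⁻¹) * x⁻¹ = q * (c * u * c⁻¹) * q⁻¹ := Iff.rfl

theorem le_normalizer_likeGroup {Q₁ E P U : Subgroup G} [Q₁.Normal] (hQU : Q₁ ≤ normalizer (U : Set G))
    (hPE : P ≤ normalizer (E : Set G)) (hPU : P ≤ normalizer (U : Set G)) :
    E ⊔ P ≤ normalizer (likeGroup Q₁ (E ⊔ P) E U hQU : Set G) := by
  refine sup_le (le_normalizer_of_conj_mem fun e he x hx => ?_) (le_normalizer_of_conj_mem fun p hp x hx => ?_)
  · refine ⟨mul_mem (mul_mem (mem_sup_left he) hx.1) (inv_mem (mem_sup_left he)), fun c hc => ?_⟩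
    obtain ⟨q, hq, h⟩ := hx.2 (e⁻¹ * c) (mul_mem (inv_mem he) hc)
    refine ⟨e * q * e⁻¹, Normal.conj_mem inferInstance q hq e, fun u hu => ?_⟩
    calc e * x * e⁻¹ * (c * u * c⁻¹) * (e * x * e⁻¹)⁻¹
        = e * (x * ((e⁻¹ * c) * u * (e⁻¹ * c)⁻¹) * x⁻¹) * e⁻¹ := by group
      _ = e * (q * ((e⁻¹ * c) * u * (e⁻¹ * c)⁻¹) * q⁻¹) * e⁻¹ := by rw [h u hu]
      _ = _ := by group
  · refine ⟨mul_mem (mul_mem (mem_sup_right hp) hx.1) (inv_mem (mem_sup_right hp)), fun c hc => ?_⟩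
    obtain ⟨q, hq, h⟩ := hx.2 (p⁻¹ * c * p⁻¹⁻¹) (conj_mem_of_le_normalizer hPE (inv_mem hp) hc)
    refine ⟨p * q * p⁻¹, Normal.conj_mem inferInstance q hq p, fun u hu => ?_⟩
    have hu' := conj_mem_of_le_normalizer hPU (inv_mem hp) hu
    calc p * x * p⁻¹ * (c * u * c⁻¹) * (p * x * p⁻¹)⁻¹
        = p * (x * ((p⁻¹ * c * p⁻¹⁻¹) * (p⁻¹ * u * p⁻¹⁻¹) * (p⁻¹ * c * p⁻¹⁻¹)⁻¹) * x⁻¹) * p⁻¹ := by group
      _ = p * (q * ((p⁻¹ * c * p⁻¹⁻¹) * (p⁻¹ * u * p⁻¹⁻¹) * (p⁻¹ * c * p⁻¹⁻¹)⁻¹) * q⁻¹) * p⁻¹ := by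
          rw [h _ hu']
      _ = _ := by group

/-- A power of an element acting like an element of `Q₁` centralizes `⟨U ^ E⟩`. -/
theorem exists_pow_mem_centralizer {Q₁ S E U : Subgroup G} [Q₁.Normal]
    {hQU : Q₁ ≤ normalizer (U : Set G)} (hQ₁ : IsPGroup 2 Q₁) {x : G} (hx : x ∈ likeGroup Q₁ S E U hQU) :
    ∃ k : ℕ, x ^ 2 ^ k ∈ centralizer (orbitSup E U : Set G) := by
  haveI : Fact (Nat.Prime 2) := ⟨Nat.prime_two⟩
  obtain ⟨k, hk⟩ := hQ₁.exists_card_eq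
  refine ⟨k, ?_⟩
  have hle : orbitSup E U ≤ centralizer ({x ^ 2 ^ k} : Set G) := by
    refine orbitSup_le fun c hc u hu => ?_
    obtain ⟨q, hq, h⟩ := hx.2 c hc
    have hn : ∀ n : ℕ, ∀ v ∈ U, x ^ n * (c * v * c⁻¹) * (x ^ n)⁻¹ = q ^ n * (c * v * c⁻¹) * (q ^ n)⁻¹ := by
      intro n
      induction n with
      | zero => simp
      | succ n ih =>
        intro v hv
        obtain ⟨v', hv', e⟩ := conj_conj_mem hQU hq c hv
        calc x ^ (n + 1) * (c * v * c⁻¹) * (x ^ (n + 1))⁻¹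
            = x ^ n * (x * (c * v * c⁻¹) * x⁻¹) * (x ^ n)⁻¹ := by rw [pow_succ]; group
          _ = x ^ n * (c * v' * c⁻¹) * (x ^ n)⁻¹ := by rw [h v hv, e]
          _ = q ^ n * (c * v' * c⁻¹) * (q ^ n)⁻¹ := ih v' hv'
          _ = _ := by rw [← e, pow_succ]; group
    have hq1 : q ^ 2 ^ k = 1 := by
      have := congrArg Subtype.val (pow_card_eq_one' (x := (⟨q, hq⟩ : Q₁)))
      rwa [hk] at this
    have h1 := hn (2 ^ k) u hu
    rw [hq1, one_mul, inv_one, mul_one] at h1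
    rw [mem_centralizer_singleton_iff]
    exact (mul_inv_eq_iff_eq_mul.1 h1).symm
  exact mem_centralizer_iff.2 fun v hv => mem_centralizer_singleton_iff.1 (hle hv)

end CfsgLib.SFourHat
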