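import Cfsg.Prelude.Def_Local
import Cfsg.Prelude.Def_LocalEven
import Cfsg.Agent.Lib.SuzukiOvoid.Subgroups
import Cfsg.Agent.Lib.PSL2.MinimalSimple

set_option autoImplicit false
set_option linter.unusedSectionVars false

/-!
For the family of the Suzuki groups and the groups `PSL₂(3^(2n+1))`, which is closed under nonsolvable
simple sections, the condition on composition factors passes to all sections.
-/

namespace CfsgLib.SFourHat

open Subgroup Cfsg

universe u

/-- Invariance of the family under isomorphisms. -/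
theorem fam_congr {X Y : Type*} [Group X] [Group Y] (e : X ≃* Y)
    (h : IsSuzukiOrPSL2OddPowerThree X) : IsSuzukiOrPSL2OddPowerThree Y := by
  rcases h with ⟨F, i1, i2, m, hm, hF, ⟨f⟩⟩ | ⟨F, i1, i2, n, hF, ⟨f⟩⟩
  · exact Or.inl ⟨F, i1, i2, m, hm, hF, ⟨e.symm.trans f⟩⟩
  · exact Or.inr ⟨F, i1, i2, n, hF, ⟨e.symm.trans f⟩⟩

/-- A simple group that is a nonabelian quotient of a solvable group does not exist. -/
theorem false_of_surjective_solvable {H Y : Type*} [Group H] [Group Y] [IsSimpleGroup Y]
    [hH : Group.IsSolvable H] (f : H →* Y) (hf : Function.Surjective f) (hY : ¬ IsMulCommutative Y) :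
    False :=
  haveI : Group.IsSolvable Y := Group.isSolvable_of_surjective hf
  hY ⟨⟨IsSimpleGroup.comm_iff_isSolvable.2 inferInstance⟩⟩

/-- A nontrivial quotient of a simple group is the group. -/
theorem bijective_of_surjective {X Y : Type*} [Group X] [IsSimpleGroup X] [Group Y] [Nontrivial Y]
    (f : X →* Y) (hf : Function.Surjective f) : Function.Bijective f := by
  refine ⟨(MonoidHom.ker_eq_bot_iff f).1 ?_, hf⟩
  refine (IsSimpleGroup.eq_bot_or_eq_top_of_normal f.ker inferInstance).resolve_right fun h => ?_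
  obtain ⟨a, b, hab⟩ := exists_pair_ne Y
  obtain ⟨x, rfl⟩ := hf a
  obtain ⟨y, rfl⟩ := hf b
  rw [MonoidHom.ker_eq_top_iff] at h
  exact hab (by rw [h]; rfl)

open Matrix in
/-- The nonabelian simple sections of a member of the family are members. -/
theorem fam_section {X : Type*} [Group X] (hX : IsSuzukiOrPSL2OddPowerThree X) (M : Subgroup X)
    {Y : Type*} [Group Y] [IsSimpleGroup Y] (hY : ¬ IsMulCommutative Y) (f : M →* Y)
    (hf : Function.Surjective f) : IsSuzukiOrPSL2OddPowerThree Y := by
  haveI : Nontrivial Y := IsSimpleGroup.toNontrivial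
  rcases hX with ⟨F, iF, iFF, m, hm, hF, ⟨e⟩⟩ | ⟨F, iF, iFF, n, hF, ⟨e⟩⟩
  · obtain ⟨hchar, ⟨P⟩⟩ := CfsgLib.SuzukiGroup.exists_params (F := F) hF
    set M' := M.map e.toMonoidHom
    set g : M' →* Y := f.comp (e.subgroupMap M).symm.toMonoidHom
    have hg : Function.Surjective g := hf.comp (e.subgroupMap M).symm.surjective
    rcases CfsgLib.SuzukiGroup.subgroup_cases P hF hm M' with hloc | ⟨k, L, l, h8, hl, hd, heq⟩
    · haveI := CfsgLib.SuzukiGroup.local_solvable P hF hm hloc
      exact (false_of_surjective_solvable g hg hY).elim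
    · obtain ⟨i, rfl⟩ : Odd l := Odd.of_dvd_nat ⟨m, rfl⟩ hd
      have hi1 : 1 ≤ i := by
        rcases Nat.eq_zero_or_pos i with rfl | h
        · rw [hl] at h8; norm_num at h8
        · exact h
      letI : Fintype ↥L := Fintype.ofFinite _
      have hK : Fintype.card ↥L = 2 ^ (2 * i + 1) := by rw [← Nat.card_eq_fintype_card, hl]
      obtain ⟨hcharL, ⟨PL⟩⟩ := CfsgLib.SuzukiGroup.exists_params (F := ↥L) hK
      haveI := CfsgLib.SuzukiGroup.isSimple PL (by
        rw [hK]; exact lt_of_lt_of_le (by norm_num) (Nat.pow_le_pow_right two_pos (by omega : 3 ≤ 2 * i + 1)))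
      obtain ⟨e'⟩ := CfsgLib.SuzukiGroup.nonempty_subGroup_equiv P L hi1 hl hd hK
      set d : M' ≃* ↥(Lie.Sz ↥L (2 ^ (i + 1))) := ((((MulAut.conj k).subgroupMap M').trans
        (MulEquiv.subgroupCongr heq)).trans e').trans (CfsgLib.SuzukiOvoid.ovoidEquiv hi1 hK PL).symm
      set g' : ↥(Lie.Sz ↥L (2 ^ (i + 1))) →* Y := g.comp d.symm.toMonoidHom
      have hb := bijective_of_surjective g' (hg.comp d.symm.surjective)
      exact Or.inl ⟨↥L, inferInstance, inferInstance, i, hi1, hK, ⟨(MulEquiv.ofBijective g' hb).symm⟩⟩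
  · classical
    haveI : Fact (Nat.Prime 3) := ⟨Nat.prime_three⟩
    haveI : CharP F 3 := by
      obtain ⟨p, hp⟩ := CharP.exists F
      obtain ⟨a, hprime, ha⟩ := FiniteField.card F p
      have : p = 3 := (Nat.prime_dvd_prime_iff_eq hprime Nat.prime_three).1
        (hprime.dvd_of_dvd_pow (n := 2 * n + 1) (hF ▸ ha ▸ dvd_pow_self p a.2.ne'))
      exact this ▸ hp
    set M' := M.map e.toMonoidHom
    set g : M' →* Y := f.comp (e.subgroupMap M).symm.toMonoidHom
    have hg : Function.Surjective g := hf.comp (e.subgroupMap M).symm.surjective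
    have h5 : ¬ 5 ∣ Nat.card (ProjectiveSpecialLinearGroup (Fin 2) F) := by
      intro h
      have h1 : 5 ∣ (Fintype.card F + 1) * (Fintype.card F * (Fintype.card F - 1)) :=
        CfsgLib.PSL2.card_psl (F := F) ▸ dvd_mul_of_dvd_right h _
      have hq : Fintype.card F % 5 = 2 ∨ Fintype.card F % 5 = 3 := by
        rw [hF, pow_succ, pow_mul, Nat.mul_mod, Nat.pow_mod]
        rcases Nat.even_or_odd n with ⟨j, rfl⟩ | ⟨j, rfl⟩
        · right; rw [← two_mul, pow_mul]; norm_num [Nat.pow_mod]
        · left; rw [pow_succ, pow_mul]; norm_num [Nat.pow_mod, Nat.mul_mod]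
      have h5' : Nat.Prime 5 := by norm_num
      rcases h5'.dvd_mul.1 h1 with h2 | h2
      · omega
      · rcases h5'.dvd_mul.1 h2 with h3 | h3 <;> omega
    rcases CfsgLib.PSL2.isSolvable_or_big 3 M' with hs | ⟨h, -⟩ | ⟨S, h4, hiso⟩
    · exact (false_of_surjective_solvable g hg hY).elim
    · exact absurd h h5
    · letI : Fintype ↥S := Fintype.ofFinite _
      have hS4 : 4 ≤ Fintype.card ↥S := by rwa [← Nat.card_eq_fintype_card]
      obtain ⟨i, hS⟩ : ∃ i, Fintype.card ↥S = 3 ^ (2 * i + 1) := by
        have h := Module.natCard_eq_pow_finrank (K := ↥S) (V := F)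
        rw [Nat.card_eq_fintype_card, hF, Nat.card_eq_fintype_card] at h
        set d := Module.finrank ↥S F
        have hd0 : d ≠ 0 := fun h0 => by
          rw [h0, pow_zero] at h
          exact absurd h (Nat.one_lt_pow (by omega) (by norm_num)).ne'
        obtain ⟨j, -, hj⟩ := (Nat.dvd_prime_pow Nat.prime_three).1 (h ▸ dvd_pow_self (Fintype.card ↥S) hd0)
        rw [hj, ← pow_mul] at h
        have h' := Nat.pow_right_injective (by norm_num) h
        obtain ⟨i, rfl⟩ : Odd j := (Nat.odd_mul.1 (h' ▸ odd_two_mul_add_one n)).1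
        exact ⟨i, hj⟩
      haveI := (CfsgLib.PSL2.psl_not_solvable hS4).2.1
      suffices ∃ g' : ProjectiveSpecialLinearGroup (Fin 2) ↥S →* Y, Function.Surjective g' by
        obtain ⟨g', hg'⟩ := this
        exact Or.inr ⟨↥S, inferInstance, inferInstance, i, hS,
          ⟨(MulEquiv.ofBijective g' (bijective_of_surjective g' hg')).symm⟩⟩
      rcases hiso with ⟨⟨d⟩⟩ | ⟨⟨d⟩⟩
      · exact ⟨g.comp d.symm.toMonoidHom, hg.comp d.symm.surjective⟩
      · set h := g.comp d.symm.toMonoidHom
        have hh : Function.Surjective h := hg.comp d.symm.surjective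
        set I := CfsgLib.PSL2.pslImage ↥S
        have hidx : I.index ∣ 2 := CfsgLib.PSL2.index_pslImage (F := ↥S) ▸ Nat.gcd_dvd_left _ _
        haveI hIn : I.Normal := by
          rcases (Nat.dvd_prime Nat.prime_two).1 hidx with h1 | h2
          · rw [index_eq_one.1 h1]; infer_instance
          · exact normal_of_index_eq_two h2
        rcases IsSimpleGroup.eq_bot_or_eq_top_of_normal (I.map h) (hIn.map h hh) with hb | ht
        · exfalso
          have hle : I ≤ h.ker := (Subgroup.map_eq_bot_iff I).1 hb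
          have hd : h.ker.index ∣ 2 := (index_dvd_of_le hle).trans hidx
          have hc : Nat.card Y ∣ 2 := by
            rw [← card_top, ← MonoidHom.range_eq_top.2 hh, ← index_ker]
            exact hd
          rcases (Nat.dvd_prime Nat.prime_two).1 hc with h1 | h2
          · exact not_nontrivial_iff_subsingleton.2 (Nat.card_eq_one_iff_unique.1 h1).1 inferInstance
          · haveI : IsCyclic Y := isCyclic_of_prime_card h2
            exact hY ⟨⟨IsCyclic.commGroup.mul_comm⟩⟩
        · refine ⟨(h.comp I.subtype).comp CfsgLib.PSL2.pslEquiv.toMonoidHom, fun y => ?_⟩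
          obtain ⟨z, hz, rfl⟩ := ht.symm ▸ mem_top y
          exact ⟨CfsgLib.PSL2.pslEquiv.symm ⟨z, hz⟩, congrArg (h ∘ Subtype.val)
            (CfsgLib.PSL2.pslEquiv.apply_symm_apply ⟨z, hz⟩)⟩

/-- The composition factors bound all simple sections. -/
theorem isKGroupWith_of_composition : ∀ {G : Type u} [Group G] [Finite G],
    IsCompositionKGroupWith IsSuzukiOrPSL2OddPowerThree G →
      IsKGroupWith IsSuzukiOrPSL2OddPowerThree G := by
  suffices H : ∀ (n : ℕ) {G : Type u} [Group G] [Finite G], Nat.card G = n →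
      IsCompositionKGroupWith IsSuzukiOrPSL2OddPowerThree G →
        IsKGroupWith IsSuzukiOrPSL2OddPowerThree G from fun {G} _ _ h => H _ rfl h
  intro n
  induction n using Nat.strong_induction_on with
  | _ n ih =>
  intro G _ _ hn hc A M _ hsimple hnc
  haveI := hsimple
  haveI : Nontrivial G := by
    obtain ⟨a, b, hab⟩ := exists_pair_ne (A ⧸ M)
    obtain ⟨a, rfl⟩ := QuotientGroup.mk_surjective a
    obtain ⟨b, rfl⟩ := QuotientGroup.mk_surjective b
    exact ⟨a, b, fun e => hab (congrArg _ (Subtype.ext e))⟩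
  obtain ⟨N, ⟨hNn, hNt⟩, hmax⟩ := (Set.toFinite {N : Subgroup G | N.Normal ∧ N ≠ ⊤}).exists_maximal
    ⟨⊥, inferInstance, bot_ne_top⟩
  haveI := hNn
  set π := QuotientGroup.mk' M
  have hπ : Function.Surjective π := QuotientGroup.mk'_surjective M
  rcases IsSimpleGroup.eq_bot_or_eq_top_of_normal ((N.subgroupOf A).map π)
      ((inferInstance : (N.subgroupOf A).Normal).map π hπ) with hb | ht
  · -- a section of the simple quotient
    haveI : Nontrivial (G ⧸ N) := by
      obtain ⟨x, hx⟩ : ∃ x, x ∉ N := by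
        by_contra! h
        exact hNt ((eq_top_iff' N).2 h)
      exact ⟨QuotientGroup.mk x, 1, fun e => hx ((QuotientGroup.eq_one_iff x).1 e)⟩
    haveI hs : IsSimpleGroup (G ⧸ N) := by
      refine ⟨fun K hK => ?_⟩
      set K' := K.comap (QuotientGroup.mk' N)
      have hle : N ≤ K' := (QuotientGroup.ker_mk' N).ge.trans (MonoidHom.ker_le_comap _ _)
      by_cases hK' : K' = ⊤
      · right
        rw [← map_comap_eq_self_of_surjective (QuotientGroup.mk'_surjective N) K]
        show K'.map _ = ⊤
        rw [hK']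
        exact map_top_of_surjective _ (QuotientGroup.mk'_surjective N)
      · left
        rw [← map_comap_eq_self_of_surjective (QuotientGroup.mk'_surjective N) K, Subgroup.map_eq_bot_iff,
          QuotientGroup.ker_mk']
        exact hmax ⟨hK.comap _, hK'⟩ hle
    set φ : A →* G ⧸ N := (QuotientGroup.mk' N).comp A.subtype
    have hle : φ.ker ≤ π.ker := by
      intro a ha
      have : a ∈ N.subgroupOf A := (QuotientGroup.eq_one_iff (a : G)).1 ha
      exact (Subgroup.map_eq_bot_iff _).1 hb this
    set f : φ.range →* A ⧸ M := φ.rangeRestrict.liftOfSurjective φ.rangeRestrict_surjective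
      ⟨π, by rwa [MonoidHom.ker_rangeRestrict]⟩
    have hfs : Function.Surjective f := fun y => by
      obtain ⟨a, rfl⟩ := hπ y
      exact ⟨φ.rangeRestrict a, MonoidHom.liftOfRightInverse_comp_apply _ _ _ _ a⟩
    have hGN : ¬ IsMulCommutative (G ⧸ N) := by
      intro h
      refine hnc ⟨⟨fun x y => ?_⟩⟩
      obtain ⟨a, rfl⟩ := hfs x
      obtain ⟨b, rfl⟩ := hfs y
      rw [← map_mul, ← map_mul]
      exact congrArg f (Subtype.ext (h.is_comm.comm _ _))
    set d : (⊤ : Subgroup G) ⧸ N.subgroupOf ⊤ ≃* G ⧸ N :=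
      QuotientGroup.congr (N.subgroupOf ⊤) N Subgroup.topEquiv (by
        ext x; exact ⟨fun ⟨y, hy, e⟩ => e ▸ hy, fun hx => ⟨⟨x, mem_top x⟩, hx, rfl⟩⟩)
    have hX := fam_congr d (hc ⊤ .top (N.subgroupOf ⊤) d.isSimpleGroup
      (fun h => hGN ⟨⟨fun x y => d.symm.injective (by rw [map_mul, map_mul]; exact h.is_comm.comm _ _)⟩⟩))
    exact fam_section hX φ.range hnc f hfs
  · -- a section of the normal subgroup
    have hlt : Nat.card N < n := hn ▸ lt_of_not_ge fun h => hNt (eq_top_of_le_card N h)
    have hcN : IsCompositionKGroupWith IsSuzukiOrPSL2OddPowerThree N := by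
      intro H hH K _ hs hK
      set e : H ≃* ↥(H.map N.subtype) := H.equivMapOfInjective N.subtype N.subtype_injective
      haveI : (K.map e.toMonoidHom).Normal := (inferInstance : K.Normal).map _ e.surjective
      set e' := QuotientGroup.congr K (K.map e.toMonoidHom) e rfl
      haveI := hs
      haveI := e'.symm.isSimpleGroup
      refine fam_congr e'.symm (hc _ (hH.trans' (Normal.isSubnormal inferInstance)) _ inferInstance
        fun h => hK ⟨⟨fun x y => e'.injective (by rw [map_mul, map_mul]; exact h.is_comm.comm _ _)⟩⟩)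
    have hKN := ih _ hlt rfl hcN
    set A' := A.subgroupOf N
    set ι : A' →* A := (N.subtype.comp A'.subtype).codRestrict A fun a => a.2
    have hι : Function.Surjective (π.comp ι) := fun y => by
      obtain ⟨a, ha, rfl⟩ := ht.symm ▸ mem_top y
      exact ⟨⟨⟨a, ha⟩, a.2⟩, rfl⟩
    set e := QuotientGroup.quotientKerEquivOfSurjective _ hι
    haveI := e.isSimpleGroup
    exact fam_congr e (hKN A' (π.comp ι).ker inferInstance fun h => hnc ⟨⟨fun x y =>
      e.symm.injective (by rw [map_mul, map_mul]; exact h.is_comm.comm _ _)⟩⟩)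

end CfsgLib.SFourHat
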