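import Cfsg.Agent.S2752
import Cfsg.Agent.Lib.SFourHat.Hered
import Cfsg.Agent.Lib.LocalEven.InvolvesFour
import Cfsg.Agent.Lib.PCore.Basic
import Mathlib.GroupTheory.SemidirectProduct

set_option autoImplicit false
set_option linter.unusedSectionVars false

/-!
The squared bounds on an irreducible section: for `A` elementary abelian in `S`, acting on the irreducible
`S`-section `Y / Y'`, both `|Y : F|` and `|T : Y'|` are at least `|A : kernel| ^ 2`.
-/

namespace CfsgLib.SFourHat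

open Subgroup Cfsg
open scoped commutatorElement

universe u

/-- Sections of images are sections. -/
theorem isKGroupWith_of_surjective {G Γ : Type u} [Group G] [Group Γ]
    (hG : IsKGroupWith IsSuzukiOrPSL2OddPowerThree G) (S : Subgroup G) (f : S →* Γ)
    (hf : Function.Surjective f) : IsKGroupWith IsSuzukiOrPSL2OddPowerThree Γ := by
  intro H N _ hs hnc
  set H' := (H.comap f).map S.subtype
  set eH := (H.comap f).equivMapOfInjective S.subtype S.subtype_injective
  set g : H' →* H := ((f.comp (H.comap f).subtype).codRestrict H fun a => a.2).comp eH.symm.toMonoidHom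
  have hg : Function.Surjective ((QuotientGroup.mk' N).comp g) := by
    refine (QuotientGroup.mk'_surjective N).comp (fun y => ?_)
    obtain ⟨h, hh⟩ := y
    obtain ⟨s, rfl⟩ := hf h
    refine ⟨eH ⟨s, hh⟩, Subtype.ext ?_⟩
    show f ((eH.symm (eH ⟨s, hh⟩) : H.comap f) : S) = f s
    rw [eH.symm_apply_apply]
  set e := QuotientGroup.quotientKerEquivOfSurjective _ hg
  haveI := hs
  haveI := e.isSimpleGroup
  exact fam_congr e (hG H' _ inferInstance fun h => hnc ⟨⟨fun x y =>
    e.symm.injective (by rw [map_mul, map_mul]; exact h.is_comm.comm _ _)⟩⟩)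

/-- Composition factors are sections. -/
theorem composition_of_isKGroupWith {Γ : Type u} [Group Γ]
    (h : IsKGroupWith IsSuzukiOrPSL2OddPowerThree Γ) :
    IsCompositionKGroupWith IsSuzukiOrPSL2OddPowerThree Γ :=
  fun H _ N _ hs hn => h H N hs hn

/-- The bounds for a group of automorphisms of an elementary abelian 2-group. -/
theorem square_bound {M : Type u} [CommGroup M] [Finite M] (hM : ∀ m : M, m ^ 2 = 1)
    (Γ : Subgroup (MulAut M)) (hO : pCore 2 Γ = ⊥) (hS3 : ¬ Involves (Equiv.Perm (Fin 3)) Γ)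
    (hK : IsKGroupWith IsSuzukiOrPSL2OddPowerThree Γ) (A : Subgroup Γ)
    (hA : IsElementaryAbelian 2 A) (F T : Subgroup M)
    (hF' : ∀ m ∈ F, ∀ a ∈ A, (a : MulAut M) m = m)
    (hT : ∀ (m : M), ∀ a ∈ A, m * ((a : MulAut M) m)⁻¹ ∈ T) :
    Nat.card A ^ 2 ≤ F.index ∧ Nat.card A ^ 2 ≤ Nat.card T := by
  haveI : Finite (MulAut M) := inferInstance
  set L := M ⋊[Γ.subtype] Γ
  haveI : Finite L := Finite.of_equiv _ SemidirectProduct.equivProd.symm
  set iM : M →* L := SemidirectProduct.inl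
  set iG : Γ →* L := SemidirectProduct.inr
  have hiM : Function.Injective iM := SemidirectProduct.inl_injective
  have hiG : Function.Injective iG := SemidirectProduct.inr_injective
  have hconj : ∀ (g : Γ) (m : M), iG g * iM m * (iG g)⁻¹ = iM ((g : MulAut M) m) := fun g m =>
    ((SemidirectProduct.inl_aut (φ := Γ.subtype) g m).trans (by rw [map_inv])).symm
  set MM := iM.range
  set GG := iG.range
  set AA := A.map iG
  set e : Γ ≃* GG := MonoidHom.ofInjective hiG
  have hMM : IsElementaryAbelian 2 MM := by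
    refine ⟨CfsgLib.PLocal.isMulCommutative_of_forall ?_, ?_⟩
    · rintro _ ⟨a, rfl⟩ _ ⟨b, rfl⟩
      rw [← map_mul, ← map_mul, mul_comm]
    · rintro _ ⟨a, rfl⟩
      rw [← map_pow, hM, map_one]
  have hGM : GG ≤ normalizer (MM : Set L) := by
    rintro _ ⟨g, rfl⟩
    rw [mem_normalizer_iff_map_conj_eq]
    refine le_antisymm ?_ ?_
    · rintro _ ⟨_, ⟨m, rfl⟩, rfl⟩
      exact ⟨_, (hconj g m).symm⟩
    · rintro _ ⟨m, rfl⟩
      refine ⟨iM ((g : MulAut M).symm m), ⟨_, rfl⟩, ?_⟩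
      show iG g * _ * (iG g)⁻¹ = _
      rw [hconj, MulEquiv.apply_symm_apply]
  have hfix : ∀ (g : Γ) (m : M), iM m * iG g = iG g * iM m ↔ (g : MulAut M) m = m := fun g m => by
    rw [eq_comm, ← mul_inv_eq_iff_eq_mul, hconj, hiM.eq_iff]
  have hf : GG ⊓ centralizer (MM : Set L) = ⊥ := by
    refine eq_bot_iff.2 ?_
    rintro _ ⟨⟨g, rfl⟩, hg⟩
    have : g = 1 := Subtype.ext (MulEquiv.ext fun m => (hfix g m).1 (mem_centralizer_iff.1 hg _ ⟨m, rfl⟩))
    rw [this, map_one]
    exact one_mem _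
  obtain ⟨h1, h2⟩ := Cfsg.Agent.S2752.result MM GG hMM hGM hf (CfsgLib.PCore.pCore_eq_bot_of_equiv e hO)
    (fun h => hS3 (CfsgLib.LocalEven.Involved.involves_of_surjective e.toMonoidHom e.surjective h))
    (composition_of_isKGroupWith (isKGroupWith_of_surjective hK ⊤
      (e.toMonoidHom.comp (topEquiv : (⊤ : Subgroup Γ) ≃* Γ).toMonoidHom)
      (e.surjective.comp (topEquiv : (⊤ : Subgroup Γ) ≃* Γ).surjective)))
    AA (by rintro _ ⟨a, -, rfl⟩; exact ⟨a, rfl⟩) (CfsgLib.PLocal.elemAb_map _ hA)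
  have hcA : Nat.card AA = Nat.card A := card_map_of_injective hiG
  rw [hcA] at h1 h2
  constructor
  · have hle : F.map iM ≤ MM ⊓ centralizer (AA : Set L) := by
      rintro _ ⟨m, hm, rfl⟩
      refine ⟨⟨m, rfl⟩, mem_centralizer_iff.2 ?_⟩
      rintro _ ⟨a, ha, rfl⟩
      exact ((hfix a m).2 (hF' m hm a ha)).symm
    have h3 := Nat.card_le_card_of_injective _ (inclusion_injective hle)
    rw [card_map_of_injective hiM] at h3
    have h4 : Nat.card A ^ 2 * Nat.card F ≤ F.index * Nat.card F := by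
      rw [mul_comm F.index, card_mul_index]
      calc Nat.card A ^ 2 * Nat.card F ≤ _ := Nat.mul_le_mul_left _ h3
        _ ≤ Nat.card MM := h1
        _ = Nat.card M := Nat.card_congr (MonoidHom.ofInjective hiM).toEquiv.symm
    exact Nat.le_of_mul_le_mul_right h4 Nat.card_pos
  · have hle : ⁅MM, AA⁆ ≤ T.map iM := by
      rw [commutator_le]
      rintro _ ⟨m, rfl⟩ _ ⟨a, ha, rfl⟩
      refine ⟨_, hT m a ha, ?_⟩
      rw [map_mul, map_inv, ← hconj, commutatorElement_def, mul_inv_rev, mul_inv_rev, inv_inv]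
      simp only [mul_assoc]
    calc Nat.card A ^ 2 ≤ _ := h2
      _ ≤ Nat.card (T.map iM) := Nat.card_le_card_of_injective _ (inclusion_injective hle)
      _ = Nat.card T := card_map_of_injective hiM

/-- The action of the normalizer of `Y'` and `Y` on `Y / Y'`. -/
def secHom {G : Type u} [Group G] (S Y Y' : Subgroup G) [(Y'.subgroupOf Y).Normal]
    (hY : S ≤ normalizer (Y : Set G)) (hY' : S ≤ normalizer (Y' : Set G)) :
    S →* MulAut (Y ⧸ Y'.subgroupOf Y) where
  toFun s := QuotientGroup.congr _ _ (Y.normalizerMonoidHom (inclusion hY s)) (by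
    ext y
    constructor
    · rintro ⟨z, hz, rfl⟩
      exact (mem_normalizer_iff.1 (hY' s.2) (z : G)).1 hz
    · intro hy
      refine ⟨(Y.normalizerMonoidHom (inclusion hY s)).symm y, ?_, MulEquiv.apply_symm_apply _ _⟩
      show ((((Y.normalizerMonoidHom (inclusion hY s)).symm y : Y)) : G) ∈ Y'
      refine (mem_normalizer_iff.1 (hY' s.2) _).2 ?_
      have e : (s : G) * ((Y.normalizerMonoidHom (inclusion hY s)).symm y : Y) * (s : G)⁻¹ = (y : G) :=
        congrArg Subtype.val (MulEquiv.apply_symm_apply (Y.normalizerMonoidHom (inclusion hY s)) y)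
      rw [e]
      exact hy)
  map_one' := by
    refine MulEquiv.ext fun q => QuotientGroup.induction_on q fun y => congrArg QuotientGroup.mk ?_
    exact Subtype.ext (by show (1 : G) * y * 1⁻¹ = y; group)
  map_mul' s t := by
    refine MulEquiv.ext fun q => QuotientGroup.induction_on q fun y => congrArg QuotientGroup.mk ?_
    exact Subtype.ext (by show (s * t : G) * y * (s * t : G)⁻¹ = s * (t * y * (t : G)⁻¹) * (s : G)⁻¹; group)

variable {G : Type u} [Group G] [Finite G]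

/-- The bounds on an irreducible elementary section. -/
theorem section_bound (Q : Subgroup G) [Q.Normal] (hQ : IsPGroup 2 Q)
    (hS3 : ¬ Involves (Equiv.Perm (Fin 3)) (G ⧸ Q))
    (hK : IsKGroupWith IsSuzukiOrPSL2OddPowerThree G) {S Y Y' : Subgroup G}
    (hQS : Q ≤ S) (hY : S ≤ normalizer (Y : Set G)) (hY' : S ≤ normalizer (Y' : Set G))
    (hlt : Y' < Y) (hsq : ∀ y ∈ Y, y ^ 2 ∈ Y') (hcomm : ∀ y ∈ Y, ∀ z ∈ Y, ⁅y, z⁆ ∈ Y')
    (hirr : ∀ T : Subgroup G, Y' ≤ T → T ≤ Y → S ≤ normalizer (T : Set G) → T = Y' ∨ T = Y)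
    {A A₂ : Subgroup G} (hAS : A ≤ S) (hA : IsElementaryAbelian 2 A)
    (hA₂ : ∀ z ∈ A, (∀ y ∈ Y, ⁅z, y⁆ ∈ Y') → z ∈ A₂)
    {F T : Subgroup G} (hFY : F ≤ Y) (hY'F : Y' ≤ F) (hF : ∀ y ∈ F, ∀ z ∈ A, ⁅z, y⁆ ∈ Y')
    (hTY : Y' ≤ T) (hT : ∀ y ∈ Y, ∀ z ∈ A, ⁅y, z⁆ ∈ T) :
    A₂.relIndex A ^ 2 ≤ F.relIndex Y ∧ A₂.relIndex A ^ 2 ≤ Y'.relIndex T := by
  haveI : Fact (Nat.Prime 2) := ⟨Nat.prime_two⟩
  haveI hn : (Y'.subgroupOf Y).Normal := by
    constructor
    intro y hy g
    have h := hcomm g g.2 y y.2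
    rw [mem_subgroupOf] at hy ⊢
    have e : (g : G) * y * (g : G)⁻¹ = ⁅(g : G), (y : G)⁆ * y := by rw [commutatorElement_def]; group
    rw [coe_mul, coe_mul, coe_inv, e]
    exact mul_mem h hy
  letI : CommGroup (Y ⧸ Y'.subgroupOf Y) :=
    { (inferInstance : Group (Y ⧸ Y'.subgroupOf Y)) with
      mul_comm := fun a b => QuotientGroup.induction_on a fun y => QuotientGroup.induction_on b fun z => by
        rw [← QuotientGroup.mk_mul, ← QuotientGroup.mk_mul, QuotientGroup.eq, mem_subgroupOf]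
        have h := hcomm _ (inv_mem z.2) _ (inv_mem y.2)
        rw [commutatorElement_def, inv_inv, inv_inv] at h
        simpa [mul_assoc] using h }
  set π := QuotientGroup.mk' (Y'.subgroupOf Y)
  have hπ : Function.Surjective π := QuotientGroup.mk'_surjective _
  have hM : ∀ q : Y ⧸ Y'.subgroupOf Y, q ^ 2 = 1 := fun q => QuotientGroup.induction_on q fun y => by
    rw [← QuotientGroup.mk_pow, QuotientGroup.eq_one_iff, mem_subgroupOf]
    exact hsq y y.2
  set φ := secHom S Y Y' hY hY'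
  have hφ : ∀ (s : S) (y : Y), φ s (π y) = π ⟨(s : G) * y * (s : G)⁻¹,
      (mem_normalizer_iff.1 (hY s.2) (y : G)).1 y.2⟩ := fun _ _ => rfl
  have htriv : ∀ s : S, φ s = 1 ↔ ∀ y ∈ Y, ⁅(s : G), y⁆ ∈ Y' := by
    intro s
    constructor
    · intro h y hy
      have h1 : φ s (π ⟨y, hy⟩) = π ⟨y, hy⟩ := by rw [h]; rfl
      rw [hφ, eq_comm, QuotientGroup.mk'_apply, QuotientGroup.mk'_apply, QuotientGroup.eq,
        mem_subgroupOf] at h1
      have h2 : y * (y⁻¹ * (s * y * (s : G)⁻¹)) * y⁻¹ ∈ Y' := by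
        have := hn.conj_mem ⟨_, mul_mem (inv_mem hy) ((mem_normalizer_iff.1 (hY s.2) y).1 hy)⟩ h1 ⟨y, hy⟩
        exact this
      rw [commutatorElement_def]
      simpa [mul_assoc] using h2
    · intro h
      refine MulEquiv.ext fun q => ?_
      obtain ⟨y, rfl⟩ := hπ q
      rw [hφ, MulAut.one_apply, eq_comm, QuotientGroup.mk'_apply, QuotientGroup.mk'_apply,
        QuotientGroup.eq, mem_subgroupOf]
      have h2 := hn.conj_mem ⟨_, hlt.le (h y y.2)⟩ (h y y.2) y⁻¹
      show (y : G)⁻¹ * _ ∈ Y'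
      have : ((y⁻¹ * ⟨_, hlt.le (h y y.2)⟩ * y⁻¹⁻¹ : Y) : G) ∈ Y' := h2
      simpa [commutatorElement_def, mul_assoc] using this
  set Γ := φ.range
  -- no normal 2-subgroups
  have hO : pCore 2 Γ = ⊥ := by
    set O := pCore 2 Γ
    have hOp : IsPGroup 2 O := CfsgLib.PCore.pCore_isPGroup
    let fx : Subgroup Y :=
      { carrier := {y | ∀ γ ∈ O, (γ : MulAut (Y ⧸ Y'.subgroupOf Y)) (π y) = π y}
        one_mem' := fun γ _ => by rw [map_one π, map_one]
        mul_mem' := fun {a b} ha hb γ hγ => by rw [map_mul π, map_mul, ha γ hγ, hb γ hγ]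
        inv_mem' := fun {a} ha γ hγ => by rw [map_inv π, map_inv, ha γ hγ] }
    have hS : S ≤ normalizer ((fx.map Y.subtype : Subgroup G) : Set G) := by
      intro s hs
      rw [mem_normalizer_iff_map_conj_eq]
      refine eq_of_le_of_card_ge ?_
        (card_map_of_injective (K := fx.map Y.subtype) (MulAut.conj s).injective).ge
      rintro _ ⟨_, ⟨y, hy, rfl⟩, rfl⟩
      refine ⟨⟨s * y * s⁻¹, (mem_normalizer_iff.1 (hY hs) (y : G)).1 y.2⟩, fun γ hγ => ?_, rfl⟩
      set σ : Γ := ⟨φ ⟨s, hs⟩, ⟨_, rfl⟩⟩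
      haveI : O.Normal := pCore_normal 2 _
      have h1 := hy (σ⁻¹ * γ * σ) (by simpa using Normal.conj_mem inferInstance γ hγ σ⁻¹)
      show (γ : MulAut _) (φ ⟨s, hs⟩ (π y)) = φ ⟨s, hs⟩ (π y)
      conv_rhs => rw [← h1]
      show _ = φ ⟨s, hs⟩ ((φ ⟨s, hs⟩)⁻¹ ((γ : MulAut _) (φ ⟨s, hs⟩ (π y))))
      exact (MulEquiv.apply_symm_apply _ _).symm
    have hle : Y' ≤ fx.map Y.subtype := fun y hy => by
      refine ⟨⟨y, hlt.le hy⟩, fun γ _ => ?_, rfl⟩
      have : π ⟨y, hlt.le hy⟩ = 1 := (QuotientGroup.eq_one_iff (⟨y, hlt.le hy⟩ : Y)).2 hy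
      rw [this, map_one]
    rcases hirr _ hle (map_subtype_le _) hS with h | h
    · -- there are nontrivial fixed points
      exfalso
      haveI : Fintype (Y ⧸ Y'.subgroupOf Y) := Fintype.ofFinite _
      have h2 : 2 ∣ Nat.card (Y ⧸ Y'.subgroupOf Y) := by
        obtain ⟨k, hk⟩ := (IsPGroup.iff_card (p := 2)).1
          (fun q : Y ⧸ Y'.subgroupOf Y => ⟨1, by rw [pow_one]; exact hM q⟩)
        rw [hk]
        refine dvd_pow_self 2 ?_
        rintro rfl
        refine hlt.not_ge fun y hy => ?_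
        haveI := (Nat.card_eq_one_iff_unique.1 (by rw [hk, pow_zero])).1
        have := (QuotientGroup.eq_one_iff (N := Y'.subgroupOf Y) (⟨y, hy⟩ : Y)).1 (Subsingleton.elim _ _)
        exact this
      obtain ⟨q, hq, hq1⟩ := hOp.exists_fixed_point_of_prime_dvd_card_of_fixed_point
        (Y ⧸ Y'.subgroupOf Y) h2 (a := 1) (fun γ => map_one ((γ : Γ) : MulAut (Y ⧸ Y'.subgroupOf Y)))
      obtain ⟨y, rfl⟩ := hπ q
      have hy' : y ∈ fx := fun γ hγ => hq ⟨γ, hγ⟩
      have hy : (y : G) ∈ Y' := h.le (mem_map_of_mem Y.subtype hy')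
      exact hq1 ((QuotientGroup.eq_one_iff y).2 hy).symm
    · refine eq_bot_iff.2 fun γ hγ => mem_bot.2 (Subtype.ext (MulEquiv.ext fun q => ?_))
      obtain ⟨y, rfl⟩ := hπ q
      obtain ⟨y', hy', e⟩ := h.ge y.2
      obtain rfl : y' = y := Subtype.ext e
      exact hy' γ hγ
  have hQk : ∀ s : S, (s : G) ∈ Q → φ s = 1 := by
    intro s hs
    have : (Q.subgroupOf S).map φ.rangeRestrict ≤ ⊥ := hO ▸ CfsgLib.PCore.le_pCore
      ((inferInstance : (Q.subgroupOf S).Normal).map _ φ.rangeRestrict_surjective)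
      ((hQ.comap_of_injective _ S.subtype_injective).map _)
    exact congrArg Subtype.val (mem_bot.1 (this (mem_map_of_mem _ (mem_subgroupOf.2 hs))))
  have hS3' : ¬ Involves (Equiv.Perm (Fin 3)) Γ := by
    intro h
    refine hS3 (CfsgLib.LocalEven.Involved.involves_of_subgroup (H := S.map (QuotientGroup.mk' Q)) ?_)
    set r : S →* S.map (QuotientGroup.mk' Q) := ((QuotientGroup.mk' Q).subgroupMap S)
    have hr : Function.Surjective r := MonoidHom.subgroupMap_surjective _ _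
    set f : S.map (QuotientGroup.mk' Q) →* Γ := r.liftOfSurjective hr ⟨φ.rangeRestrict, fun s hs => by
      rw [MonoidHom.ker_rangeRestrict]
      exact hQk s ((QuotientGroup.eq_one_iff (s : G)).1 (congrArg Subtype.val hs))⟩
    refine CfsgLib.LocalEven.Involved.involves_of_surjective f ?_ h
    intro γ
    obtain ⟨s, rfl⟩ := φ.rangeRestrict_surjective γ
    exact ⟨r s, MonoidHom.liftOfRightInverse_comp_apply _ _ _ _ s⟩
  have hKΓ := isKGroupWith_of_surjective hK S φ.rangeRestrict φ.rangeRestrict_surjective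
  set AΓ := (A.subgroupOf S).map φ.rangeRestrict
  have hAΓ : IsElementaryAbelian 2 AΓ := by
    refine CfsgLib.PLocal.elemAb_map _ ((CfsgLib.PLocal.elemAb_map_iff S.subtype_injective).1 ?_)
    rwa [map_subgroupOf_eq_of_le hAS]
  obtain ⟨h1, h2⟩ := square_bound hM Γ hO hS3' hKΓ AΓ hAΓ ((F.subgroupOf Y).map π) ((T.subgroupOf Y).map π)
    (by
      rintro _ ⟨y, hy, rfl⟩ _ ⟨s, hs, rfl⟩
      show φ s (π y) = π y
      rw [hφ, eq_comm, QuotientGroup.mk'_apply, QuotientGroup.mk'_apply, QuotientGroup.eq, mem_subgroupOf]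
      have h := hF y hy s hs
      have h2 := hn.conj_mem ⟨_, hlt.le h⟩ h y⁻¹
      show (y : G)⁻¹ * ((s : G) * y * (s : G)⁻¹) ∈ Y'
      have : ((y⁻¹ * ⟨_, hlt.le h⟩ * y⁻¹⁻¹ : Y) : G) ∈ Y' := h2
      simpa [commutatorElement_def, mul_assoc] using this)
    (by
      rintro q _ ⟨s, hs, rfl⟩
      obtain ⟨y, rfl⟩ := hπ q
      show π y * (φ s (π y))⁻¹ ∈ _
      rw [hφ, ← map_inv, ← map_mul]
      refine mem_map_of_mem π ?_
      rw [mem_subgroupOf]
      show (y : G) * ((s : G) * y * (s : G)⁻¹)⁻¹ ∈ T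
      have h := hT y y.2 s hs
      rw [commutatorElement_def] at h
      simpa [mul_assoc] using h)
  have ha : A₂.relIndex A ≤ Nat.card AΓ := by
    set K := φ.rangeRestrict.ker
    have e1 : Nat.card AΓ = K.relIndex (A.subgroupOf S) := by
      rw [← relIndex_bot_left, ← relIndex_comap, MonoidHom.comap_bot]
    have e2 : K.relIndex (A.subgroupOf S) = (K.map S.subtype).relIndex A := by
      rw [← relIndex_map_map_of_injective K (A.subgroupOf S) S.subtype_injective,
        map_subgroupOf_eq_of_le hAS]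
    have hle : K.map S.subtype ⊓ A ≤ A₂ := by
      rintro _ ⟨⟨s, hs, rfl⟩, hsA⟩
      exact hA₂ _ hsA ((htriv s).1 (congrArg Subtype.val hs))
    rw [e1, e2, ← inf_relIndex_right (K.map S.subtype), ← inf_relIndex_right A₂]
    exact Nat.le_of_dvd (Nat.pos_of_ne_zero index_ne_zero_of_finite)
      (relIndex_dvd_of_le_left A (le_inf hle inf_le_right))
  have eF : ((F.subgroupOf Y).map π).index = F.relIndex Y :=
    index_map_eq _ hπ (by rw [QuotientGroup.ker_mk']; exact fun y hy => hY'F hy)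
  have eT : Nat.card ((T.subgroupOf Y).map π) ≤ Y'.relIndex T := by
    rw [← relIndex_bot_left, ← relIndex_comap, MonoidHom.comap_bot, QuotientGroup.ker_mk',
      ← relIndex_map_map_of_injective (Y'.subgroupOf Y) (T.subgroupOf Y) Y.subtype_injective,
      map_subgroupOf_eq_of_le hlt.le, subgroupOf_map_subtype]
    exact relIndex_le_of_le_right inf_le_left index_ne_zero_of_finite
  refine ⟨?_, ?_⟩
  · rw [← eF]
    exact (Nat.pow_le_pow_left ha 2).trans h1
  · exact (Nat.pow_le_pow_left ha 2).trans (h2.trans eT)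

end CfsgLib.SFourHat
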