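import Cfsg.Agent.Lib.SFourHat.Radical
import Cfsg.Agent.Lib.SFourHat.Orbit
import Cfsg.Agent.Lib.SFourHat.Section
import Cfsg.Agent.Lib.PLocal.Thompson
import Mathlib.GroupTheory.Nilpotent

set_option autoImplicit false
set_option linter.unusedSectionVars false
set_option maxHeartbeats 1600000

/-!
The main step: a subgroup `E` with the minimality property keeps the Thompson subgroup centralizing
`⟨U ^ E⟩`.
-/

namespace CfsgLib.SFourHat

open Subgroup Cfsg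
open scoped commutatorElement

universe u

variable {G : Type u} [Group G] [Finite G]

theorem card_eq_mul_relIndex'' (H K : Subgroup G) : Nat.card K = Nat.card ↥(K ⊓ H) * H.relIndex K := by
  rw [← inf_relIndex_right H K, inf_comm H K, ← relIndex_bot_left (K ⊓ H), relIndex_mul_relIndex _ _ _
    bot_le inf_le_left, relIndex_bot_left]

/-- An element is in every subgroup containing an odd power and a `2 ^ k`-th power of it. -/
theorem mem_sup_of_pows {H K : Subgroup G} {x : G} {m k : ℕ} (hm : Odd m) (hH : x ^ m ∈ H)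
    (hK : x ^ 2 ^ k ∈ K) : ∃ a ∈ K, ∃ b ∈ H, x = a * b := by
  have hco : Nat.gcd (2 ^ k) m = 1 := (Nat.coprime_two_left.2 hm).pow_left k
  have h := Nat.gcd_eq_gcd_ab (2 ^ k) m
  rw [hco] at h
  refine ⟨(x ^ 2 ^ k) ^ Nat.gcdA (2 ^ k) m, zpow_mem hK _, (x ^ m) ^ Nat.gcdB (2 ^ k) m, zpow_mem hH _, ?_⟩
  rw [← zpow_natCast, ← zpow_natCast x m, ← zpow_mul, ← zpow_mul, ← zpow_add, ← h, Nat.cast_one, zpow_one]

/-- A subgroup of a nilpotent group of operators fixes a point in every larger invariant subgroup. -/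
theorem exists_fixed_above {P Q T B : Subgroup G} [Fact (Nat.Prime 2)] (hP : IsPGroup 2 P) (hQP : Q ≤ P)
    (hTP : T ≤ P) (hQT : Q ≤ normalizer (T : Set G)) (hBT : B < T) :
    ∃ y ∈ T, y ∉ B ∧ ∀ q ∈ Q, ⁅q, y⁆ ∈ B := by
  haveI := hP.isNilpotent
  classical
  have hex : ∃ n, ∃ y : P, (y : G) ∈ T ∧ (y : G) ∉ B ∧ y ∈ Subgroup.upperCentralSeries P n := by
    obtain ⟨y, hyT, hyB⟩ := SetLike.exists_of_lt hBT
    obtain ⟨n, hn⟩ := Group.IsNilpotent.nilpotent P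
    exact ⟨n, ⟨y, hTP hyT⟩, hyT, hyB, hn ▸ mem_top _⟩
  obtain ⟨y, hyT, hyB, hy⟩ := Nat.find_spec hex
  refine ⟨y, hyT, hyB, fun q hq => ?_⟩
  rcases hn : Nat.find hex with _ | n
  · rw [hn, Subgroup.upperCentralSeries_zero, mem_bot] at hy
    exact absurd (hy ▸ one_mem B : (y : G) ∈ B) hyB
  · rw [hn, Subgroup.mem_upperCentralSeries_succ_iff] at hy
    by_contra hq'
    have hc : ⁅(⟨q, hQP hq⟩ : P), y⁆ ∈ Subgroup.upperCentralSeries P n := by
      have := inv_mem (hy ⟨q, hQP hq⟩)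
      simpa [commutatorElement_def, mul_assoc] using this
    refine Nat.find_min hex (hn ▸ Nat.lt_succ_self n) ⟨⁅(⟨q, hQP hq⟩ : P), y⁆, ?_, hq', hc⟩
    show ⁅q, (y : G)⁆ ∈ T
    exact mul_mem (conj_mem_of_le_normalizer hQT hq hyT) (inv_mem hyT)

/-- The step. -/
theorem step (P : Sylow 2 G) {Q Q₁ N₀ : Subgroup G} [Q.Normal] [Q₁.Normal] [N₀.Normal]
    (hQP : Q ≤ (P : Subgroup G)) (hS3 : ¬ Involves (Equiv.Perm (Fin 3)) (G ⧸ Q))
    (hK : IsKGroupWith IsSuzukiOrPSL2OddPowerThree G) (hQ₁P : Q₁ ≤ (P : Subgroup G))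
    (hN₀Q : N₀ ≤ Q) (hN₀ : IsElementaryAbelian 2 N₀)
    {E D U : Subgroup G} (hPE : (P : Subgroup G) ≤ normalizer (E : Set G))
    (hPU : (P : Subgroup G) ≤ normalizer (U : Set G)) (hUN : U ≤ N₀) (hDE : D ≤ E) (hEQ : E ⊓ Q ≤ Q₁)
    (hDU : D ≤ normalizer (U : Set G))
    (hmin : ∀ K : Subgroup G, K ≤ E → E ⊔ (P : Subgroup G) ≤ normalizer (K : Set G) → K = E ∨ K ≤ D)
    (hD : ∀ x ∈ D, ∃ m : ℕ, Odd m ∧ x ^ m ∈ Q) (hodd : ∃ c ∈ E, c ∉ D ∧ Odd (orderOf c))
    (hJU : CfsgLib.PLocal.thompson 2 (P : Subgroup G) ≤ centralizer (U : Set G)) (hHalf : Half Q₁ U)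
    (hEU : ¬ E ≤ normalizer (U : Set G)) :
    CfsgLib.PLocal.thompson 2 (P : Subgroup G) ≤ centralizer (orbitSup E U : Set G) := by
  haveI : Fact (Nat.Prime 2) := ⟨Nat.prime_two⟩
  set S := E ⊔ (P : Subgroup G) with hSdef
  set N := orbitSup E U with hNdef
  have hES : E ≤ S := le_sup_left
  have hPS : (P : Subgroup G) ≤ S := le_sup_right
  have hSE : S ≤ normalizer (E : Set G) := sup_le le_normalizer hPE
  have hSN : S ≤ normalizer (N : Set G) :=
    sup_le (le_normalizer_orbitSup_self E U) (le_normalizer_orbitSup hPE hPU)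
  have hUleN : U ≤ N := le_orbitSup E U
  have hNN₀ : N ≤ N₀ := orbitSup_le_of_normal hUN
  have hNe : IsElementaryAbelian 2 N := CfsgLib.PLocal.elemAb_of_le hN₀ hNN₀
  have hNQ : N ≤ Q := hNN₀.trans hN₀Q
  have hNP : N ≤ (P : Subgroup G) := hNQ.trans hQP
  have hQU : Q ≤ normalizer (U : Set G) := hQP.trans hPU
  have hQ₁U : Q₁ ≤ normalizer (U : Set G) := hQ₁P.trans hPU
  set C := S ⊓ centralizer (N : Set G)
  have hSC : S ≤ normalizer (C : Set G) := le_normalizer_of_conj_mem fun s hs x hx =>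
    mem_inf.2 ⟨mul_mem (mul_mem hs (mem_inf.1 hx).1) (inv_mem hs), mem_centralizer_iff.2 fun w hw => by
      have hw' := conj_mem_of_le_normalizer hSN (inv_mem hs) hw
      have h1 := mem_centralizer_iff.1 hx.2 _ hw'
      calc w * (s * x * s⁻¹) = s * ((s⁻¹ * w * s⁻¹⁻¹) * x) * s⁻¹ := by group
        _ = s * (x * (s⁻¹ * w * s⁻¹⁻¹)) * s⁻¹ := by rw [h1]
        _ = _ := by group⟩
  obtain ⟨R, hCR, hRS, hSR, hR2, hRmax⟩ := exists_radical inf_le_left hSC
  obtain ⟨c₀, hc₀E, hc₀D, hc₀o⟩ := hodd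
  have hEC : ¬ E ≤ C := fun h => hEU (fun c hc => centralizer_le_normalizer _
    (centralizer_le (SetLike.coe_subset_coe.2 hUleN) (h hc).2))
  have hCED : C ⊓ E ≤ D := by
    refine (hmin _ inf_le_right fun s hs => inf_normalizer_le_normalizer_inf ⟨hSC hs, hSE hs⟩).resolve_left
      fun h => hEC (h ▸ inf_le_left)
  have hRED : R ⊓ E ≤ D := by
    refine (hmin _ inf_le_right fun s hs => inf_normalizer_le_normalizer_inf ⟨hSR hs, hSE hs⟩).resolve_left
      fun h => ?_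
    obtain ⟨k, hk⟩ := hR2 c₀ (h.ge hc₀E).1
    obtain ⟨a, ha, b, hb, hab⟩ := mem_sup_of_pows (H := C ⊓ E) (K := C ⊓ E) (x := c₀) hc₀o
      (by rw [pow_orderOf_eq_one]; exact one_mem _) (mem_inf.2 ⟨hk, pow_mem hc₀E _⟩)
    exact hc₀D (hCED (hab ▸ mul_mem ha hb))
  have hsplit : ∀ x ∈ R ⊓ E, ∃ a ∈ C ⊓ E, ∃ q ∈ E ⊓ Q, x = a * q := by
    intro x hx
    obtain ⟨m, hm, hmQ⟩ := hD x (hRED hx)
    obtain ⟨k, hk⟩ := hR2 x hx.1
    exact mem_sup_of_pows hm (mem_inf.2 ⟨pow_mem hx.2 _, hmQ⟩) (mem_inf.2 ⟨hk, pow_mem hx.2 _⟩)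
  set Lk := likeGroup Q₁ S E U hQ₁U
  have hQ₁p : IsPGroup 2 Q₁ := P.isPGroup'.to_le hQ₁P
  have hLR : Lk ≤ R := hRmax Lk (fun x hx => hx.1) (le_normalizer_likeGroup hQ₁U hPE hPU) fun x hx => by
    obtain ⟨k, hk⟩ := exists_pow_mem_centralizer hQ₁p hx
    exact ⟨k, mem_inf.2 ⟨pow_mem hx.1 _, hk⟩⟩
  -- elements acting like `Q₁`
  have hlike : ∀ z ∈ S, z ∈ centralizer (U : Set G) →
      (∀ c ∈ E, ∃ q ∈ E ⊓ Q, ∀ u ∈ U, z⁻¹ * c⁻¹ * z * c * u * (z⁻¹ * c⁻¹ * z * c)⁻¹ = q * u * q⁻¹) →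
      z ∈ Lk := by
    intro z hzS hzU h
    refine ⟨hzS, fun c hc => ?_⟩
    obtain ⟨q, hq, hqu⟩ := h c hc
    refine ⟨c * q * c⁻¹, Normal.conj_mem inferInstance q (hEQ hq) c, fun u hu => ?_⟩
    have hu' : q * u * q⁻¹ ∈ U := conj_mem_of_le_normalizer hQU hq.2 hu
    calc z * (c * u * c⁻¹) * z⁻¹
        = c * (z * (z⁻¹ * c⁻¹ * z * c * u * (z⁻¹ * c⁻¹ * z * c)⁻¹) * z⁻¹) * c⁻¹ := by group
      _ = c * (z * (q * u * q⁻¹) * z⁻¹) * c⁻¹ := by rw [hqu u hu]
      _ = c * (q * u * q⁻¹) * c⁻¹ := by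
          rw [← mem_centralizer_iff.1 hzU _ hu', mul_inv_cancel_right]
      _ = _ := by group
  have hcomE : ∀ z ∈ S, ∀ c ∈ E, z⁻¹ * c⁻¹ * z * c ∈ E := fun z hz c hc => by
    refine mul_mem ?_ hc
    simpa using conj_mem_of_le_normalizer hSE (inv_mem hz) (inv_mem hc)
  have hlike₁ : ∀ z ∈ R, z ∈ centralizer (U : Set G) → z ∈ Lk := by
    intro z hzR hzU
    refine hlike z (hRS hzR) hzU fun c hc => ?_
    have hdR : z⁻¹ * c⁻¹ * z * c ∈ R := by
      have := mul_mem (inv_mem hzR) (conj_mem_of_le_normalizer hSR (inv_mem (hES hc)) hzR)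
      simpa [mul_assoc] using this
    obtain ⟨a, ha, q, hq, e⟩ := hsplit _ (mem_inf.2 ⟨hdR, hcomE z (hRS hzR) c hc⟩)
    refine ⟨q, hq, fun u hu => ?_⟩
    have hu' := hUleN (conj_mem_of_le_normalizer hQU hq.2 hu)
    rw [e]
    calc a * q * u * (a * q)⁻¹ = a * (q * u * q⁻¹) * a⁻¹ := by group
      _ = q * u * q⁻¹ := by rw [← mem_centralizer_iff.1 ha.1.2 _ hu', mul_inv_cancel_right]
  have hlike₂ : ∀ z ∈ S, z ∈ centralizer (U : Set G) → z ^ 2 = 1 →
      (∀ c ∈ E, z⁻¹ * c⁻¹ * z * c ∈ D) → z ∈ Lk := by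
    intro z hzS hzU hz2 hzD
    refine hlike z hzS hzU fun c hc => ?_
    set d := z⁻¹ * c⁻¹ * z * c
    have hdD : d ∈ D := hzD c hc
    obtain ⟨m, hm, hdm⟩ := hD d hdD
    refine ⟨d ^ m, mem_inf.2 ⟨pow_mem (hDE hdD) _, hdm⟩, fun u hu => ?_⟩
    have hsq : ∀ v ∈ U, d ^ 2 * v * (d ^ 2)⁻¹ = v := by
      intro v hv
      have hv1 : d * v * d⁻¹ ∈ U := conj_mem_of_le_normalizer hDU hdD hv
      have hzd : (z * d) ^ 2 = 1 := by
        rw [show z * d = c⁻¹ * z * c by simp only [d]; group]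
        calc (c⁻¹ * z * c) ^ 2 = c⁻¹ * z ^ 2 * c := by rw [pow_two, pow_two]; group
          _ = 1 := by rw [hz2, mul_one, inv_mul_cancel]
      have hz' : ∀ w ∈ U, z * w * z⁻¹ = w := fun w hw => by
        rw [← mem_centralizer_iff.1 hzU w hw, mul_inv_cancel_right]
      have hv2 : d * (d * v * d⁻¹) * d⁻¹ ∈ U := conj_mem_of_le_normalizer hDU hdD hv1
      calc d ^ 2 * v * (d ^ 2)⁻¹ = d * (d * v * d⁻¹) * d⁻¹ := by rw [pow_two]; group
        _ = z * (d * (d * v * d⁻¹) * d⁻¹) * z⁻¹ := (hz' _ hv2).symm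
        _ = z * (d * (z * (d * v * d⁻¹) * z⁻¹) * d⁻¹) * z⁻¹ := by rw [hz' _ hv1]
        _ = (z * d) ^ 2 * v * ((z * d) ^ 2)⁻¹ := by rw [pow_two]; group
        _ = v := by rw [hzd, one_mul, inv_one, mul_one]
    obtain ⟨j, rfl⟩ := hm
    have hj : ∀ i : ℕ, ∀ v ∈ U, d ^ (2 * i) * v * (d ^ (2 * i))⁻¹ = v := by
      intro i
      induction i with
      | zero => simp
      | succ i ih =>
        intro v hv
        calc d ^ (2 * (i + 1)) * v * (d ^ (2 * (i + 1)))⁻¹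
            = d ^ (2 * i) * (d ^ 2 * v * (d ^ 2)⁻¹) * (d ^ (2 * i))⁻¹ := by
              rw [mul_add, mul_one, pow_add]; group
          _ = v := by rw [hsq v hv, ih v hv]
    have hu1 : d * u * d⁻¹ ∈ U := conj_mem_of_le_normalizer hDU hdD hu
    calc d * u * d⁻¹ = d ^ (2 * j) * (d * u * d⁻¹) * (d ^ (2 * j))⁻¹ := (hj j _ hu1).symm
      _ = _ := by rw [pow_succ]; group
  -- the inequality for the subgroups acting like `Q₁`
  have hHL : Half Lk N := by
    refine half_iSup _ fun c => ?_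
    intro R' hR' he hn
    refine (hHalf.conj (c : G) (normalizer_eq_top Q₁ ▸ mem_top _)).of_like ?_ ?_ he hn
    · refine le_normalizer_of_conj_mem ?_
      rintro q hq _ ⟨u, hu, rfl⟩
      obtain ⟨u', hu', e⟩ := conj_conj_mem hQ₁U hq (c : G) hu
      exact ⟨u', hu', e.symm⟩
    · intro x hx
      obtain ⟨q, hq, h⟩ := (hR' hx).2 c c.2
      refine ⟨q, hq, ?_⟩
      rintro _ ⟨u, hu, rfl⟩
      exact h u hu
  rw [CfsgLib.PLocal.thompson_le_iff]
  intro A hA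
  by_contra hAN
  have hAe := hA.elem
  have hAP := hA.le
  have hAS : A ≤ S := hAP.trans hPS
  have hAU : A ≤ centralizer (U : Set G) := hA.le_thompson.trans hJU
  have hAA : A ≤ centralizer (A : Set G) := fun a ha =>
    mem_centralizer_iff.2 fun b hb => CfsgLib.PLocal.elemAb_commute hAe hb ha
  set a := (centralizer (N : Set G)).relIndex A with hadef
  set cN := (centralizer (A : Set G)).relIndex N with hcdef
  have hca : cN ≤ a := by
    set B := A ⊓ centralizer (N : Set G)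
    have hB : IsElementaryAbelian 2 (B ⊔ N : Subgroup G) :=
      CfsgLib.PLocal.elemAb_sup (CfsgLib.PLocal.elemAb_of_le hAe inf_le_left) hNe
        (inf_le_right : A ⊓ centralizer (N : Set G) ≤ _)
    have h1 := hA.2.2 _ (sup_le (inf_le_left.trans hAP) hNP) hB
    have h2 : Nat.card B * B.relIndex (B ⊔ N) = Nat.card ↥(B ⊔ N) := by
      rw [← relIndex_bot_left, relIndex_mul_relIndex _ _ _ bot_le le_sup_left, relIndex_bot_left]
    have h3 : cN ≤ B.relIndex (B ⊔ N) :=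
      (Nat.le_of_dvd (relIndex_pos' _ _) (relIndex_dvd_of_le_left N (inf_le_left.trans hAA))).trans
        (relIndex_le_of_le_right le_sup_right index_ne_zero_of_finite)
    rw [card_eq_mul_relIndex'' (centralizer (N : Set G)) A, ← h2] at h1
    exact h3.trans (Nat.le_of_mul_le_mul_left h1 Nat.card_pos)
  set A₂ := A ⊓ R with hA₂def
  have hA₂L : A₂ ≤ Lk := fun z hz => hlike₁ z hz.2 (hAU hz.1)
  set a₂ := (centralizer (N : Set G)).relIndex A₂ with ha₂def
  set t := A₂.relIndex A with htdef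
  have hat : a = a₂ * t := by
    have hle : A ⊓ centralizer (N : Set G) ≤ A₂ :=
      le_inf inf_le_left (fun z hz => hCR (mem_inf.2 ⟨hAS hz.1, hz.2⟩))
    rw [hadef, ← inf_relIndex_right _ A, inf_comm _ A, ← relIndex_mul_relIndex _ A₂ A hle inf_le_left,
      ha₂def, htdef]
    congr 1
    rw [← inf_relIndex_right (centralizer (N : Set G)) A₂]
    congr 1
    exact le_antisymm (le_inf inf_le_right hle) (le_inf (inf_le_right.trans inf_le_left) inf_le_left)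
  have hA₂e : ElemOn A₂ N := elemOn_of_elemAb N (CfsgLib.PLocal.elemAb_of_le hAe inf_le_left)
  set c₂ := (centralizer (A₂ : Set G)).relIndex N with hc₂def
  have hc₂ : c₂ ≤ cN := Nat.le_of_dvd (relIndex_pos' _ _)
    (relIndex_dvd_of_le_left N (centralizer_le (SetLike.coe_subset_coe.2 inf_le_left)))
  have hsmall : a₂ = 1 ∨ a₂ ^ 3 < cN ^ 2 := by
    by_cases h : A₂ ≤ centralizer (N : Set G)
    · exact Or.inl (relIndex_eq_one.2 h)
    · exact Or.inr ((hHL A₂ hA₂L hA₂e h).trans_le (Nat.pow_le_pow_left hc₂ 2))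
  have hcpos : 0 < cN := relIndex_pos' _ _
  have ht0 : 0 < t := relIndex_pos' _ _
  have ha1 : a ≠ 1 := fun h => hAN (relIndex_eq_one.1 h)
  have ht2 : 2 ≤ t := by
    by_contra ht
    have ht1 : t = 1 := by omega
    rw [ht1, mul_one] at hat
    rcases hsmall with h | h
    · exact ha1 (hat.trans h)
    · rw [← hat] at h
      have h' : cN ^ 3 < cN ^ 2 := lt_of_le_of_lt (Nat.pow_le_pow_left hca 3) h
      exact absurd h' (not_lt.2 (Nat.pow_le_pow_right hcpos (by norm_num)))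
  -- the layers of `S` on which `E` is nontrivial
  have hfaith : ∀ B T : Subgroup G, S ≤ normalizer (B : Set G) → S ≤ normalizer (T : Set G) →
      (∀ y ∈ T, ∀ w ∈ B, y * w * y⁻¹ ∈ B) →
      (∀ K : Subgroup G, K ≤ E → (∀ c ∈ K, ∀ y ∈ T, ⁅c, y⁆ ∈ B) → S ≤ normalizer (K : Set G) → K ≤ D) →
      ∀ z ∈ A, (∀ y ∈ T, ⁅z, y⁆ ∈ B) → z ∈ A₂ := by
    intro B T hSB hST hTB hker z hz hzT
    have hK' : actKer E T B (hES.trans hST) (hES.trans hSB) ≤ D :=
      hker _ (fun c hc => hc.1) (fun c hc => hc.2) (le_normalizer_actKer hSE hST hSB)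
    refine mem_inf.2 ⟨hz, hLR (hlike₂ z (hAS hz) (hAU hz) (hAe.2 z hz) fun c hc =>
      hK' ⟨hcomE z (hAS hz) c hc, fun y hy => ?_⟩)⟩
    -- the elements of `S` moving `T` only inside `B` form a group normalized by `S`
    let K₂ := actKer S T B hST hSB
    have h1 : z ∈ K₂ := ⟨hAS hz, hzT⟩
    have h2 : c⁻¹ * z * c ∈ K₂ := by
      have := conj_mem_of_le_normalizer (le_normalizer_actKer (E := S) (Y := T) (Y₀ := B) (hEY := hST)
        (hE₀ := hSB) le_normalizer hST hSB) (inv_mem (hES hc)) h1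
      simpa using this
    have h3 := mul_mem (inv_mem h1) h2
    have := (mem_actKer.1 h3).2 y hy
    simpa [mul_assoc] using this
  have hbound : ∀ B T : Subgroup G, S ≤ normalizer (B : Set G) → S ≤ normalizer (T : Set G) → B < T →
      (∀ y ∈ T, y ^ 2 ∈ B) → (∀ y ∈ T, ∀ w ∈ T, ⁅y, w⁆ ∈ B) →
      (∀ W : Subgroup G, B ≤ W → W ≤ T → S ≤ normalizer (W : Set G) → W = B ∨ W = T) →
      (∀ K : Subgroup G, K ≤ E → (∀ c ∈ K, ∀ y ∈ T, ⁅c, y⁆ ∈ B) → S ≤ normalizer (K : Set G) → K ≤ D) →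
      ∀ F : Subgroup G, B ≤ F → F ≤ T → (∀ y ∈ F, ∀ z ∈ A, ⁅z, y⁆ ∈ B) →
      ∀ T' : Subgroup G, B ≤ T' → (∀ y ∈ T, ∀ z ∈ A, ⁅y, z⁆ ∈ T') →
      t ^ 2 ≤ F.relIndex T ∧ t ^ 2 ≤ B.relIndex T' := by
    intro B T hSB hST hlt hsq hcomm hirr hker F hBF hFT hF T' hBT' hT'
    have hTB : ∀ y ∈ T, ∀ w ∈ B, y * w * y⁻¹ ∈ B := fun y hy w hw => by
      rw [show y * w * y⁻¹ = ⁅y, w⁆ * w by rw [commutatorElement_def]; group]
      exact mul_mem (hcomm y hy w (hlt.le hw)) hw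
    exact section_bound Q (P.isPGroup'.to_le hQP) hS3 hK (hQP.trans hPS) hST hSB hlt hsq hcomm hirr hAS hAe
      (hfaith B T hSB hST hTB hker) hFT hBF hF hBT' hT'
  have hminS : ∀ K : Subgroup G, K ≤ E → S ≤ normalizer (K : Set G) → K = E ∨ K ≤ D := hmin
  have hodd' : ∃ c ∈ E, c ∉ D ∧ Odd (orderOf c) := ⟨c₀, hc₀E, hc₀D, hc₀o⟩
  -- first layer
  obtain ⟨B, T, -, hBT, hTN, hSB, hST, hBmem, hirr, hker⟩ := exists_layer hES hSE hminS hodd' hSN
    (Z₀ := (⊥ : Subgroup G)) (le_normalizer_of_conj_mem fun s _ x hx => by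
      rw [mem_bot] at hx ⊢; rw [hx, mul_one, mul_inv_cancel]) bot_le
    (fun z hz => mem_bot.2 (hNe.2 z hz))
    (fun z hz w hw => mem_bot.2 (commutatorElement_eq_one_iff_mul_comm.2
      (CfsgLib.PLocal.elemAb_commute hNe hz hw))) (by
      by_contra! h
      exact hEC fun c hc => mem_inf.2 ⟨hES hc, mem_centralizer_iff.2 fun w hw =>
        (commutatorElement_eq_one_iff_mul_comm.1 (mem_bot.1 (h c hc w hw))).symm⟩)
  have hBN : B ≤ N := fun y hy => ((hBmem y).1 hy).1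
  have hBfix : ∀ y ∈ B, ∀ c ∈ E, c * y * c⁻¹ = y := fun y hy c hc => by
    have := mem_bot.1 (((hBmem y).1 hy).2 c hc)
    rwa [commutatorElement_def, mul_inv_eq_one] at this
  have hNcomm : ∀ y ∈ N, ∀ w ∈ N, y * w = w * y := fun y hy w hw => CfsgLib.PLocal.elemAb_commute hNe hy hw
  have hNle : ∀ {W W' : Subgroup G}, W ≤ N → W' ≤ N → W ≤ normalizer (W' : Set G) := fun hW hW' =>
    le_normalizer_of_conj_mem fun y hy w hw => by
      rwa [hNcomm y (hW hy) w (hW' hw), mul_inv_cancel_right]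
  have hsqB : ∀ W W' : Subgroup G, W ≤ N → ∀ y ∈ W, y ^ 2 ∈ W' := fun W W' hW y hy => by
    rw [hNe.2 y (hW hy)]; exact one_mem _
  have hcommB : ∀ W W' : Subgroup G, W ≤ N → ∀ y ∈ W, ∀ w ∈ W, ⁅y, w⁆ ∈ W' := fun W W' hW y hy w hw => by
    rw [commutatorElement_eq_one_iff_mul_comm.2 (hNcomm y (hW hy) w (hW hw))]; exact one_mem _
  -- fixed points of `A` in a layer
  have hAT : ∀ W : Subgroup G, S ≤ normalizer (W : Set G) → A ≤ normalizer (W : Set G) := fun W h => hAS.trans h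
  set F := fixMod A T B (hNle hTN hBN)
  have hBF : B ≤ F := le_fixMod_of_le hBT.le (hAT B hSB) le_rfl
  have h1 := hbound B T hSB hST hBT (hsqB T B hTN) (hcommB T B hTN) hirr hker F hBF fixMod_le
    (fun y hy z hz => hy.2 z hz) T hBT.le (fun y hy z hz =>
      by
        rw [commutatorElement_def, mul_assoc y z, mul_assoc]
        exact mul_mem hy (conj_mem_of_le_normalizer (hAT T hST) hz (inv_mem hy)))
  have hcF : F.relIndex T ≤ (centralizer (A : Set G)).relIndex T := by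
    rw [← inf_relIndex_right (centralizer (A : Set G))]
    refine Nat.le_of_dvd (relIndex_pos' _ _) (relIndex_dvd_of_le_left T fun y hy => ⟨hy.2, fun z hz => ?_⟩)
    rw [commutatorElement_eq_one_iff_mul_comm.2 (mem_centralizer_iff.1 hy.1 z hz)]
    exact one_mem _
  have hct : t ^ 2 ≤ cN := h1.1.trans (hcF.trans (relIndex_le_of_le_right hTN index_ne_zero_of_finite))
  have ha₂1 : a₂ ≠ 1 := by
    intro h
    rw [h, one_mul] at hat
    have : t ^ 2 ≤ t := hct.trans (hat ▸ hca)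
    nlinarith
  have ha₂c : a₂ ^ 3 < cN ^ 2 := hsmall.resolve_left ha₂1
  have hct3 : cN < t ^ 3 := by
    have h2 : cN ≤ a₂ * t := hat ▸ hca
    have h3 : a₂ ^ 3 < (a₂ * t) ^ 2 := lt_of_lt_of_le ha₂c (Nat.pow_le_pow_left h2 2)
    have h4 : a₂ < t ^ 2 := by
      rw [mul_pow, pow_succ] at h3
      exact Nat.lt_of_mul_lt_mul_left h3
    calc cN ≤ a₂ * t := h2
      _ < t ^ 2 * t := Nat.mul_lt_mul_of_pos_right h4 ht0
      _ = t ^ 3 := by ring
  -- no second layer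
  have htop : ∀ c ∈ E, ∀ y ∈ N, ⁅c, y⁆ ∈ T := by
    by_contra! hne
    obtain ⟨B', T', hTB', hBT', hTN', hSB', hST', -, hirr', hker'⟩ := exists_layer hES hSE hminS hodd' hSN
      (Z₀ := T) hST hTN (hsqB N T le_rfl) (hcommB N T le_rfl)
      (by obtain ⟨c, hc, y, hy, h⟩ := hne; exact ⟨c, hc, y, hy, h⟩)
    have hB'N : B' ≤ N := hBT'.le.trans hTN'
    set X := (centralizer (A : Set G) ⊓ T') ⊔ B' with hX
    have h2 := hbound B' T' hSB' hST' hBT' (hsqB T' B' hTN') (hcommB T' B' hTN') hirr' hker'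
      (fixMod A T' B' (hNle hTN' hB'N)) (le_fixMod_of_le hBT'.le (hAT B' hSB') le_rfl) fixMod_le
      (fun y hy z hz => hy.2 z hz) T' hBT'.le (fun y hy z hz => by
        rw [commutatorElement_def, mul_assoc y z, mul_assoc]
        exact mul_mem hy (conj_mem_of_le_normalizer (hAT T' hST') hz (inv_mem hy)))
    have hXF : X ≤ fixMod A T' B' (hNle hTN' hB'N) := by
      refine sup_le (fun y hy => ⟨hy.2, fun z hz => ?_⟩) (le_fixMod_of_le hBT'.le (hAT B' hSB') le_rfl)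
      rw [commutatorElement_eq_one_iff_mul_comm.2 (mem_centralizer_iff.1 hy.1 z hz)]
      exact one_mem _
    set CA := centralizer (A : Set G)
    have hmul : CA.relIndex T * (fixMod A T' B' (hNle hTN' hB'N)).relIndex T' ≤ CA.relIndex T' := by
      rw [← inf_relIndex_right CA T']
      rw [← relIndex_mul_relIndex (CA ⊓ T') X T' le_sup_left (sup_le inf_le_right hBT'.le)]
      refine Nat.mul_le_mul ?_ (Nat.le_of_dvd (relIndex_pos' _ _) (relIndex_dvd_of_le_left T' hXF))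
      refine le_trans (le_of_eq ?_) (relIndex_le_of_le_right (le_sup_right.trans' hTB' : T ≤ X)
        index_ne_zero_of_finite)
      rw [← inf_relIndex_right CA, ← inf_relIndex_right (CA ⊓ T'), inf_assoc, inf_eq_right.2 (hTB'.trans hBT'.le)]
    have h4 : t ^ 2 * t ^ 2 ≤ cN := calc
      t ^ 2 * t ^ 2 ≤ CA.relIndex T * (fixMod A T' B' (hNle hTN' hB'N)).relIndex T' :=
        Nat.mul_le_mul (h1.1.trans hcF) h2.1
      _ ≤ CA.relIndex T' := hmul
      _ ≤ cN := relIndex_le_of_le_right hTN' index_ne_zero_of_finite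
    have h5 : t ^ 2 * t ^ 2 < t ^ 3 := h4.trans_lt hct3
    rw [← pow_add] at h5
    exact absurd h5 (not_lt.2 (Nat.pow_le_pow_right ht0 (by norm_num)))
  have hUTN : U ⊔ T ≤ N := sup_le hUleN hTN
  have hNUT : N ≤ U ⊔ T := orbitSup_le fun c hc u hu => by
    rw [show c * u * c⁻¹ = ⁅c, u⁆ * u by rw [commutatorElement_def]; group]
    exact mul_mem (mem_sup_right (htop c hc u (hUleN hu))) (mem_sup_left hu)
  -- `E ⊓ Q` moves `N` inside the fixed points of `A` and `E`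
  set Zq := E ⊓ Q
  have hZqP : Zq ≤ (P : Subgroup G) := inf_le_right.trans hQP
  have hSZq : S ≤ normalizer (Zq : Set G) := fun s hs =>
    inf_normalizer_le_normalizer_inf ⟨hSE hs, (normalizer_eq_top Q).symm ▸ mem_top s⟩
  have hQT : ∀ y ∈ T, ∀ q ∈ Q, ⁅q, y⁆ ∈ B := by
    set W := fixMod Q T B (hNle hTN hBN)
    have hBW : B ≤ W := le_fixMod_of_le hBT.le ((hQP.trans hPS).trans hSB) le_rfl
    rcases hirr W hBW fixMod_le (le_normalizer_fixMod (by rw [normalizer_eq_top Q]; exact le_top) hST hSB)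
      with h | h
    · exfalso
      obtain ⟨y, hyT, hyB, hy⟩ := exists_fixed_above P.isPGroup' hQP (hTN.trans hNP)
        ((hQP.trans hPS).trans hST) hBT
      exact hyB (h.le ⟨hyT, hy⟩)
    · exact fun y hy => (h.ge hy).2
  have hcommN : ∀ r : G, ∀ y ∈ N, ∀ w ∈ N, (r * w * r⁻¹ ∈ N) → ⁅r, y * w⁆ = ⁅r, y⁆ * ⁅r, w⁆ := by
    intro r y hy w hw hrw
    have h1 : ⁅r, w⁆ ∈ N := mul_mem hrw (inv_mem hw)
    rw [show ⁅r, y * w⁆ = ⁅r, y⁆ * (y * ⁅r, w⁆ * y⁻¹) by simp only [commutatorElement_def]; group,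
      hNcomm y hy _ h1, mul_inv_cancel_right]
  have hmoved : ∀ r ∈ Zq, ∀ u ∈ U, ⁅r, u⁆ ∈ B := by
    have hmem : ∀ r ∈ Zq, ∀ u ∈ U, ⁅r, u⁆ ∈ U ⊓ T := fun r hr u hu =>
      mem_inf.2 ⟨mul_mem (conj_mem_of_le_normalizer hQU hr.2 hu) (inv_mem hu), htop r hr.1 u (hUleN hu)⟩
    have hgen : ⁅Zq, N⁆ ≤ F := by
      rw [commutator_le]
      intro r hr y hy
      obtain ⟨u, hu, w, hw, rfl⟩ : ∃ u ∈ U, ∃ w ∈ T, u * w = y := by
        have h := hNUT hy
        rw [← SetLike.mem_coe, coe_mul_of_left_le_normalizer_right U T (hNle hUleN hTN)] at h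
        exact Set.mem_mul.1 h
      rw [hcommN r u (hUleN hu) w (hTN hw) (conj_mem_of_le_normalizer hSN (hES hr.1) (hTN hw))]
      refine mul_mem ⟨(hmem r hr u hu).2, fun z hz => ?_⟩ (hBF (hQT w hw r hr.2))
      rw [commutatorElement_eq_one_iff_mul_comm.2 ((mem_centralizer_iff.1 (hAU hz) _ (hmem r hr u hu).1).symm)]
      exact one_mem _
    intro r hr u hu
    set W := B ⊔ ⁅Zq, N⁆
    have hW : W ≤ T := sup_le hBT.le (hgen.trans fixMod_le)
    have hSW : S ≤ normalizer (W : Set G) := by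
      refine le_normalizer_of_conj_mem fun s hs x hx => ?_
      have h : W ≤ W.comap (MulAut.conj s).toMonoidHom := by
        refine sup_le (fun y hy => mem_sup_left (conj_mem_of_le_normalizer hSB hs hy)) ?_
        rw [commutator_le]
        intro r hr y hy
        show s * ⁅r, y⁆ * s⁻¹ ∈ W
        rw [conjugate_commutatorElement]
        exact mem_sup_right (commutator_mem_commutator (conj_mem_of_le_normalizer hSZq hs hr)
          (conj_mem_of_le_normalizer hSN hs hy))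
      exact h hx
    rcases hirr W le_sup_left hW hSW with h | h
    · exact h.le (mem_sup_right (commutator_mem_commutator hr (hUleN hu)))
    · exfalso
      have hFT : F = T := le_antisymm fixMod_le (h ▸ sup_le hBF hgen)
      have := h1.1
      rw [hFT, relIndex_self] at this
      nlinarith
  have hfixA : ∀ r ∈ Zq, ∀ y ∈ N, ⁅r, y⁆ ∈ B ⊓ centralizer (A : Set G) := by
    intro r hr
    let V : Subgroup G :=
      { carrier := {y | y ∈ N ∧ ⁅r, y⁆ ∈ B ⊓ centralizer (A : Set G)}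
        one_mem' := ⟨one_mem _, by rw [commutatorElement_one_right]; exact one_mem _⟩
        mul_mem' := fun {y w} hy hw => ⟨mul_mem hy.1 hw.1, by
          rw [hcommN r y hy.1 w hw.1 (conj_mem_of_le_normalizer hSN (hES hr.1) hw.1)]
          exact mul_mem hy.2 hw.2⟩
        inv_mem' := fun {y} hy => ⟨inv_mem hy.1, by
          rw [show y⁻¹ = y from inv_eq_of_mul_eq_one_left (by rw [← pow_two]; exact hNe.2 y hy.1)]
          exact hy.2⟩ }
    have hV : N ≤ V := orbitSup_le fun c hc u hu => by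
      refine ⟨mem_orbitSup hc hu, ?_⟩
      have hr' : c⁻¹ * r * c ∈ Zq := by simpa using conj_mem_of_le_normalizer hSZq (inv_mem (hES hc)) hr
      have hb := hmoved _ hr' u hu
      have hu' : ⁅c⁻¹ * r * c, u⁆ ∈ U := mul_mem (conj_mem_of_le_normalizer hQU hr'.2 hu) (inv_mem hu)
      have e : ⁅r, c * u * c⁻¹⁆ = c * ⁅c⁻¹ * r * c, u⁆ * c⁻¹ := by simp only [commutatorElement_def]; group
      rw [e, hBfix _ hb c hc]
      exact ⟨hb, mem_centralizer_iff.2 fun z hz => (mem_centralizer_iff.1 (hAU hz) _ hu').symm⟩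
    exact fun y hy => (hV hy).2
  have hact : ∀ r ∈ Zq, ∀ y ∈ N, r * y * r⁻¹ = ⁅r, y⁆ * y := fun r _ y _ => by
    rw [commutatorElement_def]; group
  have hZq₀ : ∀ r ∈ Zq, ∀ r' ∈ Zq, ∀ y ∈ N, r * (r' * y * r'⁻¹) * r⁻¹ = ⁅r', y⁆ * ⁅r, y⁆ * y := by
    intro r hr r' hr' y hy
    rw [hact r' hr' y hy, ← conj_mul, hBfix _ (hfixA r' hr' y hy).1 r hr.1, hact r hr y hy]
    group
  set Z₀ := Zq ⊓ centralizer (N : Set G)
  have hZsq : ∀ r ∈ Zq, r ^ 2 ∈ Z₀ := fun r hr => by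
    refine mem_inf.2 ⟨pow_mem hr 2, mem_centralizer_iff.2 fun y hy => ?_⟩
    have h := hZq₀ r hr r hr y hy
    rw [← pow_two ⁅r, y⁆, hNe.2 _ (hBN (hfixA r hr y hy).1), one_mul] at h
    have h' : r ^ 2 * y * (r ^ 2)⁻¹ = y := by
      rw [pow_two]; conv_rhs => rw [← h]
      group
    exact (mul_inv_eq_iff_eq_mul.1 h').symm
  have hZcomm : ∀ r ∈ Zq, ∀ r' ∈ Zq, ⁅r, r'⁆ ∈ Z₀ := fun r hr r' hr' => by
    refine mem_inf.2 ⟨mul_mem (mul_mem (mul_mem hr hr') (inv_mem hr)) (inv_mem hr'),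
      mem_centralizer_iff.2 fun y hy => ?_⟩
    set w := (r' * r)⁻¹ * y * (r' * r)
    have hw : w ∈ N := by
      have := conj_mem_of_le_normalizer hSN (inv_mem (hES (mul_mem hr'.1 hr.1))) hy
      rwa [inv_inv] at this
    have e1 := hZq₀ r hr r' hr' w hw
    have e2 := hZq₀ r' hr' r hr w hw
    have ec : ⁅r', w⁆ * ⁅r, w⁆ = ⁅r, w⁆ * ⁅r', w⁆ :=
      hNcomm _ (hBN (hfixA r' hr' w hw).1) _ (hBN (hfixA r hr w hw).1)
    rw [ec, ← e2] at e1
    have h : ⁅r, r'⁆ * y * ⁅r, r'⁆⁻¹ = y := by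
      calc ⁅r, r'⁆ * y * ⁅r, r'⁆⁻¹ = r * (r' * w * r'⁻¹) * r⁻¹ := by
            simp only [w, commutatorElement_def]; group
        _ = r' * (r * w * r⁻¹) * r'⁻¹ := e1
        _ = y := by simp only [w]; group
    exact (mul_inv_eq_iff_eq_mul.1 h).symm
  have hSZ₀ : S ≤ normalizer (Z₀ : Set G) := le_normalizer_of_conj_mem fun s hs x hx =>
    ⟨conj_mem_of_le_normalizer hSZq hs hx.1, (conj_mem_of_le_normalizer hSC hs
      (show x ∈ C from ⟨hES hx.1.1, hx.2⟩)).2⟩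
  by_cases htriv : ∀ c ∈ E, ∀ r ∈ Zq, ⁅c, r⁆ ∈ Z₀
  · -- then `R` centralizes `E` modulo `C`
    have hconjC : ∀ s ∈ S, ∀ g ∈ C, s * g * s⁻¹ ∈ C := fun s hs g hg => conj_mem_of_le_normalizer hSC hs hg
    let K₀ : Subgroup G :=
      { carrier := {c | c ∈ E ∧ ∀ x ∈ R, ⁅x, c⁆ ∈ C}
        one_mem' := ⟨one_mem _, fun x _ => by rw [commutatorElement_one_right]; exact one_mem _⟩
        mul_mem' := fun {p q} hp hq => ⟨mul_mem hp.1 hq.1, fun x hx => by
          rw [show ⁅x, p * q⁆ = ⁅x, p⁆ * (p * ⁅x, q⁆ * p⁻¹) by simp only [commutatorElement_def]; group]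
          exact mul_mem (hp.2 x hx) (hconjC p (hES hp.1) _ (hq.2 x hx))⟩
        inv_mem' := fun {p} hp => ⟨inv_mem hp.1, fun x hx => by
          rw [show ⁅x, p⁻¹⁆ = p⁻¹ * ⁅x, p⁆⁻¹ * p⁻¹⁻¹ by simp only [commutatorElement_def]; group]
          exact hconjC _ (inv_mem (hES hp.1)) _ (inv_mem (hp.2 x hx))⟩ }
    have hsq : ∀ c ∈ E, c ^ 2 ∈ K₀ := fun c hc => ⟨pow_mem hc 2, fun x hx => by
      have hxc : ⁅x, c⁆ ∈ R ⊓ E := by
        refine mem_inf.2 ⟨?_, mul_mem (conj_mem_of_le_normalizer hSE (hRS hx) hc) (inv_mem hc)⟩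
        rw [commutatorElement_def, mul_assoc x c, mul_assoc]
        exact mul_mem hx (conj_mem_of_le_normalizer hSR (hES hc) (inv_mem hx))
      obtain ⟨g, hg, q, hq, e⟩ := hsplit _ hxc
      rw [show ⁅x, c ^ 2⁆ = ⁅x, c⁆ * (c * ⁅x, c⁆ * c⁻¹) by simp only [commutatorElement_def, pow_two]; group, e]
      have hcq : ⁅c, q⁆ ∈ C := mem_inf.2 ⟨mul_mem (mul_mem (mul_mem (hES hc) (hES hq.1)) (inv_mem (hES hc))) (inv_mem (hES hq.1)), (htriv c hc q hq).2⟩
      have hq2 : q ^ 2 ∈ C := ⟨pow_mem (hES hq.1) 2, (hZsq q hq).2⟩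
      have e' : g * q * (c * (g * q) * c⁻¹) =
          g * (q * (c * g * c⁻¹) * q⁻¹) * (q * ⁅c, q⁆ * q⁻¹) * q ^ 2 := by
        simp only [commutatorElement_def, pow_two]; group
      rw [e']
      exact mul_mem (mul_mem (mul_mem hg.1 (hconjC q (hES hq.1) _ (hconjC c (hES hc) g hg.1)))
        (hconjC q (hES hq.1) _ hcq)) hq2⟩
    have hK₀ : K₀ = E := by
      refine (hminS K₀ (fun c hc => hc.1) (le_normalizer_of_conj_mem fun s hs c hc =>
        ⟨conj_mem_of_le_normalizer hSE hs hc.1, fun x hx => ?_⟩)).resolve_right fun h => ?_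
      · have h1 := hconjC s hs _ (hc.2 _ (conj_mem_of_le_normalizer hSR (inv_mem hs) hx))
        rwa [show s * ⁅s⁻¹ * x * s⁻¹⁻¹, c⁆ * s⁻¹ = ⁅x, s * c * s⁻¹⁆ by
          simp only [commutatorElement_def]; group] at h1
      · obtain ⟨k, hk⟩ := exists_sq_of_odd hc₀o
        exact hc₀D (h (hk ▸ hsq _ (pow_mem hc₀E k)))
    refine ha₂1 (relIndex_eq_one.2 fun z hz => mem_centralizer_iff.2 ?_)
    have hle : N ≤ centralizer ({z} : Set G) := orbitSup_le fun c hc u hu => by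
      have hg := (hK₀.ge hc).2 z hz.2
      have hcu : c * u * c⁻¹ ∈ N := mem_orbitSup hc hu
      have h1 : z * (c * u * c⁻¹) * z⁻¹ = ⁅z, c⁆ * (c * (z * u * z⁻¹) * c⁻¹) * ⁅z, c⁆⁻¹ := by
        simp only [commutatorElement_def]; group
      rw [← mem_centralizer_iff.1 (hAU hz.1) u hu, mul_inv_cancel_right, ← mem_centralizer_iff.1 hg.2 _ hcu,
        mul_inv_cancel_right] at h1
      rw [mem_centralizer_singleton_iff]
      exact (mul_inv_eq_iff_eq_mul.1 h1).symm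
    exact fun y hy => mem_centralizer_singleton_iff.1 (hle hy)
  · -- a layer in `E ⊓ Q`
    push Not at htriv
    obtain ⟨B', T', hZ₀B', hBT', hT'Z, hSB', hST', -, hirr', hker'⟩ := exists_layer hES hSE hminS hodd'
      hSZq hSZ₀ inf_le_left hZsq hZcomm htriv
    have hR'T : ⁅T', A⁆ ≤ T' := by
      rw [commutator_le]
      intro y hy z hz
      rw [commutatorElement_def, mul_assoc y z, mul_assoc]
      exact mul_mem hy (conj_mem_of_le_normalizer (hAT T' hST') hz (inv_mem hy))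
    set R' := ⁅T', A⁆
    have hR'n : R' ≤ normalizer (B' : Set G) := hR'T.trans (hT'Z.trans (inf_le_left.trans (hES.trans hSB')))
    have hTn' : T' ≤ normalizer (B' : Set G) := hT'Z.trans (inf_le_left.trans (hES.trans hSB'))
    have h2 := (hbound B' T' hSB' hST' hBT'
      (fun y hy => hZ₀B' (hZsq y (hT'Z hy))) (fun y hy w hw => hZ₀B' (hZcomm y (hT'Z hy) w (hT'Z hw)))
      hirr' hker' (fixMod A T' B' hTn') (le_fixMod_of_le hBT'.le (hAT B' hSB') le_rfl) fixMod_le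
      (fun y hy z hz => hy.2 z hz) (R' ⊔ B') le_sup_right
      (fun y hy z hz => mem_sup_left (commutator_mem_commutator hy hz))).2
    rw [relIndex_sup_of_le_normalizer hR'n] at h2
    have hR'Z : R' ≤ Zq := hR'T.trans hT'Z
    have hr : t ^ 2 ≤ (centralizer (N : Set G)).relIndex R' := by
      refine h2.trans ?_
      rw [← inf_relIndex_right (centralizer (N : Set G))]
      exact Nat.le_of_dvd (relIndex_pos' _ _) (relIndex_dvd_of_le_left R'
        (le_trans (fun x hx => mem_inf.2 ⟨hR'Z hx.2, hx.1⟩) hZ₀B'))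
    have hR'L : R' ≤ Lk := fun x hx =>
      ⟨hES (hR'Z hx).1, fun c hc => ⟨x, hEQ (hR'Z hx), fun u _ => rfl⟩⟩
    have hR'e : ElemOn R' N := ⟨commutator_le.2 fun x hx x' hx' => (hZcomm x (hR'Z hx) x' (hR'Z hx')).2,
      fun x hx => (hZsq x (hR'Z hx)).2⟩
    have hR'n' : ¬ R' ≤ centralizer (N : Set G) := fun h => by
      rw [relIndex_eq_one.2 h] at hr
      nlinarith
    have h3 := hHL R' hR'L hR'e hR'n'
    have hcen : centralizer (A : Set G) ⊓ N ≤ centralizer (R' : Set G) := by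
      rw [le_centralizer_iff, commutator_le]
      intro r hr z hz
      refine mem_centralizer_iff.2 fun y hy => ?_
      have hφ := hfixA r⁻¹ (inv_mem (hT'Z hr)) y hy.2
      set φ := ⁅r⁻¹, y⁆
      have hzy : z⁻¹ * y * z = y := by
        rw [mul_assoc, ← mem_centralizer_iff.1 hy.1 z hz, inv_mul_cancel_left]
      have hzφ : z * (φ * y) * z⁻¹ = φ * y := by
        rw [← conj_mul, mem_centralizer_iff.1 hφ.2 z hz, mul_inv_cancel_right,
          mem_centralizer_iff.1 hy.1 z hz, mul_inv_cancel_right]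
      have h4 : ⁅r, z⁆ * y * ⁅r, z⁆⁻¹ = y := by
        calc ⁅r, z⁆ * y * ⁅r, z⁆⁻¹ = r * (z * (r⁻¹ * (z⁻¹ * y * z) * r⁻¹⁻¹) * z⁻¹) * r⁻¹ := by
              simp only [commutatorElement_def]; group
          _ = r * (z * (φ * y) * z⁻¹) * r⁻¹ := by
              rw [hzy, hact r⁻¹ (inv_mem (hT'Z hr)) y hy.2]
          _ = r * (φ * y) * r⁻¹ := by rw [hzφ]
          _ = y := by simp only [φ, commutatorElement_def]; group
      exact (mul_inv_eq_iff_eq_mul.1 h4).symm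
    have h5 : (centralizer (R' : Set G)).relIndex N ≤ cN := by
      rw [hcdef, ← inf_relIndex_right (centralizer (A : Set G))]
      exact Nat.le_of_dvd (relIndex_pos' _ _) (relIndex_dvd_of_le_left N hcen)
    have h6 : (t ^ 2) ^ 3 < (t ^ 3) ^ 2 := calc
      (t ^ 2) ^ 3 ≤ _ := Nat.pow_le_pow_left hr 3
      _ < _ := h3
      _ ≤ cN ^ 2 := Nat.pow_le_pow_left h5 2
      _ ≤ (t ^ 3) ^ 2 := Nat.pow_le_pow_left hct3.le 2
    rw [← pow_mul, ← pow_mul] at h6
    exact lt_irrefl _ h6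

end CfsgLib.SFourHat
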