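import Cfsg.Agent.Lib.SFourHat.Setting
import Cfsg.Agent.Lib.SFourHat.Step
import Cfsg.Agent.Lib.Components.FStar
import Cfsg.Agent.Lib.Techniques.Basic

set_option autoImplicit false
set_option linter.unusedSectionVars false
set_option maxHeartbeats 800000

/-!
`J(P)` centralizes the normal closure of an invariant subgroup of `Ω₁Z(Ĵ(P))` with the offender
inequality, in the minimal situation.
-/

namespace CfsgLib.SFourHat

open Subgroup Cfsg
open scoped commutatorElement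

universe u

variable {G : Type u} [Group G] [Finite G]

theorem fitting_eq_bot {X : Type u} [Group X] [Finite X] (h2 : pCore 2 X = ⊥)
    (h2' : pPrimeCore 2 X = ⊥) : fittingSubgroup X = ⊥ := by
  haveI : Fact (Nat.Prime 2) := ⟨Nat.prime_two⟩
  obtain ⟨P⟩ := (inferInstance : Nonempty (Sylow 2 (fittingSubgroup X)))
  have hP := CfsgLib.Fitting.sylow_fitting_eq_pCore P
  rw [h2, map_eq_bot_iff_of_injective _ (subtype_injective _)] at hP
  have hodd : ¬ 2 ∣ Nat.card (fittingSubgroup X) := fun h => by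
    have := P.not_dvd_index
    rw [hP, index_bot] at this
    exact this h
  exact eq_bot_iff.2 ((CfsgLib.PCore.le_pPrimeCore_of_not_dvd CfsgLib.Fitting.fitting_normal hodd).trans h2'.le)

/-- A minimality device for the odd radical and for the orbits of components. -/
theorem le_normalizer_of_maximal {P : Sylow 2 G} (hS : Setting P) {Q₁ N₀ U : Subgroup G} [Q₁.Normal]
    [N₀.Normal] (hQ₁Q : Q₁ ≤ pCore 2 G) (hQ₂ : oddGen G ⊓ pCore 2 G ≤ Q₁) (hN₀Q : N₀ ≤ pCore 2 G)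
    (hN₀ : IsElementaryAbelian 2 N₀) (hPU : (P : Subgroup G) ≤ normalizer (U : Set G)) (hUN : U ≤ N₀)
    (hJU : CfsgLib.PLocal.thompson 2 (P : Subgroup G) ≤ centralizer (U : Set G)) (hHalf : Half Q₁ U)
    (hmax : ∀ U' : Subgroup G, U ≤ U' → U' ≤ N₀ → (P : Subgroup G) ≤ normalizer (U' : Set G) →
      CfsgLib.PLocal.thompson 2 (P : Subgroup G) ≤ centralizer (U' : Set G) → Half Q₁ U' → U' = U)
    {E D : Subgroup G} (hEL : E ≤ oddGen G) (hPE : (P : Subgroup G) ≤ normalizer (E : Set G))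
    (hDE : D ≤ E) (hDU : D ≤ normalizer (U : Set G))
    (hmin : ∀ K : Subgroup G, K ≤ E → E ⊔ (P : Subgroup G) ≤ normalizer (K : Set G) → K = E ∨ K ≤ D)
    (hD : ∀ x ∈ D, ∃ m : ℕ, Odd m ∧ x ^ m ∈ pCore 2 G) (hodd : ∃ c ∈ E, c ∉ D ∧ Odd (orderOf c)) :
    E ≤ normalizer (U : Set G) := by
  haveI : Fact (Nat.Prime 2) := ⟨Nat.prime_two⟩
  haveI : (pCore 2 G).Normal := pCore_normal 2 G
  by_contra hEU
  have hQP := CfsgLib.PCore.pCore_le_sylow P
  have hJ := step P hQP hS.s3 hS.kg (hQ₁Q.trans hQP) hN₀Q hN₀ hPE hPU hUN hDE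
    ((inf_le_inf_right _ hEL).trans hQ₂) hDU hmin hD hodd hJU hHalf hEU
  refine hEU ?_
  have e := hmax _ (le_orbitSup E U) (orbitSup_le_of_normal hUN) (le_normalizer_orbitSup hPE hPU) hJ
    (half_orbitSup hHalf)
  conv => rhs; rw [← e]
  exact le_normalizer_orbitSup_self E U

/-- The subgroup that is odd modulo the 2-core normalizes a maximal `U`. -/
theorem odd_le_normalizer {P : Sylow 2 G} (hS : Setting P) {Q₁ N₀ U : Subgroup G} [Q₁.Normal]
    [N₀.Normal] (hQ₁Q : Q₁ ≤ pCore 2 G) (hQ₂ : oddGen G ⊓ pCore 2 G ≤ Q₁) (hN₀Q : N₀ ≤ pCore 2 G)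
    (hN₀ : IsElementaryAbelian 2 N₀) (hPU : (P : Subgroup G) ≤ normalizer (U : Set G)) (hUN : U ≤ N₀)
    (hJU : CfsgLib.PLocal.thompson 2 (P : Subgroup G) ≤ centralizer (U : Set G)) (hHalf : Half Q₁ U)
    (hmax : ∀ U' : Subgroup G, U ≤ U' → U' ≤ N₀ → (P : Subgroup G) ≤ normalizer (U' : Set G) →
      CfsgLib.PLocal.thompson 2 (P : Subgroup G) ≤ centralizer (U' : Set G) → Half Q₁ U' → U' = U)
    {E₀ : Subgroup G} [E₀.Normal] (hE₀ : ∀ x ∈ E₀, ∃ m : ℕ, Odd m ∧ x ^ m ∈ pCore 2 G) :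
    E₀ ≤ normalizer (U : Set G) := by
  haveI : Fact (Nat.Prime 2) := ⟨Nat.prime_two⟩
  have hQU : pCore 2 G ≤ normalizer (U : Set G) := (CfsgLib.PCore.pCore_le_sylow P).trans hPU
  have hPL : (P : Subgroup G) ≤ normalizer ((E₀ ⊓ oddGen G : Subgroup G) : Set G) :=
    le_normalizer_of_conj_mem fun p _ x hx => mem_inf.2
      ⟨Normal.conj_mem inferInstance x hx.1 p, Normal.conj_mem inferInstance x hx.2 p⟩
  have key : E₀ ⊓ oddGen G ≤ normalizer (U : Set G) := by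
    by_contra hnot
    obtain ⟨E, ⟨hE, hPE, hEU⟩, hEmin⟩ := (Set.toFinite {E : Subgroup G | E ≤ E₀ ⊓ oddGen G ∧
      (P : Subgroup G) ≤ normalizer (E : Set G) ∧ ¬ E ≤ normalizer (U : Set G)}).exists_minimal
      ⟨_, le_rfl, hPL, hnot⟩
    refine hEU (le_normalizer_of_maximal hS hQ₁Q hQ₂ hN₀Q hN₀ hPU hUN hJU hHalf hmax
      (hE.trans inf_le_right) hPE (D := E ⊓ normalizer (U : Set G)) inf_le_left inf_le_right
      (fun K hKE hK => ?_) (fun x hx => hE₀ x (hE hx.1).1) ?_)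
    · by_cases hKU : K ≤ normalizer (U : Set G)
      · exact Or.inr (le_inf hKE hKU)
      · exact Or.inl (le_antisymm hKE (hEmin ⟨hKE.trans hE, le_sup_right.trans hK, hKU⟩ hKE))
    · obtain ⟨x, hxE, hxU⟩ := SetLike.not_le_iff_exists.1 hEU
      obtain ⟨m, hm, hmQ⟩ := hE₀ x (hE hxE).1
      obtain ⟨k, hk⟩ := exists_odd_pow x
      obtain ⟨a, ha, b, hb, hab⟩ := mem_sup_of_pows (H := E ⊓ pCore 2 G) (K := zpowers (x ^ 2 ^ k)) hm
        (mem_inf.2 ⟨pow_mem hxE m, hmQ⟩) (mem_zpowers _)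
      refine ⟨x ^ 2 ^ k, pow_mem hxE _, fun h => hxU ?_, hk⟩
      rw [hab]
      exact mul_mem ((zpowers_le.2 h.2) ha) (hQU hb.2)
  intro x hx
  obtain ⟨m, hm, hmQ⟩ := hE₀ x hx
  obtain ⟨k, hk⟩ := exists_odd_pow x
  obtain ⟨a, ha, b, hb, hab⟩ := mem_sup_of_pows (H := pCore 2 G) (K := E₀ ⊓ oddGen G) hm hmQ
    (mem_inf.2 ⟨pow_mem hx _, mem_oddGen hk⟩)
  rw [hab]
  exact mul_mem (key ha) (hQU hb)

/-- The two-step radical: `E₀` is odd over the 2-core and `Ef` is a 2-group or the layer over `E₀`. -/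
theorem exists_radical_pair {P : Sylow 2 G} (hS : Setting P) :
    ∃ (E₀ Ef : Subgroup G) (_ : E₀.Normal) (_ : Ef.Normal), E₀ ≤ Ef ∧
      (∀ x ∈ E₀, ∃ m : ℕ, Odd m ∧ x ^ m ∈ pCore 2 G) ∧
      ¬ (P : Subgroup G) ⊓ Ef ≤ pCore 2 G ∧
      (Ef ≤ E₀ ⊔ (P : Subgroup G) ∨
        (fittingSubgroup (G ⧸ E₀) = ⊥ ∧ Ef = (layer (G ⧸ E₀)).comap (QuotientGroup.mk' E₀))) := by
  haveI : Fact (Nat.Prime 2) := ⟨Nat.prime_two⟩
  set Q := pCore 2 G
  haveI hQn : Q.Normal := pCore_normal 2 G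
  set π := QuotientGroup.mk' Q
  set E₀ := (pPrimeCore 2 (G ⧸ Q)).comap π
  haveI hE₀n : E₀.Normal := (pPrimeCore_normal 2 _).comap _
  have hE₀odd : ∀ x ∈ E₀, ∃ m : ℕ, Odd m ∧ x ^ m ∈ Q := by
    intro x hx
    refine ⟨Nat.card (pPrimeCore 2 (G ⧸ Q)), Nat.coprime_two_right.1 CfsgLib.PCore.pPrimeCore_coprime, ?_⟩
    have h : ((⟨π x, hx⟩ : pPrimeCore 2 (G ⧸ Q)) ^ Nat.card (pPrimeCore 2 (G ⧸ Q))) = 1 := pow_card_eq_one'
    have h' : π (x ^ Nat.card (pPrimeCore 2 (G ⧸ Q))) = 1 := by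
      rw [map_pow]; exact congrArg Subtype.val h
    exact (QuotientGroup.eq_one_iff _).1 h'
  have hodd : ∀ M : Subgroup G, M.Normal → (P : Subgroup G) ⊓ M ≤ Q → M ≤ E₀ := by
    intro M hM hle
    refine map_le_iff_le_comap.1 (CfsgLib.PCore.le_pPrimeCore_of_not_dvd
      (hM.map π (QuotientGroup.mk'_surjective Q)) fun h2 => ?_)
    obtain ⟨⟨_, y, hy, rfl⟩, hy2⟩ := exists_prime_orderOf_dvd_card' (G := M.map π) 2 h2
    replace hy2 : orderOf (π y) = 2 := (orderOf_injective (M.map π).subtype (subtype_injective _) _).trans hy2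
    obtain ⟨k, m, hm, hord⟩ := Nat.exists_eq_pow_mul_and_not_dvd (orderOf_pos y).ne' 2 (by norm_num)
    have hp : IsPGroup 2 (zpowers (y ^ m)) := IsPGroup.of_card (n := k) (by
      rw [Nat.card_zpowers, orderOf_pow, hord, Nat.gcd_mul_left_left,
        Nat.mul_div_cancel _ (Nat.pos_of_ne_zero fun h => hm (by rw [h]; exact dvd_zero 2))])
    obtain ⟨T, hT⟩ := hp.exists_le_sylow
    obtain ⟨g, hg⟩ := MulAction.exists_smul_eq G T P
    have h1 : g * y ^ m * g⁻¹ ∈ Q := by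
      refine hle (mem_inf.2 ⟨?_, hM.conj_mem _ (pow_mem hy m) g⟩)
      show g * y ^ m * g⁻¹ ∈ (P : Subgroup G)
      rw [← hg, Sylow.coe_subgroup_smul]
      exact ⟨y ^ m, hT (mem_zpowers _), rfl⟩
    have h2 : y ^ m ∈ Q := by
      simpa [mul_assoc] using hQn.conj_mem _ h1 g⁻¹
    have h3 : π y ^ m = 1 := by rw [← map_pow]; exact (QuotientGroup.eq_one_iff _).2 h2
    exact hm (hy2 ▸ orderOf_dvd_of_pow_eq_one h3)
  have hE₀P : ¬ (P : Subgroup G) ≤ E₀ := fun h => pCore_lt hS (le_antisymm (CfsgLib.PCore.pCore_le_sylow P)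
    fun p hp => by
      obtain ⟨m, hm, hmQ⟩ := hE₀odd p (h hp)
      obtain ⟨k, hk⟩ := P.isPGroup' ⟨p, hp⟩
      obtain ⟨a, ha, b, hb, hab⟩ := mem_sup_of_pows (H := Q) (K := (⊥ : Subgroup G)) hm hmQ
        (mem_bot.2 (congrArg Subtype.val hk : p ^ 2 ^ k = 1))
      rw [hab, mem_bot.1 ha, one_mul]
      exact hb)
  have hE₀' : pPrimeCore 2 (G ⧸ E₀) = ⊥ := by
    refine eq_bot_iff.2 fun q hq => ?_
    obtain ⟨x, rfl⟩ := QuotientGroup.mk_surjective q
    refine mem_bot.2 ((QuotientGroup.eq_one_iff x).2 (hodd ((pPrimeCore 2 (G ⧸ E₀)).comap (QuotientGroup.mk' E₀))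
      ((pPrimeCore_normal 2 _).comap _) (fun p hp => ?_) hq))
    obtain ⟨m, hm, hmE⟩ : ∃ m : ℕ, Odd m ∧ p ^ m ∈ E₀ := by
      refine ⟨Nat.card (pPrimeCore 2 (G ⧸ E₀)), Nat.coprime_two_right.1 CfsgLib.PCore.pPrimeCore_coprime, ?_⟩
      have h : ((⟨_, hp.2⟩ : pPrimeCore 2 (G ⧸ E₀)) ^ Nat.card (pPrimeCore 2 (G ⧸ E₀))) = 1 := pow_card_eq_one'
      have h' : QuotientGroup.mk' E₀ (p ^ Nat.card (pPrimeCore 2 (G ⧸ E₀))) = 1 := by
        rw [map_pow]; exact congrArg Subtype.val h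
      exact (QuotientGroup.eq_one_iff _).1 h'
    obtain ⟨m', hm', hmQ⟩ := hE₀odd _ hmE
    rw [← pow_mul] at hmQ
    obtain ⟨k, hk⟩ := P.isPGroup' ⟨p, hp.1⟩
    obtain ⟨a, ha, b, hb, hab⟩ := mem_sup_of_pows (H := Q) (K := (⊥ : Subgroup G)) (hm.mul hm') hmQ
      (mem_bot.2 (congrArg Subtype.val hk : p ^ 2 ^ k = 1))
    rw [hab, mem_bot.1 ha, one_mul]
    exact hb
  have hne : ∀ M : Subgroup (G ⧸ E₀), M.Normal → M ≠ ⊥ →
      ¬ (P : Subgroup G) ⊓ M.comap (QuotientGroup.mk' E₀) ≤ Q := by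
    intro M hM hMb hle
    have h := hodd _ (hM.comap _) hle
    refine hMb (eq_bot_iff.2 fun q hq => ?_)
    obtain ⟨x, rfl⟩ := QuotientGroup.mk_surjective q
    exact mem_bot.2 ((QuotientGroup.eq_one_iff x).2 (h hq))
  have hle : ∀ M : Subgroup (G ⧸ E₀), E₀ ≤ M.comap (QuotientGroup.mk' E₀) := fun M => by
    intro x hx
    rw [mem_comap, QuotientGroup.mk'_apply, (QuotientGroup.eq_one_iff x).2 hx]
    exact one_mem _
  by_cases hO : pCore 2 (G ⧸ E₀) = ⊥
  · have hF := fitting_eq_bot hO hE₀'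
    have hlayer : layer (G ⧸ E₀) ≠ ⊥ := by
      intro h
      have hgen : generalizedFittingSubgroup (G ⧸ E₀) = ⊥ := by
        rw [generalizedFittingSubgroup, h, hF, sup_idem]
      have hc := CfsgLib.Components.centralizer_generalizedFitting_le_fitting (G := G ⧸ E₀)
      rw [hgen, hF] at hc
      refine hE₀P fun p _ => (QuotientGroup.eq_one_iff p).1 (mem_bot.1 (hc ?_))
      exact mem_centralizer_iff.2 fun y hy => by rw [mem_bot.1 hy, one_mul, mul_one]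
    haveI hln : (layer (G ⧸ E₀)).Normal := inferInstance
    exact ⟨E₀, _, hE₀n, hln.comap _, hle _, hE₀odd, hne _ hln hlayer, Or.inr ⟨hF, rfl⟩⟩
  · haveI hpn : (pCore 2 (G ⧸ E₀)).Normal := pCore_normal 2 _
    refine ⟨E₀, _, hE₀n, hpn.comap _, hle _, hE₀odd, hne _ hpn hO, Or.inl fun x hx => ?_⟩
    have h1 := CfsgLib.PCore.pCore_le_sylow (P.mapSurjective (QuotientGroup.mk'_surjective E₀)) hx
    rw [Sylow.coe_mapSurjective] at h1
    obtain ⟨p, hp, hpx⟩ := h1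
    have h2 : x * p⁻¹ ∈ E₀ := by
      rw [← QuotientGroup.eq_one_iff (N := E₀), QuotientGroup.mk_mul, QuotientGroup.mk_inv, mul_inv_eq_one]
      exact hpx.symm
    simpa using mul_mem (mem_sup_left h2 : x * p⁻¹ ∈ E₀ ⊔ (P : Subgroup G)) (mem_sup_right hp)

/-- A perfect subgroup is the bottom of its image in a solvable group. -/
theorem component_le_of_sup_eq_top {X : Type u} [Group X] [Finite X] {L T : Subgroup X} [L.Normal]
    (hT : IsPGroup 2 T) (hLT : L ⊔ T = ⊤) {K : Subgroup X} (hK : ⁅K, K⁆ = K) : K ≤ L := by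
  haveI : Fact (Nat.Prime 2) := ⟨Nat.prime_two⟩
  have hp : IsPGroup 2 (X ⧸ L) := by
    have h : Function.Surjective ((QuotientGroup.mk' L).comp T.subtype) := fun q => by
      obtain ⟨x, rfl⟩ := QuotientGroup.mk_surjective q
      obtain ⟨l, hl, t, ht, rfl⟩ := mem_sup_of_normal_left.1 (hLT ▸ mem_top x)
      refine ⟨⟨t, ht⟩, ?_⟩
      show ((t : X) : X ⧸ L) = ((l * t : X) : X ⧸ L)
      rw [QuotientGroup.mk_mul, (QuotientGroup.eq_one_iff l).2 hl, one_mul]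
    exact hT.of_surjective _ h
  haveI := hp.isNilpotent
  set K' := K.map (QuotientGroup.mk' L)
  have h' : ⁅K', K'⁆ = K' := by rw [← map_commutator, hK]
  have : K' = ⊥ := by
    by_contra hne
    haveI : Nontrivial K' := (nontrivial_iff_ne_bot K').2 hne
    have h1 := Group.IsSolvable.commutator_lt_of_ne_bot hne
    exact h1.ne h'
  intro x hx
  exact (QuotientGroup.eq_one_iff x).1 (mem_bot.1 (this ▸ mem_map_of_mem (QuotientGroup.mk' L) hx))

/-- The components over the odd radical normalize a maximal `U`. -/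
theorem component_le_normalizer' {P : Sylow 2 G} (hS : Setting P) {Q₁ N₀ U : Subgroup G} [Q₁.Normal]
    [N₀.Normal] (hQ₁Q : Q₁ ≤ pCore 2 G) (hQ₂ : oddGen G ⊓ pCore 2 G ≤ Q₁) (hN₀Q : N₀ ≤ pCore 2 G)
    (hN₀ : IsElementaryAbelian 2 N₀) (hPU : (P : Subgroup G) ≤ normalizer (U : Set G)) (hUN : U ≤ N₀)
    (hJU : CfsgLib.PLocal.thompson 2 (P : Subgroup G) ≤ centralizer (U : Set G)) (hHalf : Half Q₁ U)
    (hmax : ∀ U' : Subgroup G, U ≤ U' → U' ≤ N₀ → (P : Subgroup G) ≤ normalizer (U' : Set G) →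
      CfsgLib.PLocal.thompson 2 (P : Subgroup G) ≤ centralizer (U' : Set G) → Half Q₁ U' → U' = U)
    {E₀ : Subgroup G} [E₀.Normal] (hE₀ : ∀ x ∈ E₀, ∃ m : ℕ, Odd m ∧ x ^ m ∈ pCore 2 G)
    (hE₀U : E₀ ≤ normalizer (U : Set G)) (hF : fittingSubgroup (G ⧸ E₀) = ⊥)
    {C : Subgroup (G ⧸ E₀)} (hC : IsComponent C) :
    C ≤ (normalizer (U : Set G)).map (QuotientGroup.mk' E₀) := by
  haveI : Fact (Nat.Prime 2) := ⟨Nat.prime_two⟩
  set π := QuotientGroup.mk' E₀
  have hπ : Function.Surjective π := QuotientGroup.mk'_surjective E₀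
  set P' := (P : Subgroup G).map π
  set F := ⨆ p : P', C.map (MulAut.conj (p : G ⧸ E₀)).toMonoidHom
  have hCp : ∀ p : P', IsComponent (C.map (MulAut.conj (p : G ⧸ E₀)).toMonoidHom) := fun p =>
    CfsgLib.Components.isComponent_conj _ hC
  have hCF : C ≤ F := fun x hx => mem_iSup_of_mem (⟨1, one_mem _⟩ : P') ⟨x, hx, by simp⟩
  have hFP : P' ≤ normalizer (F : Set (G ⧸ E₀)) := by
    refine le_normalizer_of_conj_mem fun p hp x hx => ?_
    have h : F ≤ F.comap (MulAut.conj p).toMonoidHom := iSup_le fun q => by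
      rintro _ ⟨y, hy, rfl⟩
      refine mem_iSup_of_mem (⟨p * q, mul_mem hp q.2⟩ : P') ⟨y, hy, ?_⟩
      show p * q * y * (p * q)⁻¹ = p * (q * y * (q : G ⧸ E₀)⁻¹) * p⁻¹
      group
    exact h hx
  have hLsup : (oddGen G).map π ⊔ P' = ⊤ := by
    rw [← Subgroup.map_sup, oddGen_sup_sylow, map_top_of_surjective _ hπ]
  haveI : ((oddGen G).map π).Normal := oddGen_normal.map π hπ
  have hFL : F ≤ (oddGen G).map π := iSup_le fun p =>
    component_le_of_sup_eq_top (P.isPGroup'.map π) hLsup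
      (CfsgLib.Components.component_commutator_self (hCp p))
  -- a subgroup of the orbit normalized by it and by `P'`
  have hFmin : ∀ K : Subgroup (G ⧸ E₀), K ≤ F → F ≤ normalizer (K : Set (G ⧸ E₀)) →
      P' ≤ normalizer (K : Set (G ⧸ E₀)) → K = ⊥ ∨ K = F := by
    intro K hKF hFK hPK
    have hFl : F ≤ layer (G ⧸ E₀) := iSup_le fun p => CfsgLib.Components.component_le_layer (hCp p)
    have hlF : layer (G ⧸ E₀) ≤ normalizer (F : Set (G ⧸ E₀)) := by
      refine le_normalizer_of_conj_mem fun s hs x hx => ?_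
      have h : F ≤ F.comap (MulAut.conj s).toMonoidHom := iSup_le fun p y hy => mem_iSup_of_mem p
        (conj_mem_of_le_normalizer (CfsgLib.Components.layer_le_normalizer_component (hCp p)) hs hy)
      exact h hx
    have hFsn : F.IsSubnormal := by
      haveI : (F.subgroupOf (layer (G ⧸ E₀))).Normal := normal_subgroupOf_of_le_normalizer hlF
      exact IsSubnormal.trans hFl (Normal.isSubnormal inferInstance) (Normal.isSubnormal inferInstance)
    have hsol : ∀ A : Subgroup (G ⧸ E₀), A.IsSubnormal → Group.IsSolvable A → A = ⊥ := fun A hA hs => by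
      refine le_bot_iff.1 (hF ▸ CfsgLib.Components.solvable_subnormal_le_fitting hA hs ?_)
      rw [hF]
      exact fun y _ => mem_centralizer_iff.2 fun z hz => by rw [mem_bot.1 hz, one_mul, mul_one]
    haveI : (K.subgroupOf F).Normal := normal_subgroupOf_of_le_normalizer hFK
    have hKsn : K.IsSubnormal := IsSubnormal.trans hKF (Normal.isSubnormal inferInstance) hFsn
    by_cases hall : ∀ p : P', C.map (MulAut.conj (p : G ⧸ E₀)).toMonoidHom ≤ K
    · exact Or.inr (le_antisymm hKF (iSup_le hall))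
    left
    push Not at hall
    obtain ⟨p₀, hp₀⟩ := hall
    have hno : ∀ p : P', ¬ C.map (MulAut.conj (p : G ⧸ E₀)).toMonoidHom ≤ K := by
      intro p hp
      apply hp₀
      rintro _ ⟨y, hy, rfl⟩
      have h1 := conj_mem_of_le_normalizer hPK (mul_mem p₀.2 (inv_mem p.2))
        (hp ⟨y, hy, rfl⟩)
      show (p₀ : G ⧸ E₀) * y * (p₀ : G ⧸ E₀)⁻¹ ∈ K
      have e : (p₀ : G ⧸ E₀) * (p : G ⧸ E₀)⁻¹ * ((MulAut.conj (p : G ⧸ E₀)).toMonoidHom y) *
          ((p₀ : G ⧸ E₀) * (p : G ⧸ E₀)⁻¹)⁻¹ = p₀ * y * (p₀ : G ⧸ E₀)⁻¹ := by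
        show _ * ((p : G ⧸ E₀) * y * (p : G ⧸ E₀)⁻¹) * _ = _
        group
      rwa [e] at h1
    have hcen : K ≤ centralizer (F : Set (G ⧸ E₀)) := by
      have h : F ≤ centralizer (K : Set (G ⧸ E₀)) := iSup_le fun p =>
        CfsgLib.Components.le_centralizer_of_commutator_eq_bot
          ((CfsgLib.Components.le_or_commutator_eq_bot (hCp p) hKsn).resolve_left (hno p))
      exact le_centralizer_iff.1 h
    exact hsol K hKsn (haveI := CfsgLib.PLocal.isMulCommutative_of_forall (A := K) fun a ha b hb =>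
      mem_centralizer_iff.1 (hcen hb) a (hKF ha); Group.isSolvable_of_comm fun a b => mul_comm' a b)
  have hPL : (P : Subgroup G) ≤ normalizer ((oddGen G ⊓ F.comap π : Subgroup G) : Set G) :=
    le_normalizer_of_conj_mem fun p hp x hx => mem_inf.2 ⟨Normal.conj_mem inferInstance x (mem_inf.1 hx).1 p, by
      rw [mem_comap, map_mul, map_mul, map_inv]
      exact conj_mem_of_le_normalizer hFP (mem_map_of_mem π hp) (mem_inf.1 hx).2⟩
  obtain ⟨E, ⟨hE, hPE, hEF⟩, hEmin⟩ := (Set.toFinite {E : Subgroup G | E ≤ oddGen G ⊓ F.comap π ∧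
    (P : Subgroup G) ≤ normalizer (E : Set G) ∧ E.map π = F}).exists_minimal ⟨_, le_rfl, hPL, by
      refine le_antisymm (map_le_iff_le_comap.2 inf_le_right) fun y hy => ?_
      obtain ⟨l, hl, rfl⟩ := hFL hy
      exact ⟨l, mem_inf.2 ⟨hl, hy⟩, rfl⟩⟩
  have hres : E ≤ normalizer (U : Set G) := by
    refine le_normalizer_of_maximal hS hQ₁Q hQ₂ hN₀Q hN₀ hPU hUN hJU hHalf hmax (hE.trans inf_le_left) hPE
      (D := E ⊓ E₀) inf_le_left (inf_le_right.trans hE₀U) (fun K hKE hK => ?_)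
      (fun x hx => hE₀ x hx.2) ?_
    · have h1 : F ≤ normalizer (K.map π : Set (G ⧸ E₀)) :=
        hEF ▸ (map_mono (le_sup_left.trans hK)).trans (le_normalizer_map π)
      have h2 : P' ≤ normalizer (K.map π : Set (G ⧸ E₀)) :=
        (map_mono (le_sup_right.trans hK)).trans (le_normalizer_map π)
      rcases hFmin _ (hEF ▸ map_mono hKE) h1 h2 with h | h
      · refine Or.inr (le_inf hKE fun x hx => (QuotientGroup.eq_one_iff x).1 (mem_bot.1 ?_))
        exact h ▸ mem_map_of_mem π hx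
      · exact Or.inl (le_antisymm hKE (hEmin ⟨hKE.trans hE, le_sup_right.trans hK, h⟩ hKE))
    · by_contra! h
      refine CfsgLib.Components.component_not_isSolvable hC ?_
      have hp : IsPGroup 2 C := by
        rintro ⟨y, hy⟩
        obtain ⟨x, hx, rfl⟩ := hEF.ge (hCF hy)
        obtain ⟨k, hk⟩ := exists_odd_pow x
        refine ⟨k, Subtype.ext ?_⟩
        show π x ^ 2 ^ k = 1
        rw [← map_pow]
        exact (QuotientGroup.eq_one_iff (x ^ 2 ^ k)).2 (by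
          by_contra hne
          exact Nat.not_even_iff_odd.2 hk (Nat.not_odd_iff_even.1
            (h _ (pow_mem hx _) (fun hD => hne hD.2))))
      haveI := hp.isNilpotent
      infer_instance
  exact hCF.trans (hEF ▸ map_mono hres)

/-- The core step. -/
theorem core {P : Sylow 2 G} (hS : Setting P) {Q₁ V : Subgroup G} [Q₁.Normal]
    (hQ₁Q : Q₁ ≤ pCore 2 G) (hQ₂ : oddGen G ⊓ pCore 2 G ≤ Q₁) (hVX : V ≤ xJ (P : Subgroup G))
    (hPV : (P : Subgroup G) ≤ normalizer (V : Set G)) (hHalf : Half Q₁ V)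
    (hN : IsElementaryAbelian 2 (normalClosure (V : Set G))) (hNQ : normalClosure (V : Set G) ≤ pCore 2 G) :
    CfsgLib.PLocal.thompson 2 (P : Subgroup G) ≤ centralizer (normalClosure (V : Set G) : Set G) := by
  haveI : Fact (Nat.Prime 2) := ⟨Nat.prime_two⟩
  set J := CfsgLib.PLocal.thompson 2 (P : Subgroup G)
  set N₀ := normalClosure (V : Set G) with hN₀def
  haveI : N₀.Normal := normalClosure_normal
  obtain ⟨E₀, Ef, hE₀n, hEfn, hEE, hE₀, hPEf, hcase⟩ := exists_radical_pair hS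
  set H := normalizer (((P : Subgroup G) ⊓ Ef : Subgroup G) : Set G) with hHdef
  have hPH : (P : Subgroup G) ≤ H := fun p hp =>
    inf_normalizer_le_normalizer_inf ⟨le_normalizer hp, normalizer_eq_top Ef ▸ mem_top p⟩
  have hHne : H ≠ ⊤ := fun h => hPEf (CfsgLib.PCore.le_pCore (normalizer_eq_top_iff.1 h)
    (P.isPGroup'.to_le inf_le_left))
  set U₀ := ⨆ h : H, V.map (MulAut.conj (h : G)).toMonoidHom
  have hU₀N : U₀ ≤ N₀ := iSup_le fun h => by
    rintro _ ⟨v, hv, rfl⟩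
    exact Normal.conj_mem inferInstance v (subset_normalClosure hv) _
  have hPU₀ : (P : Subgroup G) ≤ normalizer (U₀ : Set G) := by
    refine le_normalizer_of_conj_mem fun p hp x hx => ?_
    have h : U₀ ≤ U₀.comap (MulAut.conj p).toMonoidHom := iSup_le fun h => by
      rintro _ ⟨v, hv, rfl⟩
      refine mem_iSup_of_mem (⟨p * h, mul_mem (hPH hp) h.2⟩ : H) ⟨v, hv, ?_⟩
      show p * h * v * (p * h)⁻¹ = p * (h * v * (h : G)⁻¹) * p⁻¹
      group
    exact h hx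
  have hJU₀ : J ≤ centralizer (U₀ : Set G) := le_centralizer_iff.1 (iSup_le fun h => by
    rintro _ ⟨v, hv, rfl⟩
    refine mem_centralizer_iff.2 fun j hj => ?_
    have h1 := mem_centralizer_iff.1 (hS.ind H hPH hHne _ (inv_mem h.2) j hj) v (hVX hv)
    show j * ((h : G) * v * (h : G)⁻¹) = (h : G) * v * (h : G)⁻¹ * j
    calc j * ((h : G) * v * (h : G)⁻¹) = h * (((h : G)⁻¹ * j * (h : G)⁻¹⁻¹) * v) * (h : G)⁻¹ := by group
      _ = h * (v * ((h : G)⁻¹ * j * (h : G)⁻¹⁻¹)) * (h : G)⁻¹ := by rw [← h1]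
      _ = _ := by group)
  have hH₀ : Half Q₁ U₀ := half_iSup _ fun h => hHalf.conj _ (normalizer_eq_top Q₁ ▸ mem_top _)
  obtain ⟨U, ⟨hU₀U, hUN, hPU, hJU, hHU⟩, hUmax⟩ := (Set.toFinite {U : Subgroup G | U₀ ≤ U ∧ U ≤ N₀ ∧
    (P : Subgroup G) ≤ normalizer (U : Set G) ∧ J ≤ centralizer (U : Set G) ∧ Half Q₁ U}).exists_maximal
    ⟨U₀, le_rfl, hU₀N, hPU₀, hJU₀, hH₀⟩
  have hmax : ∀ U' : Subgroup G, U ≤ U' → U' ≤ N₀ → (P : Subgroup G) ≤ normalizer (U' : Set G) →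
      J ≤ centralizer (U' : Set G) → Half Q₁ U' → U' = U := fun U' h1 h2 h3 h4 h5 =>
    le_antisymm (hUmax ⟨hU₀U.trans h1, h2, h3, h4, h5⟩ h1) h1
  have hE₀U : E₀ ≤ normalizer (U : Set G) :=
    odd_le_normalizer hS hQ₁Q hQ₂ hNQ hN hPU hUN hJU hHU hmax hE₀
  have hEfU : Ef ≤ normalizer (U : Set G) := by
    rcases hcase with h | ⟨hF, h⟩
    · exact h.trans (sup_le hE₀U hPU)
    · have hl : layer (G ⧸ E₀) ≤ (normalizer (U : Set G)).map (QuotientGroup.mk' E₀) :=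
        sSup_le fun C hC => component_le_normalizer' hS hQ₁Q hQ₂ hNQ hN hPU hUN hJU hHU hmax hE₀ hE₀U hF hC
      rw [h]
      refine (comap_mono hl).trans ?_
      rw [comap_map_eq, QuotientGroup.ker_mk']
      exact sup_le le_rfl hE₀U
  have hN₀U : N₀ ≤ U := by
    refine (closure_le _).2 fun y hy => ?_
    obtain ⟨v, hv, hvy⟩ := Group.mem_conjugatesOfSet_iff.1 hy
    obtain ⟨g, rfl⟩ := isConj_iff.1 hvy
    obtain ⟨e, he, h, hh, rfl⟩ := CfsgLib.Techniques.exists_eq_mul_normalizer_inf P Ef g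
    have h1 : h * v * h⁻¹ ∈ U := hU₀U (mem_iSup_of_mem (⟨h, hh⟩ : H) ⟨v, hv, rfl⟩)
    rw [show e * h * v * (e * h)⁻¹ = e * (h * v * h⁻¹) * e⁻¹ by group]
    exact conj_mem_of_le_normalizer hEfU he h1
  exact hJU.trans (centralizer_le (SetLike.coe_subset_coe.2 hN₀U))

end CfsgLib.SFourHat
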