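import Cfsg.Agent.Lib.SFourHat.InCore

set_option autoImplicit false
set_option linter.unusedSectionVars false

/-!
`Ĵ(P)` contains `L ∩ O₂(G)` in the minimal situation, and the conclusion there.
-/

namespace CfsgLib.SFourHat

open Subgroup Cfsg
open scoped commutatorElement

universe u

variable {G : Type u} [Group G] [Finite G]

theorem le_normalizer_sup {S A B : Subgroup G} (hA : S ≤ normalizer (A : Set G))
    (hB : S ≤ normalizer (B : Set G)) : S ≤ normalizer ((A ⊔ B : Subgroup G) : Set G) :=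
  le_normalizer_of_conj_mem fun s hs x hx => by
    have h : A ⊔ B ≤ (A ⊔ B).comap (MulAut.conj s).toMonoidHom := sup_le
      (fun y hy => mem_sup_left (conj_mem_of_le_normalizer hA hs hy))
      (fun y hy => mem_sup_right (conj_mem_of_le_normalizer hB hs hy))
    exact h hx

theorem le_normalizer_xJ (P : Subgroup G) : P ≤ normalizer (xJ P : Set G) :=
  fun p hp => CfsgLib.PLocal.normalizer_le_normalizer_omegaOne 2 _ (inf_normalizer_le_normalizer_inf
    ⟨le_normalizer_jH P hp, CfsgLib.Components.normalizer_le_normalizer_centralizer _ (le_normalizer_jH P hp)⟩)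

/-- `V` with the offender inequality for a group containing `J(P)` is centralized by `J(P)`. -/
theorem thompson_le_centralizer_of_half {P T V : Subgroup G} (hTP : T ≤ P)
    (hJ : CfsgLib.PLocal.thompson 2 P ≤ T) (hVP : V ≤ P) (hV : IsElementaryAbelian 2 V) (h : Half T V) :
    CfsgLib.PLocal.thompson 2 P ≤ centralizer (V : Set G) := by
  rw [CfsgLib.PLocal.thompson_le_iff]
  intro A hA
  by_contra hAV
  have h1 := h A (hA.le_thompson.trans hJ) (elemOn_of_elemAb V hA.elem) hAV
  set B := A ⊓ centralizer (V : Set G)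
  have hB : IsElementaryAbelian 2 (B ⊔ V : Subgroup G) :=
    CfsgLib.PLocal.elemAb_sup (CfsgLib.PLocal.elemAb_of_le hA.elem inf_le_left) hV inf_le_right
  have h2 := hA.2.2 _ (sup_le (inf_le_left.trans hA.le) hVP) hB
  have h3 : Nat.card B * B.relIndex (B ⊔ V) = Nat.card ↥(B ⊔ V) := by
    rw [← relIndex_bot_left, relIndex_mul_relIndex _ _ _ bot_le le_sup_left, relIndex_bot_left]
  have hAA : A ≤ centralizer (A : Set G) := fun a ha =>
    mem_centralizer_iff.2 fun b hb => CfsgLib.PLocal.elemAb_commute hA.elem hb ha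
  have h4 : (centralizer (A : Set G)).relIndex V ≤ B.relIndex (B ⊔ V) :=
    (Nat.le_of_dvd (relIndex_pos' _ _) (relIndex_dvd_of_le_left V (inf_le_left.trans hAA))).trans
      (relIndex_le_of_le_right le_sup_right index_ne_zero_of_finite)
  rw [card_eq_mul_relIndex (centralizer (V : Set G)) A, ← h3] at h2
  have h5 := h4.trans (Nat.le_of_mul_le_mul_left h2 Nat.card_pos)
  exact absurd h1 (not_lt.2 ((Nat.pow_le_pow_left h5 2).trans
    (Nat.pow_le_pow_right (relIndex_pos' _ _) (by norm_num))))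

/-- An elementary abelian subgroup of `P` centralized by `J(P)` lies in every maximal one. -/
theorem le_thompson_of_le_centralizer {P V : Subgroup G} (hVP : V ≤ P) (hV : IsElementaryAbelian 2 V)
    (h : CfsgLib.PLocal.thompson 2 P ≤ centralizer (V : Set G)) : V ≤ CfsgLib.PLocal.thompson 2 P := by
  obtain ⟨A, hA⟩ := CfsgLib.PLocal.exists_isMaxElemIn 2 P
  exact fun v hv => hA.le_thompson (hA.mem_of_centralizes (hVP hv) (hV.2 v hv) fun a ha =>
    (mem_centralizer_iff.1 (h (hA.le_thompson ha)) v hv).symm)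

theorem isEGroupIn_thompson (P : Subgroup G) : IsEGroupIn (CfsgLib.PLocal.thompson 2 P) :=
  fun _ hVJ _ hV hM => le_centralizer_iff.1 (thompson_le_centralizer_of_half
    (CfsgLib.PLocal.thompson_le 2 P) le_rfl (hVJ.trans (CfsgLib.PLocal.thompson_le 2 P)) hV hM.half)

theorem thompson_le_jH (P : Subgroup G) : CfsgLib.PLocal.thompson 2 P ≤ jH P :=
  le_jH (CfsgLib.PLocal.thompson_le 2 P) (isEGroupIn_thompson P) le_rfl

/-- The main part of the minimal situation. -/
theorem oddGen_inf_le_jH {P : Sylow 2 G} (hS : Setting P) :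
    oddGen G ⊓ pCore 2 G ≤ jH (P : Subgroup G) := by
  haveI : Fact (Nat.Prime 2) := ⟨Nat.prime_two⟩
  haveI : (pCore 2 G).Normal := pCore_normal 2 G
  set Q₂ := oddGen G ⊓ pCore 2 G
  set J := CfsgLib.PLocal.thompson 2 (P : Subgroup G)
  set T := jH (P : Subgroup G) ⊔ Q₂
  have hQ₂P : Q₂ ≤ (P : Subgroup G) := inf_le_right.trans (CfsgLib.PCore.pCore_le_sylow P)
  have hTP : T ≤ (P : Subgroup G) := sup_le (jH_le _) hQ₂P
  have hPT : (P : Subgroup G) ≤ normalizer (T : Set G) :=
    le_normalizer_sup (le_normalizer_jH _) (normalizer_eq_top Q₂ ▸ le_top)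
  have hJT : J ≤ T := (thompson_le_jH _).trans le_sup_left
  suffices hT : IsEGroupIn T from le_sup_right.trans (le_jH hTP hT hJT)
  intro V hVT hTV hV hM
  have hVP : V ≤ (P : Subgroup G) := hVT.trans hTP
  have hJV := thompson_le_centralizer_of_half hTP hJT hVP hV hM.half
  have hVJ : V ≤ J := le_thompson_of_le_centralizer hVP hV hJV
  have hjV : jH (P : Subgroup G) ≤ centralizer (V : Set G) := sSup_le fun U hU => le_centralizer_iff.1
    (hU.2.1 V (hVJ.trans hU.2.2) (((le_jH hU.1 hU.2.1 hU.2.2).trans le_sup_left).trans hTV) hV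
      (hM.mono ((le_jH hU.1 hU.2.1 hU.2.2).trans le_sup_left)))
  have hVX : V ≤ xJ (P : Subgroup G) := fun v hv =>
    mem_xJ (thompson_le_jH _ (hVJ hv)) (le_centralizer_iff.1 hjV hv) (hV.2 v hv)
  -- the join of the conjugates under `P`
  set W := orbitSup (P : Subgroup G) V
  have hPW : (P : Subgroup G) ≤ normalizer (W : Set G) := le_normalizer_orbitSup_self _ _
  have hWX : W ≤ xJ (P : Subgroup G) := orbitSup_le fun c hc u hu =>
    conj_mem_of_le_normalizer (le_normalizer_xJ _) hc (hVX hu)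
  have hWJ : W ≤ J := orbitSup_le fun c hc u hu =>
    conj_mem_of_le_normalizer (CfsgLib.PLocal.le_normalizer_thompson 2 _) hc (hVJ hu)
  have hWT : W ≤ T := hWJ.trans hJT
  have hWH : Half T W := half_iSup _ fun c => hM.half.conj _ (hPT c.2)
  have hWe : IsElementaryAbelian 2 W := CfsgLib.PLocal.elemAb_of_le (xJ_elemAb _) hWX
  have hWQ : W ≤ pCore 2 G := le_pCore_of_half hS hTP le_sup_right hPT hWT hWX hPW hWH hWJ
  set Q₁ := T ⊓ pCore 2 G
  haveI hQ₁n : Q₁.Normal := normal_of_between P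
    (fun p hp => inf_normalizer_le_normalizer_inf ⟨hPT hp, normalizer_eq_top (pCore 2 G) ▸ mem_top p⟩)
    inf_le_right (le_inf le_sup_right inf_le_right)
  have hWQ₁ : W ≤ Q₁ := le_inf hWT hWQ
  have hW₁ : Half Q₁ W := hWH.mono inf_le_left
  have hcomm : ∀ g : G, W.map (MulAut.conj g).toMonoidHom ≤ centralizer (W : Set G) := by
    intro g
    set R := W.map (MulAut.conj g).toMonoidHom with hR
    by_contra hn
    have hRQ : R ≤ Q₁ := by
      rintro _ ⟨w, hw, rfl⟩
      exact Normal.conj_mem inferInstance w (hWQ₁ hw) g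
    have hRH : Half Q₁ R := hW₁.conj g (normalizer_eq_top Q₁ ▸ mem_top g)
    have h1 := hW₁ R hRQ (elemOn_of_elemAb W (CfsgLib.PLocal.elemAb_map _ hWe)) hn
    have h2 := hRH W hWQ₁ (elemOn_of_elemAb R hWe) fun h => hn (le_centralizer_iff.1 h)
    set a := (centralizer (W : Set G)).relIndex R
    set b := (centralizer (R : Set G)).relIndex W
    have ha : 0 < a := relIndex_pos' _ _
    have h3 : (a ^ 3) ^ 3 < (b ^ 2) ^ 3 := Nat.pow_lt_pow_left h1 (by norm_num)
    have h4 : (b ^ 3) ^ 2 < (a ^ 2) ^ 2 := Nat.pow_lt_pow_left h2 (by norm_num)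
    rw [← pow_mul, ← pow_mul] at h3 h4
    exact absurd (h3.trans h4) (not_lt.2 (Nat.pow_le_pow_right ha (by norm_num)))
  have hN : IsElementaryAbelian 2 (normalClosure (W : Set G)) := by
    refine CfsgLib.PLocal.elemAb_closure (fun a ha b hb => ?_) fun a ha => ?_
    · obtain ⟨u, hu, hua⟩ := Group.mem_conjugatesOfSet_iff.1 ha
      obtain ⟨g, rfl⟩ := isConj_iff.1 hua
      obtain ⟨w, hw, hwb⟩ := Group.mem_conjugatesOfSet_iff.1 hb
      obtain ⟨h, rfl⟩ := isConj_iff.1 hwb
      have h1 := mem_centralizer_iff.1 (hcomm (h⁻¹ * g) ⟨u, hu, rfl⟩) w hw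
      change w * (h⁻¹ * g * u * (h⁻¹ * g)⁻¹) = h⁻¹ * g * u * (h⁻¹ * g)⁻¹ * w at h1
      calc g * u * g⁻¹ * (h * w * h⁻¹) = h * (h⁻¹ * g * u * (h⁻¹ * g)⁻¹ * w) * h⁻¹ := by group
        _ = h * (w * (h⁻¹ * g * u * (h⁻¹ * g)⁻¹)) * h⁻¹ := by rw [h1]
        _ = _ := by group
    · obtain ⟨u, hu, hua⟩ := Group.mem_conjugatesOfSet_iff.1 ha
      obtain ⟨g, rfl⟩ := isConj_iff.1 hua
      rw [conj_pow, hWe.2 u hu, mul_one, mul_inv_cancel]
  have hNQ : normalClosure (W : Set G) ≤ pCore 2 G := normalClosure_le_normal hWQ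
  haveI := normalClosure_normal (s := (W : Set G))
  have hL := oddGen_le_centralizer hS
    (core hS (Q₁ := Q₁) inf_le_right (le_inf le_sup_right inf_le_right) hWX hPW hW₁ hN hNQ)
  refine le_centralizer_iff.1 (sup_le hjV (inf_le_left.trans (hL.trans (centralizer_le ?_))))
  exact fun v hv => subset_normalClosure (le_orbitSup _ _ hv)

/-- The conclusion in the minimal situation. -/
theorem conj_mem_centralizer_of_setting {P : Sylow 2 G} (hS : Setting P) (g : G) :
    ∀ j ∈ CfsgLib.PLocal.thompson 2 (P : Subgroup G),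
      g * j * g⁻¹ ∈ centralizer (xJ (P : Subgroup G) : Set G) := by
  haveI : Fact (Nat.Prime 2) := ⟨Nat.prime_two⟩
  haveI : (pCore 2 G).Normal := pCore_normal 2 G
  set Q₂ := oddGen G ⊓ pCore 2 G
  set X := xJ (P : Subgroup G)
  have hXC : X ≤ centralizer (Q₂ : Set G) :=
    (xJ_le_centralizer_jH _).trans (centralizer_le (SetLike.coe_subset_coe.2 (oddGen_inf_le_jH hS)))
  have hCQ : centralizer (Q₂ : Set G) ≤ pCore 2 G := by
    refine CfsgLib.PCore.le_pCore inferInstance fun x => ?_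
    obtain ⟨k, hk⟩ := exists_odd_pow (x : G)
    exact ⟨k, Subtype.ext (eq_one_of_centralizes hS.char hk (pow_mem x.2 _))⟩
  have hsplit : ∀ (a : G) (x : G), x ∈ X → ∃ z ∈ Q₂, z ∈ centralizer (Q₂ : Set G) ∧
      ∃ x' ∈ X, a * x * a⁻¹ = z * x' := by
    intro a x hx
    obtain ⟨l, hl, p, hp, rfl⟩ := mem_sup_of_normal_left.1 ((oddGen_sup_sylow P).ge (mem_top a))
    have hx' := conj_mem_of_le_normalizer (le_normalizer_xJ _) hp hx
    refine ⟨⁅l, p * x * p⁻¹⁆, mem_inf.2 ⟨?_, ?_⟩, ?_, p * x * p⁻¹, hx', by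
      rw [commutatorElement_def]; group⟩
    · rw [commutatorElement_def, mul_assoc l, mul_assoc]
      exact mul_mem hl (Normal.conj_mem inferInstance _ (inv_mem hl) _)
    · exact mul_mem (Normal.conj_mem inferInstance _ (hCQ (hXC hx')) l) (inv_mem (hCQ (hXC hx')))
    · exact mul_mem (Normal.conj_mem inferInstance _ (hXC hx') l) (inv_mem (hXC hx'))
  have hXe := xJ_elemAb (P : Subgroup G)
  have hN : IsElementaryAbelian 2 (normalClosure (X : Set G)) := by
    refine CfsgLib.PLocal.elemAb_closure (fun a ha b hb => ?_) fun a ha => ?_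
    · obtain ⟨u, hu, hua⟩ := Group.mem_conjugatesOfSet_iff.1 ha
      obtain ⟨g, rfl⟩ := isConj_iff.1 hua
      obtain ⟨w, hw, hwb⟩ := Group.mem_conjugatesOfSet_iff.1 hb
      obtain ⟨h, rfl⟩ := isConj_iff.1 hwb
      obtain ⟨z, hz, hzc, u', hu', e⟩ := hsplit g u hu
      obtain ⟨z', hz', hzc', w', hw', e'⟩ := hsplit h w hw
      rw [e, e']
      have c1 : Commute z z' := (mem_centralizer_iff.1 hzc _ hz').symm
      have c2 : Commute z w' := mem_centralizer_iff.1 (hXC hw') z hz
      have c3 : Commute u' z' := (mem_centralizer_iff.1 (hXC hu') z' hz').symm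
      have c4 : Commute u' w' := CfsgLib.PLocal.elemAb_commute hXe hu' hw'
      exact ((c1.mul_right c2).mul_left (c3.mul_right c4)).eq
    · obtain ⟨u, hu, hua⟩ := Group.mem_conjugatesOfSet_iff.1 ha
      obtain ⟨g, rfl⟩ := isConj_iff.1 hua
      rw [conj_pow, hXe.2 u hu, mul_one, mul_inv_cancel]
  have hNQ : normalClosure (X : Set G) ≤ pCore 2 G := normalClosure_le_normal (hXC.trans hCQ)
  haveI := normalClosure_normal (s := (X : Set G))
  have hJ := core hS (Q₁ := Q₂) inf_le_right le_rfl le_rfl (le_normalizer_xJ _)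
    (half_of_le_centralizer (le_centralizer_iff.1 hXC)) hN hNQ
  intro j hj
  exact centralizer_le (fun x hx => subset_normalClosure hx) (Normal.conj_mem inferInstance j (hJ hj) g)

end CfsgLib.SFourHat
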