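import Cfsg.Agent.Lib.PLocal.Thompson
import Cfsg.Agent.Lib.PCore.Basic

set_option autoImplicit false
set_option linter.unusedSectionVars false

/-!
The offender inequality `|R̄| ^ 3 < |V : C_V(R)| ^ 2` for elementary sections `R̄` of a family of acting
subgroups, its inheritance by joins, conjugates and by groups acting piecewise like the family.
-/

namespace CfsgLib.SFourHat

open Subgroup
open scoped commutatorElement

variable {G : Type*} [Group G]

/-- `R` acts on `V` as an elementary abelian 2-group. -/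
def ElemOn (R V : Subgroup G) : Prop :=
  ⁅R, R⁆ ≤ centralizer (V : Set G) ∧ ∀ r ∈ R, r ^ 2 ∈ centralizer (V : Set G)

/-- The inequality for all elementary actions of subgroups of `D`. -/
def Half (D V : Subgroup G) : Prop :=
  ∀ R : Subgroup G, R ≤ D → ElemOn R V → ¬ R ≤ centralizer (V : Set G) →
    (centralizer (V : Set G)).relIndex R ^ 3 < (centralizer (R : Set G)).relIndex V ^ 2

theorem ElemOn.mono {R R' V V' : Subgroup G} (h : ElemOn R V) (hR : R' ≤ R) (hV : V' ≤ V) :
    ElemOn R' V' := by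
  have hc : centralizer (V : Set G) ≤ centralizer (V' : Set G) :=
    centralizer_le (SetLike.coe_subset_coe.2 hV)
  exact ⟨((commutator_mono hR hR).trans h.1).trans hc, fun r hr => hc (h.2 r (hR hr))⟩

theorem elemOn_of_elemAb {R : Subgroup G} (V : Subgroup G) (hR : Cfsg.IsElementaryAbelian 2 R) :
    ElemOn R V := by
  refine ⟨?_, fun r hr => by rw [hR.2 r hr]; exact one_mem _⟩
  rw [commutator_le]
  intro a ha b hb
  rw [commutatorElement_eq_one_iff_mul_comm.2 (PLocal.elemAb_commute hR ha hb)]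
  exact one_mem _

theorem Half.mono {D D' V : Subgroup G} (h : Half D V) (hD : D' ≤ D) : Half D' V :=
  fun R hR => h R (hR.trans hD)

theorem half_of_le_centralizer {D V : Subgroup G} (h : D ≤ centralizer (V : Set G)) : Half D V :=
  fun _ hR _ hn => absurd (hR.trans h) hn

theorem relIndex_pos' [Finite G] (H K : Subgroup G) : 0 < H.relIndex K :=
  Nat.pos_of_ne_zero index_ne_zero_of_finite

/-- The weak form. -/
theorem Half.pow_le [Finite G] {D V R : Subgroup G} (h : Half D V) (hR : R ≤ D) (he : ElemOn R V) :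
    (centralizer (V : Set G)).relIndex R ^ 3 ≤ (centralizer (R : Set G)).relIndex V ^ 2 := by
  by_cases hn : R ≤ centralizer (V : Set G)
  · rw [relIndex_eq_one.2 hn, one_pow]
    exact Nat.one_le_pow _ _ (relIndex_pos' _ _)
  · exact (h R hR he hn).le

/-- An index in a larger group is at least the index in a smaller one. -/
theorem relIndex_le_relIndex_of_le_right [Finite G] (H : Subgroup G) {K K' : Subgroup G} (h : K ≤ K') :
    H.relIndex K ≤ H.relIndex K' := relIndex_le_of_le_right h index_ne_zero_of_finite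

/-- Joins. -/
theorem Half.sup [Finite G] {D V₁ V₂ : Subgroup G} (h₁ : Half D V₁) (h₂ : Half D V₂) :
    Half D (V₁ ⊔ V₂) := by
  intro R hR he hn
  have hC : centralizer ((V₁ ⊔ V₂ : Subgroup G) : Set G) =
      centralizer (V₁ : Set G) ⊓ centralizer (V₂ : Set G) := by
    refine le_antisymm (le_inf (centralizer_le (SetLike.coe_subset_coe.2 le_sup_left))
      (centralizer_le (SetLike.coe_subset_coe.2 le_sup_right))) fun x hx => ?_
    have : V₁ ⊔ V₂ ≤ centralizer ({x} : Set G) := sup_le
      (fun v hv => mem_centralizer_singleton_iff.2 (mem_centralizer_iff.1 hx.1 v hv))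
      (fun v hv => mem_centralizer_singleton_iff.2 (mem_centralizer_iff.1 hx.2 v hv))
    exact mem_centralizer_iff.2 fun v hv => mem_centralizer_singleton_iff.1 (this hv)
  set W := V₁ ⊔ V₂
  set R₁ := R ⊓ centralizer (V₁ : Set G) with hR₁
  have hi : (centralizer (W : Set G)).relIndex R =
      (centralizer (V₂ : Set G)).relIndex R₁ * (centralizer (V₁ : Set G)).relIndex R := by
    rw [hC, ← relIndex_mul_relIndex (centralizer (V₁ : Set G) ⊓ centralizer (V₂ : Set G) ⊓ R) R₁ R
      (le_inf inf_le_right (inf_le_left.trans inf_le_left)) inf_le_left |>.trans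
      (inf_relIndex_right _ _)]
    congr 1
    · have e : centralizer (V₁ : Set G) ⊓ centralizer (V₂ : Set G) ⊓ R =
          centralizer (V₂ : Set G) ⊓ R₁ := by
        rw [hR₁, inf_comm R, ← inf_assoc, inf_comm (centralizer (V₁ : Set G))]
      rw [e, inf_relIndex_right]
    · rw [hR₁, inf_relIndex_left]
  have hcW : centralizer (R : Set G) ⊓ W ≤ centralizer (R₁ : Set G) ⊓ W :=
    inf_le_inf_right _ (centralizer_le (SetLike.coe_subset_coe.2 inf_le_left))
  have hV₁ : V₁ ≤ centralizer (R₁ : Set G) ⊓ W :=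
    le_inf (le_centralizer_iff.1 inf_le_right) le_sup_left
  have hc : (centralizer (R : Set G)).relIndex V₁ * (centralizer (R₁ : Set G)).relIndex V₂ ≤
      (centralizer (R : Set G)).relIndex W := by
    calc _ ≤ (centralizer (R : Set G) ⊓ W).relIndex (centralizer (R₁ : Set G) ⊓ W) *
          (centralizer (R₁ : Set G) ⊓ W).relIndex W := ?_
      _ = _ := by rw [relIndex_mul_relIndex _ _ _ hcW inf_le_right, inf_relIndex_right]
    refine Nat.mul_le_mul ?_ ?_
    · calc (centralizer (R : Set G)).relIndex V₁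
          = (centralizer (R : Set G) ⊓ W).relIndex V₁ := by
            rw [← inf_relIndex_right (centralizer (R : Set G)) V₁,
              ← inf_relIndex_right (centralizer (R : Set G) ⊓ W) V₁, inf_assoc,
              inf_eq_right.2 (le_sup_left : V₁ ≤ W)]
        _ ≤ _ := relIndex_le_relIndex_of_le_right _ hV₁
    · rw [inf_relIndex_right]
      exact relIndex_le_relIndex_of_le_right _ le_sup_right
  refine lt_of_lt_of_le ?_ (Nat.pow_le_pow_left hc 2)
  rw [hi, mul_pow, mul_pow, mul_comm]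
  have h1 := h₁.pow_le hR (he.mono le_rfl le_sup_left)
  have h2 := h₂.pow_le (inf_le_left.trans hR) (he.mono (inf_le_left : R₁ ≤ R) le_sup_right)
  by_cases hn₁ : R ≤ centralizer (V₁ : Set G)
  · have hn₂ : ¬ R₁ ≤ centralizer (V₂ : Set G) := fun h =>
      hn (hC ▸ le_inf hn₁ ((le_inf le_rfl hn₁).trans h))
    exact Nat.mul_lt_mul_of_le_of_lt h1 (h₂ R₁ (inf_le_left.trans hR)
      (he.mono inf_le_left le_sup_right) hn₂) (pow_pos (relIndex_pos' _ _) 2)
  · exact Nat.mul_lt_mul_of_lt_of_le (h₁ R hR (he.mono le_rfl le_sup_left) hn₁) h2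
      (pow_pos (relIndex_pos' _ _) 2)

theorem half_sSup [Finite G] {D : Subgroup G} (s : Set (Subgroup G)) (h : ∀ V ∈ s, Half D V) :
    Half D (sSup s) := by
  induction s, Set.toFinite s using Set.Finite.induction_on with
  | empty =>
    rw [sSup_empty]
    exact half_of_le_centralizer fun x _ => mem_centralizer_iff.2 fun v hv => by
      rw [SetLike.mem_coe, mem_bot] at hv
      rw [hv, one_mul, mul_one]
  | @insert a t _ _ ih =>
    rw [sSup_insert]
    exact (h a (Set.mem_insert _ _)).sup (ih fun V hV => h V (Set.mem_insert_of_mem _ hV))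

theorem half_iSup [Finite G] {D : Subgroup G} {ι : Sort*} (f : ι → Subgroup G)
    (h : ∀ i, Half D (f i)) : Half D (iSup f) :=
  half_sSup _ (by rintro _ ⟨i, rfl⟩; exact h i)

theorem relIndex_centralizer_map {G' : Type*} [Group G'] (e : G ≃* G') (R V : Subgroup G) :
    (centralizer ((R.map e.toMonoidHom : Subgroup G') : Set G')).relIndex (V.map e.toMonoidHom) =
      (centralizer (R : Set G)).relIndex V := by
  have h : centralizer ((R.map e.toMonoidHom : Subgroup G') : Set G') =
      (centralizer (R : Set G)).map e.toMonoidHom := by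
    ext x
    obtain ⟨y, rfl⟩ := e.surjective x
    rw [show e y = e.toMonoidHom y from rfl, mem_map_iff_mem e.injective, mem_centralizer_iff,
      mem_centralizer_iff]
    constructor
    · intro h r hr
      exact e.injective (by simpa using h _ ⟨r, hr, rfl⟩)
    · rintro h _ ⟨r, hr, rfl⟩
      show e r * e y = e y * e r
      rw [← map_mul, ← map_mul, h r hr]
  rw [h, relIndex_map_map_of_injective _ _ e.injective]

/-- Transport along an automorphism. -/
theorem Half.map {D V : Subgroup G} (h : Half D V) (e : G ≃* G) :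
    Half (D.map e.toMonoidHom) (V.map e.toMonoidHom) := by
  intro R hR he hn
  set R' := R.map e.symm.toMonoidHom
  have hRR' : R'.map e.toMonoidHom = R := by
    rw [Subgroup.map_map, show e.toMonoidHom.comp e.symm.toMonoidHom = MonoidHom.id G from
      MonoidHom.ext fun x => e.apply_symm_apply x, Subgroup.map_id]
  have hcen : ∀ {x : G}, e x ∈ centralizer ((V.map e.toMonoidHom : Subgroup G) : Set G) →
      x ∈ centralizer (V : Set G) := fun {x} hx => mem_centralizer_iff.2 fun v hv =>
    e.injective (by rw [map_mul, map_mul]; exact mem_centralizer_iff.1 hx _ ⟨v, hv, rfl⟩)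
  have hle : R' ≤ D := by
    rintro _ ⟨r, hr, rfl⟩
    obtain ⟨d, hd, hde⟩ := hR hr
    rw [← hde]
    simpa using hd
  have he' : ElemOn R' V := by
    refine ⟨?_, fun r hr => hcen ?_⟩
    · rw [commutator_le]
      intro a ha b hb
      refine hcen ?_
      rw [show e ⁅a, b⁆ = ⁅e a, e b⁆ from map_commutatorElement e.toMonoidHom a b]
      exact he.1 (commutator_mem_commutator (hRR' ▸ mem_map_of_mem _ ha)
        (hRR' ▸ mem_map_of_mem _ hb))
    · rw [map_pow]
      exact he.2 _ (hRR' ▸ mem_map_of_mem e.toMonoidHom hr)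
  have hn' : ¬ R' ≤ centralizer (V : Set G) := fun hc => hn fun r hr => by
    rw [← hRR'] at hr
    obtain ⟨r', hr', rfl⟩ := hr
    refine mem_centralizer_iff.2 ?_
    rintro _ ⟨v, hv, rfl⟩
    show e v * e r' = e r' * e v
    rw [← map_mul, ← map_mul, mem_centralizer_iff.1 (hc hr') v hv]
  have key := h R' hle he' hn'
  rw [← relIndex_centralizer_map e V R', ← relIndex_centralizer_map e R' V, hRR'] at key
  exact key

/-- Conjugates, when the family is invariant. -/
theorem Half.conj {D V : Subgroup G} (h : Half D V) (g : G) (hg : g ∈ normalizer (D : Set G)) :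
    Half D (V.map (MulAut.conj g).toMonoidHom) := by
  have := h.map (MulAut.conj g)
  have hg' : D.map (MulAut.conj g).toMonoidHom = D := mem_normalizer_iff_map_conj_eq.1 hg
  rwa [hg'] at this

/-- A group acting on `V` like a part of `D` satisfies the inequality. -/
theorem Half.of_like [Finite G] {D V R : Subgroup G} (h : Half D V)
    (hDV : D ≤ normalizer (V : Set G))
    (hlike : ∀ x ∈ R, ∃ q ∈ D, ∀ u ∈ V, x * u * x⁻¹ = q * u * q⁻¹) (he : ElemOn R V)
    (hn : ¬ R ≤ centralizer (V : Set G)) :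
    (centralizer (V : Set G)).relIndex R ^ 3 < (centralizer (R : Set G)).relIndex V ^ 2 := by
  have hRV : R ≤ normalizer (V : Set G) := fun x hx => by
    obtain ⟨q, hq, hxq⟩ := hlike x hx
    rw [mem_normalizer_iff_map_conj_eq]
    refine Eq.trans (SetLike.coe_injective ?_) (mem_normalizer_iff_map_conj_eq.1 (hDV hq))
    simp only [coe_map]
    exact Set.image_congr fun u hu => hxq u hu
  set φ := V.normalizerMonoidHom
  have hker : φ.ker = (centralizer (V : Set G)).subgroupOf (normalizer (V : Set G)) :=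
    normalizerMonoidHom_ker V
  have heq : ∀ {x q : G} (hx : x ∈ normalizer (V : Set G)) (hq : q ∈ normalizer (V : Set G)),
      (∀ u ∈ V, x * u * x⁻¹ = q * u * q⁻¹) → φ ⟨x, hx⟩ = φ ⟨q, hq⟩ := fun hx hq hu =>
    MulEquiv.ext fun u => Subtype.ext (hu u u.2)
  have hconv : ∀ {x q : G} (hx : x ∈ normalizer (V : Set G)) (hq : q ∈ normalizer (V : Set G)),
      φ ⟨x, hx⟩ = φ ⟨q, hq⟩ → ∀ u ∈ V, x * u * x⁻¹ = q * u * q⁻¹ := by
    intro x q hx hq hu u hu'
    exact congrArg Subtype.val (DFunLike.congr_fun hu (⟨u, hu'⟩ : V))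
  set R' := (((R.subgroupOf (normalizer (V : Set G))).map φ).comap φ ⊓
    D.subgroupOf (normalizer (V : Set G))).map (normalizer (V : Set G)).subtype with hR'
  have hR'D : R' ≤ D := by
    rintro _ ⟨y, hy, rfl⟩
    exact (mem_inf.1 hy).2
  have hmem : ∀ {q : G}, q ∈ R' → ∃ x ∈ R, ∀ u ∈ V, x * u * x⁻¹ = q * u * q⁻¹ := by
    rintro _ ⟨y, hy, rfl⟩
    obtain ⟨x, hx, hxy⟩ := (mem_inf.1 hy).1
    exact ⟨x, hx, hconv x.2 y.2 hxy⟩
  have hmem' : ∀ {x : G}, x ∈ R → ∃ q ∈ R', ∀ u ∈ V, x * u * x⁻¹ = q * u * q⁻¹ := by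
    intro x hx
    obtain ⟨q, hq, hxq⟩ := hlike x hx
    exact ⟨q, ⟨⟨q, hDV hq⟩, mem_inf.2 ⟨⟨⟨x, hRV hx⟩, hx, heq _ _ hxq⟩, hq⟩, rfl⟩, hxq⟩
  have hfix : ∀ {x : G}, x ∈ centralizer (V : Set G) ↔ ∀ u ∈ V, x * u * x⁻¹ = u := fun {x} =>
    ⟨fun h u hu => by rw [← mem_centralizer_iff.1 h u hu, mul_inv_cancel_right],
      fun h => mem_centralizer_iff.2 fun u hu => (mul_inv_eq_iff_eq_mul.1 (h u hu)).symm⟩
  have hfix' : ∀ {A B : Subgroup G}, (∀ x ∈ A, ∃ q ∈ B, ∀ u ∈ V, x * u * x⁻¹ = q * u * q⁻¹) →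
      centralizer (B : Set G) ⊓ V ≤ centralizer (A : Set G) := by
    intro A B hAB w hw
    refine mem_centralizer_iff.2 fun x hx => ?_
    obtain ⟨q, hq, hxq⟩ := hAB x hx
    have h1 := hxq w hw.2
    rw [mem_centralizer_iff.1 hw.1 q hq, mul_inv_cancel_right] at h1
    exact mul_inv_eq_iff_eq_mul.1 h1
  have he' : ElemOn R' V := by
    refine ⟨?_, fun q hq => hfix.2 ?_⟩
    · rw [commutator_le]
      intro q hq q' hq'
      obtain ⟨x, hx, hxq⟩ := hmem hq
      obtain ⟨x', hx', hxq'⟩ := hmem hq'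
      have hn1 := hDV (hR'D hq); have hn2 := hDV (hR'D hq')
      have h1 : φ ⟨⁅x, x'⁆, mul_mem (mul_mem (mul_mem (hRV hx) (hRV hx')) (inv_mem (hRV hx)))
          (inv_mem (hRV hx'))⟩ = φ ⟨⁅q, q'⁆, mul_mem (mul_mem (mul_mem hn1 hn2) (inv_mem hn1))
          (inv_mem hn2)⟩ := by
        show φ ⁅(⟨x, hRV hx⟩ : normalizer (V : Set G)), ⟨x', hRV hx'⟩⁆ =
          φ ⁅(⟨q, hn1⟩ : normalizer (V : Set G)), ⟨q', hn2⟩⁆
        rw [map_commutatorElement, map_commutatorElement, heq _ hn1 hxq, heq _ hn2 hxq']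
      refine hfix.2 fun u hu => ?_
      rw [← hconv _ _ h1 u hu]
      exact hfix.1 (he.1 (commutator_mem_commutator hx hx')) u hu
    · obtain ⟨x, hx, hxq⟩ := hmem hq
      have hn1 := hDV (hR'D hq)
      have h1 : φ ⟨x ^ 2, pow_mem (hRV hx) 2⟩ = φ ⟨q ^ 2, pow_mem hn1 2⟩ := by
        show φ ((⟨x, hRV hx⟩ : normalizer (V : Set G)) ^ 2) = φ ((⟨q, hn1⟩ : normalizer (V : Set G)) ^ 2)
        rw [map_pow, map_pow, heq _ hn1 hxq]
      intro u hu
      rw [← hconv _ _ h1 u hu]
      exact hfix.1 (he.2 x hx) u hu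
  have hidx : (centralizer (V : Set G)).relIndex R' = (centralizer (V : Set G)).relIndex R := by
    have hR'N : R' ≤ normalizer (V : Set G) := hR'D.trans hDV
    rw [← relIndex_subgroupOf hR'N, ← relIndex_subgroupOf hRV, ← hker, relIndex_ker, relIndex_ker]
    congr 2
    refine le_antisymm ?_ ?_
    · rintro _ ⟨y, hy, rfl⟩
      obtain ⟨x, hx, hxy⟩ := hmem hy
      exact ⟨⟨x, hRV hx⟩, hx, heq _ y.2 hxy⟩
    · rintro _ ⟨y, hy, rfl⟩
      obtain ⟨q, hq, hxq⟩ := hmem' hy
      exact ⟨⟨q, hR'N hq⟩, hq, (heq y.2 _ hxq).symm⟩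
  have hcV : (centralizer (R' : Set G)).relIndex V = (centralizer (R : Set G)).relIndex V := by
    rw [← inf_relIndex_right (centralizer (R' : Set G)), ← inf_relIndex_right (centralizer (R : Set G))]
    congr 1
    refine le_antisymm (le_inf (hfix' fun x hx => hmem' hx) inf_le_right) (le_inf (hfix' fun q hq => ?_)
      inf_le_right)
    obtain ⟨x, hx, hxq⟩ := hmem hq
    exact ⟨x, hx, fun u hu => (hxq u hu).symm⟩
  have hn' : ¬ R' ≤ centralizer (V : Set G) := fun hc => by
    rw [← relIndex_eq_one, hidx, relIndex_eq_one] at hc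
    exact hn hc
  have key := h R' hR'D he' hn'
  rwa [hidx, hcV] at key

end CfsgLib.SFourHat
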