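import Cfsg.Agent.Lib.SFourHat.Half
import Cfsg.Prelude.Def_PLocal

set_option autoImplicit false
set_option linter.unusedSectionVars false

/-!
A nontrivial irreducible layer for a group `E` with a minimality property, acting on an elementary section.
-/

namespace CfsgLib.SFourHat

open Subgroup
open scoped commutatorElement

variable {G : Type*} [Group G] [Finite G]

/-- In a finite group a subgroup mapped into itself by conjugation is normalized. -/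
theorem le_normalizer_of_conj_mem {S K : Subgroup G} (h : ∀ s ∈ S, ∀ x ∈ K, s * x * s⁻¹ ∈ K) :
    S ≤ normalizer (K : Set G) := fun s hs => by
  rw [mem_normalizer_iff_map_conj_eq]
  refine eq_of_le_of_card_ge ?_ (card_map_of_injective (K := K) (MulAut.conj s).injective).ge
  rintro _ ⟨x, hx, rfl⟩
  exact h s hs x hx

theorem conj_mem_of_le_normalizer {S K : Subgroup G} (h : S ≤ normalizer (K : Set G)) {s x : G}
    (hs : s ∈ S) (hx : x ∈ K) : s * x * s⁻¹ ∈ K := (mem_normalizer_iff.1 (h hs) x).1 hx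

/-- The elements of `Z` moved by `E` only inside `Z₀`. -/
def fixMod (E Z Z₀ : Subgroup G) (hn : Z ≤ normalizer (Z₀ : Set G)) : Subgroup G where
  carrier := {y | y ∈ Z ∧ ∀ c ∈ E, ⁅c, y⁆ ∈ Z₀}
  one_mem' := ⟨one_mem _, fun c _ => by rw [commutatorElement_one_right]; exact one_mem _⟩
  mul_mem' := fun {a b} ha hb => ⟨mul_mem ha.1 hb.1, fun c hc => by
    rw [show ⁅c, a * b⁆ = ⁅c, a⁆ * (a * ⁅c, b⁆ * a⁻¹) by simp only [commutatorElement_def]; group]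
    exact mul_mem (ha.2 c hc) (conj_mem_of_le_normalizer hn ha.1 (hb.2 c hc))⟩
  inv_mem' := fun {a} ha => ⟨inv_mem ha.1, fun c hc => by
    rw [show ⁅c, a⁻¹⁆ = a⁻¹ * ⁅c, a⁆⁻¹ * a⁻¹⁻¹ by simp only [commutatorElement_def]; group]
    exact conj_mem_of_le_normalizer hn (inv_mem ha.1) (inv_mem (ha.2 c hc))⟩

theorem mem_fixMod {E Z Z₀ : Subgroup G} {hn : Z ≤ normalizer (Z₀ : Set G)} {y : G} :
    y ∈ fixMod E Z Z₀ hn ↔ y ∈ Z ∧ ∀ c ∈ E, ⁅c, y⁆ ∈ Z₀ := Iff.rfl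

theorem fixMod_le {E Z Z₀ : Subgroup G} {hn : Z ≤ normalizer (Z₀ : Set G)} :
    fixMod E Z Z₀ hn ≤ Z := fun _ h => h.1

theorem le_normalizer_fixMod {S E Z Z₀ : Subgroup G} {hn : Z ≤ normalizer (Z₀ : Set G)}
    (hSE : S ≤ normalizer (E : Set G)) (hSZ : S ≤ normalizer (Z : Set G))
    (hSZ₀ : S ≤ normalizer (Z₀ : Set G)) : S ≤ normalizer (fixMod E Z Z₀ hn : Set G) := by
  refine le_normalizer_of_conj_mem fun s hs y hy => ⟨conj_mem_of_le_normalizer hSZ hs hy.1, fun c hc => ?_⟩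
  have h1 := conj_mem_of_le_normalizer hSE (inv_mem hs) hc
  have h2 := conj_mem_of_le_normalizer hSZ₀ hs (hy.2 _ h1)
  have e : s * ⁅s⁻¹ * c * s⁻¹⁻¹, y⁆ * s⁻¹ = ⁅c, s * y * s⁻¹⁆ := by
    simp only [commutatorElement_def]; group
  rwa [e] at h2

theorem le_fixMod_of_le {E Z Z₀ W : Subgroup G} {hn : Z ≤ normalizer (Z₀ : Set G)} (hW : W ≤ Z)
    (hWn : E ≤ normalizer (W : Set G)) (hW₀ : W ≤ Z₀) : W ≤ fixMod E Z Z₀ hn :=
  fun y hy => ⟨hW hy, fun c hc => by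
    rw [commutatorElement_def]
    exact hW₀ (mul_mem (conj_mem_of_le_normalizer hWn hc hy) (inv_mem hy))⟩

/-- The elements of `E` moving `Y` only inside `Y₀`. -/
def actKer (E Y Y₀ : Subgroup G) (hEY : E ≤ normalizer (Y : Set G))
    (hE₀ : E ≤ normalizer (Y₀ : Set G)) : Subgroup G where
  carrier := {c | c ∈ E ∧ ∀ y ∈ Y, ⁅c, y⁆ ∈ Y₀}
  one_mem' := ⟨one_mem _, fun y _ => by rw [commutatorElement_one_left]; exact one_mem _⟩
  mul_mem' := fun {a b} ha hb => ⟨mul_mem ha.1 hb.1, fun y hy => by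
    rw [show ⁅a * b, y⁆ = a * ⁅b, y⁆ * a⁻¹ * ⁅a, y⁆ by simp only [commutatorElement_def]; group]
    exact mul_mem (conj_mem_of_le_normalizer hE₀ ha.1 (hb.2 y hy)) (ha.2 y hy)⟩
  inv_mem' := fun {a} ha => ⟨inv_mem ha.1, fun y hy => by
    rw [show ⁅a⁻¹, y⁆ = a⁻¹ * ⁅a, y⁆⁻¹ * a⁻¹⁻¹ by simp only [commutatorElement_def]; group]
    exact conj_mem_of_le_normalizer hE₀ (inv_mem ha.1) (inv_mem (ha.2 y hy))⟩

theorem mem_actKer {E Y Y₀ : Subgroup G} {hEY : E ≤ normalizer (Y : Set G)}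
    {hE₀ : E ≤ normalizer (Y₀ : Set G)} {c : G} :
    c ∈ actKer E Y Y₀ hEY hE₀ ↔ c ∈ E ∧ ∀ y ∈ Y, ⁅c, y⁆ ∈ Y₀ := Iff.rfl

theorem le_normalizer_actKer {S E Y Y₀ : Subgroup G} {hEY : E ≤ normalizer (Y : Set G)}
    {hE₀ : E ≤ normalizer (Y₀ : Set G)} (hSE : S ≤ normalizer (E : Set G))
    (hSY : S ≤ normalizer (Y : Set G)) (hSY₀ : S ≤ normalizer (Y₀ : Set G)) :
    S ≤ normalizer (actKer E Y Y₀ hEY hE₀ : Set G) := by
  refine le_normalizer_of_conj_mem fun s hs c hc => ⟨conj_mem_of_le_normalizer hSE hs hc.1, fun y hy => ?_⟩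
  have h1 := conj_mem_of_le_normalizer hSY (inv_mem hs) hy
  have h2 := conj_mem_of_le_normalizer hSY₀ hs (hc.2 _ h1)
  have e : s * ⁅c, s⁻¹ * y * s⁻¹⁻¹⁆ * s⁻¹ = ⁅s * c * s⁻¹, y⁆ := by
    simp only [commutatorElement_def]; group
  rwa [e] at h2

/-- An odd order element is a square of its powers. -/
theorem exists_sq_of_odd {c : G} (hc : Odd (orderOf c)) : ∃ k : ℕ, c = (c ^ k) ^ 2 := by
  obtain ⟨j, hj⟩ := hc
  exact ⟨j + 1, by rw [← pow_mul, show (j + 1) * 2 = orderOf c + 1 by omega, pow_succ, pow_orderOf_eq_one,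
    one_mul]⟩

/-- A nontrivial irreducible layer. -/
theorem exists_layer {S E D Z Z₀ : Subgroup G} (hES : E ≤ S) (hSE : S ≤ normalizer (E : Set G))
    (hmin : ∀ K : Subgroup G, K ≤ E → S ≤ normalizer (K : Set G) → K = E ∨ K ≤ D)
    (hodd : ∃ c ∈ E, c ∉ D ∧ Odd (orderOf c)) (hSZ : S ≤ normalizer (Z : Set G))
    (hSZ₀ : S ≤ normalizer (Z₀ : Set G)) (hZ₀ : Z₀ ≤ Z) (hsq : ∀ z ∈ Z, z ^ 2 ∈ Z₀)
    (hcomm : ∀ z ∈ Z, ∀ w ∈ Z, ⁅z, w⁆ ∈ Z₀) (hne : ∃ c ∈ E, ∃ z ∈ Z, ⁅c, z⁆ ∉ Z₀) :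
    ∃ B T : Subgroup G, Z₀ ≤ B ∧ B < T ∧ T ≤ Z ∧ S ≤ normalizer (B : Set G) ∧
      S ≤ normalizer (T : Set G) ∧ (∀ y, y ∈ B ↔ y ∈ Z ∧ ∀ c ∈ E, ⁅c, y⁆ ∈ Z₀) ∧
      (∀ W : Subgroup G, B ≤ W → W ≤ T → S ≤ normalizer (W : Set G) → W = B ∨ W = T) ∧
      ∀ K : Subgroup G, K ≤ E → (∀ c ∈ K, ∀ y ∈ T, ⁅c, y⁆ ∈ B) → S ≤ normalizer (K : Set G) → K ≤ D := by
  have hn : Z ≤ normalizer (Z₀ : Set G) := le_normalizer_of_conj_mem fun z hz w hw => by
    rw [show z * w * z⁻¹ = ⁅z, w⁆ * w by rw [commutatorElement_def]; group]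
    exact mul_mem (hcomm z hz w (hZ₀ hw)) hw
  set B := fixMod E Z Z₀ hn with hB
  have hSB : S ≤ normalizer (B : Set G) := le_normalizer_fixMod hSE hSZ hSZ₀
  have hZ₀B : Z₀ ≤ B := le_fixMod_of_le hZ₀ (hES.trans hSZ₀) le_rfl
  have hBlt : B < Z := lt_of_le_of_ne fixMod_le fun e => by
    obtain ⟨c, hc, z, hz, h⟩ := hne
    exact h ((mem_fixMod.1 (e.ge hz)).2 c hc)
  obtain ⟨T, ⟨hBT, hTZ, hST⟩, hTmin⟩ := (Set.toFinite {T : Subgroup G | B < T ∧ T ≤ Z ∧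
    S ≤ normalizer (T : Set G)}).exists_minimal ⟨Z, hBlt, le_rfl, hSZ⟩
  refine ⟨B, T, hZ₀B, hBT, hTZ, hSB, hST, fun y => Iff.rfl, fun W hBW hWT hSW => ?_, ?_⟩
  · rcases hBW.eq_or_lt with h | h
    · exact Or.inl h.symm
    · exact Or.inr (le_antisymm hWT (hTmin ⟨h, hWT.trans hTZ, hSW⟩ hWT))
  · intro K hKE hK hSK
    refine (hmin K hKE hSK).resolve_left fun hKeq => hBT.not_ge fun y hy => ⟨hTZ hy, ?_⟩
    set K₁ := actKer E T Z₀ (hES.trans hST) (hES.trans hSZ₀)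
    have hsq' : ∀ c ∈ E, c ^ 2 ∈ K₁ := by
      intro c hc
      refine ⟨pow_mem hc 2, fun y hy => ?_⟩
      have hb : ⁅c, y⁆ ∈ B := hK c (hKeq ▸ hc) y hy
      have e : ⁅c ^ 2, y⁆ = ⁅c, ⁅c, y⁆⁆ * (⁅c, y⁆ ^ 2) := by
        simp only [commutatorElement_def, pow_two]; group
      rw [e]
      exact mul_mem (hb.2 c hc) (hsq _ hb.1)
    have hK₁ : K₁ = E := by
      refine (hmin K₁ (fun c hc => hc.1) (le_normalizer_actKer hSE hST hSZ₀)).resolve_right fun h => ?_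
      obtain ⟨c, hc, hcD, hodd⟩ := hodd
      obtain ⟨k, hk⟩ := exists_sq_of_odd hodd
      exact hcD (h (hk ▸ hsq' _ (pow_mem hc k)))
    intro c hc
    exact (mem_actKer.1 (hK₁.ge hc)).2 y hy

/-- The index of a normalized subgroup in a join. -/
theorem relIndex_sup_of_le_normalizer {R B : Subgroup G} (h : R ≤ normalizer (B : Set G)) :
    B.relIndex (R ⊔ B) = B.relIndex R := by
  set H := R ⊔ B
  haveI : (B.subgroupOf H).Normal := normal_subgroupOf_of_le_normalizer (sup_le h le_normalizer)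
  have h1 : R.subgroupOf H ⊔ B.subgroupOf H = ⊤ := by
    rw [← subgroupOf_sup le_sup_left le_sup_right, subgroupOf_self]
  rw [← relIndex_subgroupOf (K := H) (H := B) le_rfl, subgroupOf_self, ← h1, relIndex_sup_right,
    relIndex_subgroupOf le_sup_left]

end CfsgLib.SFourHat
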