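import Cfsg.Agent.S2752
import Cfsg.Agent.Lib.SFourHat.Hered
import Cfsg.Agent.Lib.SFourHat.Layer
import Cfsg.Agent.Lib.Coprime.HyperplaneGeneration
import Cfsg.Agent.Lib.Components.FStar

set_option autoImplicit false
set_option linter.unusedSectionVars false
set_option maxHeartbeats 800000

/-!
In a group without normal 2-subgroups and without section `S₃`, an elementary abelian 2-group has an element
inverting an element `x` of prime order, centralized by a subgroup of index bounded against the order of two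
modulo that prime.
-/

namespace CfsgLib.SFourHat

open Subgroup Cfsg
open scoped commutatorElement
open CfsgLib.LocalEven.OffenderSquare (BigInverted Good exists_complement_ge exists_inverted_in)
open CfsgLib.PLocal (elemAb_commute elemAb_of_le elemAb_isPGroup)

universe u

variable {H : Type u} [Group H] [Finite H]

/-- The selected configuration. -/
def Selected (V : Subgroup H) : Prop :=
  ∃ B ≤ V, ∃ β ∈ V, ∃ (x : H) (r s e : ℕ), r.Prime ∧ r ≠ 2 ∧ orderOf x = r ∧ β * x * β⁻¹ = x⁻¹ ∧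
    (∀ b ∈ B, b * x = x * b) ∧ B.relIndex V ≤ 2 ^ s ∧ 4 * s ≤ e + 1 ∧ ∀ k : ℕ, r ∣ 2 ^ k - 1 → e ∣ k

theorem exists_prim {r : ℕ} (hr : r.Prime) (h2 : r ≠ 2) (h3 : r ≠ 3) :
    ∃ e : ℕ, 4 * 1 ≤ e + 1 ∧ ∀ k : ℕ, r ∣ 2 ^ k - 1 → e ∣ k := by
  haveI : Fact r.Prime := ⟨hr⟩
  have h20 : (2 : ZMod r) ≠ 0 := fun h => h2 ((Nat.prime_dvd_prime_iff_eq hr Nat.prime_two).1
    ((ZMod.natCast_eq_zero_iff 2 r).1 (by exact_mod_cast h)))
  have hdvd : ∀ k : ℕ, r ∣ 2 ^ k - 1 ↔ (2 : ZMod r) ^ k = 1 := fun k => by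
    rw [← ZMod.natCast_eq_zero_iff, Nat.cast_sub Nat.one_le_two_pow, sub_eq_zero]
    norm_num
  refine ⟨orderOf (2 : ZMod r), ?_, fun k hk => orderOf_dvd_of_pow_eq_one ((hdvd k).1 hk)⟩
  have hpos : 0 < orderOf (2 : ZMod r) := orderOf_pos_iff.2
    (isOfFinOrder_iff_pow_eq_one.2 ⟨r - 1, by have := hr.two_le; omega, ZMod.pow_card_sub_one_eq_one h20⟩)
  have key : ∀ k, orderOf (2 : ZMod r) = k → r ∣ 2 ^ k - 1 := fun k hk => (hdvd k).2 (hk ▸ pow_orderOf_eq_one _)
  by_contra hlt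
  rcases (by omega : orderOf (2 : ZMod r) = 1 ∨ orderOf (2 : ZMod r) = 2) with h | h
  · exact hr.one_lt.ne' (Nat.dvd_one.1 (by simpa using key 1 h))
  · exact h3 ((Nat.prime_dvd_prime_iff_eq hr Nat.prime_three).1 (by simpa using key 2 h))

/-- An inverted element of odd order with a centralizer of index at most two selects. -/
theorem selected_of_inverted (hS3 : ¬ Involves (Equiv.Perm (Fin 3)) H) {V B : Subgroup H}
    (hV : IsElementaryAbelian 2 V) (hB : B ≤ V) (hidx : B.relIndex V ≤ 2) {β y : H} (hβ : β ∈ V)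
    (ho : Odd (orderOf y)) (hy1 : y ≠ 1) (hinv : β * y * β⁻¹ = y⁻¹) (hBy : ∀ b ∈ B, b * y = y * b) :
    Selected V := by
  obtain ⟨r, hr, hrd⟩ := Nat.exists_prime_and_dvd (fun h => hy1 (orderOf_eq_one_iff.1 h))
  set x := y ^ (orderOf y / r)
  have hx : orderOf x = r := orderOf_pow_orderOf_div (orderOf_pos _).ne' hrd
  have hr2 : r ≠ 2 := fun h => Nat.not_even_iff_odd.2 ho (even_iff_two_dvd.2 (h ▸ hrd))
  have hxinv : β * x * β⁻¹ = x⁻¹ := by rw [← conj_pow, hinv, inv_pow]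
  have hβ1 : β ≠ 1 := fun h => by
    rw [h, one_mul, inv_one, mul_one] at hxinv
    have h2 : x ^ 2 = 1 := by rw [pow_two]; nth_rewrite 2 [hxinv]; exact mul_inv_cancel x
    exact hr2 ((Nat.prime_dvd_prime_iff_eq hr Nat.prime_two).1 (hx ▸ orderOf_dvd_of_pow_eq_one h2))
  have hr3 : r ≠ 3 := fun h => hS3 (CfsgLib.PLocal.SThree.involves_perm_three (x := x) (a := β)
    (by rw [hx, h]) (orderOf_eq_prime (hV.2 β hβ) hβ1) hxinv)
  obtain ⟨e, he, hek⟩ := exists_prim hr hr2 hr3
  exact ⟨B, hB, β, hβ, x, r, 1, e, hr, hr2, hx, hxinv,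
    fun b hb => ((show Commute b y from hBy b hb).pow_right _).eq, by simpa using hidx, he, hek⟩

/-- The group generated by the conjugates of `D` under `Y`. -/
def spread (D Y : Subgroup H) : Subgroup H := closure {z | ∃ c ∈ Y, ∃ d ∈ D, c * d * c⁻¹ = z}

theorem mem_spread_of_mem {D Y : Subgroup H} {d : H} (hd : d ∈ D) : d ∈ spread D Y :=
  subset_closure ⟨1, one_mem _, d, hd, by group⟩

theorem spread_mono {D Y Y' : Subgroup H} (h : Y ≤ Y') : spread D Y ≤ spread D Y' :=
  closure_mono fun _ ⟨c, hc, d, hd, e⟩ => ⟨c, h hc, d, hd, e⟩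

theorem conj_mem_spread {D Y : Subgroup H} {u y : H} (hu : u ∈ Y) (hy : y ∈ spread D Y) :
    u * y * u⁻¹ ∈ spread D Y := by
  have h : spread D Y ≤ (spread D Y).comap (MulAut.conj u).toMonoidHom := (closure_le _).2 fun z hz => by
    obtain ⟨c, hc, d, hd, rfl⟩ := hz
    show u * (c * d * c⁻¹) * u⁻¹ ∈ spread D Y
    exact subset_closure ⟨u * c, mul_mem hu hc, d, hd, by group⟩
  exact h hy

/-- Doubling along a regular group of permutations of the conjugates of `D`. -/
theorem exists_doubled {V D C₀ : Subgroup H} (hV : IsElementaryAbelian 2 V) (hC₀ : C₀ ≤ V)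
    (hreg : C₀ ⊓ normalizer (D : Set H) = ⊥)
    (hcomm : ∀ b ∈ V, b ∉ normalizer (D : Set H) → ∀ d ∈ D, ∀ d' ∈ D, b * d * b⁻¹ * d' = d' * (b * d * b⁻¹))
    {Y₀ C₁ M : Subgroup H} (hY₀ : Y₀ ≤ C₀) (hC₁ : C₁ ≤ C₀) (hYC : Y₀ ⊓ C₁ = ⊥) (hM : M ≤ V)
    {β x y₀ : H} {m : ℕ} (hβ : β ∈ V) (hy₀ : y₀ ∈ spread D Y₀) (hm : y₀ ^ m = 1)
    (hx : x⁻¹ * y₀ ∈ centralizer (D : Set H)) (hinv : β * y₀ * β⁻¹ = y₀⁻¹)
    (hfix : ∀ b ∈ M, b * y₀ = y₀ * b) :
    ∃ y : H, y ^ m = 1 ∧ x⁻¹ * y ∈ centralizer (D : Set H) ∧ β * y * β⁻¹ = y⁻¹ ∧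
      ∀ b ∈ M ⊔ C₁, b * y = y * b := by
  obtain ⟨U, ⟨hU, y, hyW, hym, hyx, hyβ, hyM⟩, hmax⟩ := (Set.toFinite {U : Subgroup H | U ≤ C₁ ∧
    ∃ y : H, y ∈ spread D (Y₀ ⊔ U) ∧ y ^ m = 1 ∧ x⁻¹ * y ∈ centralizer (D : Set H) ∧
      β * y * β⁻¹ = y⁻¹ ∧ ∀ b ∈ M ⊔ U, b * y = y * b}).exists_maximal
    ⟨⊥, bot_le, y₀, spread_mono le_sup_left hy₀, hm, hx, hinv, fun b hb => hfix b (by simpa using hb)⟩
  refine ⟨y, hym, hyx, hyβ, fun b hb => ?_⟩
  suffices h : C₁ ≤ U from hyM b ((sup_le_sup_left h M) hb)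
  intro u hu
  by_contra huU
  have hcV : ∀ {a b : H}, a ∈ V → b ∈ V → a * b = b * a := fun ha hb => elemAb_commute hV ha hb
  have hUV : U ≤ V := hU.trans (hC₁.trans hC₀)
  have huV : u ∈ V := hC₀ (hC₁ hu)
  set Y := Y₀ ⊔ U
  have hYC₀ : Y ≤ C₀ := sup_le hY₀ (hU.trans hC₁)
  have huY : u ∉ Y := by
    intro h
    have hn : U ≤ normalizer (Y₀ : Set H) := fun a ha => centralizer_le_normalizer _
      (mem_centralizer_iff.2 fun b hb => hcV (hC₀ (hY₀ hb)) (hUV ha))
    rw [← SetLike.mem_coe, coe_mul_of_right_le_normalizer_left Y₀ U hn] at h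
    obtain ⟨a, ha, a', ha', e⟩ := Set.mem_mul.1 h
    have e' : a = u * a'⁻¹ := by rw [← e, mul_inv_cancel_right]
    have h1 : a ∈ Y₀ ⊓ C₁ := mem_inf.2 ⟨ha, e' ▸ mul_mem hu (inv_mem (hU ha'))⟩
    rw [hYC, mem_bot] at h1
    rw [h1, one_mul] at e
    exact huU (e ▸ ha')
  -- the translate commutes with the spread
  have hWc : ∀ p ∈ spread D Y, ∀ q ∈ spread D Y, p * (u * q * u⁻¹) = u * q * u⁻¹ * p := by
    intro p hp q hq
    have h : spread D Y ≤ centralizer (((spread D Y).map (MulAut.conj u).toMonoidHom : Subgroup H) : Set H) := by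
      refine (closure_le _).2 ?_
      rintro _ ⟨c, hc, d, hd, rfl⟩
      rw [SetLike.mem_coe, mem_centralizer_iff]
      rintro _ ⟨q', hq', rfl⟩
      have h' : spread D Y ≤ (centralizer ({c * d * c⁻¹} : Set H)).comap (MulAut.conj u).toMonoidHom := by
        refine (closure_le _).2 ?_
        rintro _ ⟨c', hc', d', hd', rfl⟩
        show u * (c' * d' * c'⁻¹) * u⁻¹ ∈ centralizer ({c * d * c⁻¹} : Set H)
        rw [mem_centralizer_singleton_iff]
        have hb : c⁻¹ * (u * c') ∈ C₀ := mul_mem (inv_mem (hYC₀ hc)) (mul_mem (hC₁ hu) (hYC₀ hc'))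
        have hbn : c⁻¹ * (u * c') ∉ normalizer (D : Set H) := fun hn => by
          have h1 : c⁻¹ * (u * c') = 1 := mem_bot.1 (hreg ▸ mem_inf.2 ⟨hb, hn⟩)
          refine huY ?_
          rw [eq_mul_inv_of_mul_eq (inv_mul_eq_one.1 h1).symm]
          exact mul_mem hc (inv_mem hc')
        have h2 := hcomm _ (hC₀ hb) hbn d' hd' d hd
        calc u * (c' * d' * c'⁻¹) * u⁻¹ * (c * d * c⁻¹)
            = c * ((c⁻¹ * (u * c')) * d' * (c⁻¹ * (u * c'))⁻¹ * d) * c⁻¹ := by group
          _ = c * (d * ((c⁻¹ * (u * c')) * d' * (c⁻¹ * (u * c'))⁻¹)) * c⁻¹ := by rw [h2]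
          _ = _ := by group
      exact mem_centralizer_singleton_iff.1 (h' hq')
    exact (mem_centralizer_iff.1 (h hp) _ ⟨q, hq, rfl⟩).symm
  have huy : Commute y (u * y * u⁻¹) := hWc y hyW y hyW
  set y' := y * (u * y * u⁻¹)
  have hu2 : u * u = 1 := by rw [← pow_two]; exact hV.2 u huV
  have hui : u⁻¹ = u := inv_eq_of_mul_eq_one_left hu2
  refine huU (hmax (y := U ⊔ zpowers u) ⟨sup_le hU (zpowers_le.2 hu), y', ?_, ?_, ?_, ?_, ?_⟩ le_sup_left
    (mem_sup_right (mem_zpowers u)))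
  · have hy := spread_mono (D := D) (sup_le_sup_left le_sup_left Y₀ : Y ≤ Y₀ ⊔ (U ⊔ zpowers u)) hyW
    exact mul_mem hy (conj_mem_spread (mem_sup_right (mem_sup_right (mem_zpowers u))) hy)
  · rw [huy.mul_pow, hym, conj_pow, hym, one_mul, mul_one, mul_inv_cancel]
  · rw [← mul_assoc]
    refine mul_mem hyx (mem_centralizer_iff.2 fun d hd => ?_)
    exact hWc d (mem_spread_of_mem hd) y hyW
  · calc β * y' * β⁻¹ = β * y * β⁻¹ * (β * (u * y * u⁻¹) * β⁻¹) := (conj_mul).symm
      _ = y⁻¹ * ((β * u) * y * (β * u)⁻¹) := by rw [hyβ]; group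
      _ = y⁻¹ * ((u * β) * y * (u * β)⁻¹) := by rw [hcV hβ huV]
      _ = y⁻¹ * (u * (β * y * β⁻¹) * u⁻¹) := by group
      _ = (u * y * u⁻¹ * y)⁻¹ := by rw [hyβ]; group
      _ = y'⁻¹ := by rw [← huy.eq]
  · intro b hb
    have hle : M ⊔ (U ⊔ zpowers u) ≤ centralizer ({y'} : Set H) := by
      refine sup_le (fun a ha => ?_) (sup_le (fun a ha => ?_) (zpowers_le.2 ?_))
      · have h1 : Commute a y := hyM a (mem_sup_left ha)
        have h2 : Commute a u := hcV (hM ha) huV
        exact mem_centralizer_singleton_iff.2 (h1.mul_right ((h2.mul_right h1).mul_right h2.inv_right)).eq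
      · have h1 : Commute a y := hyM a (mem_sup_right ha)
        have h2 : Commute a u := hcV (hUV ha) huV
        exact mem_centralizer_singleton_iff.2 (h1.mul_right ((h2.mul_right h1).mul_right h2.inv_right)).eq
      · rw [mem_centralizer_singleton_iff]
        calc u * y' = (u * y * u⁻¹) * ((u * u) * y * (u * u)⁻¹) * u := by simp only [y']; group
          _ = (u * y * u⁻¹) * y * u := by rw [hu2, one_mul, inv_one, mul_one]
          _ = _ := by rw [← huy.eq]
    exact mem_centralizer_singleton_iff.1 (hle hb)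

/-- A subgroup containing a complement has index at most that of its trace. -/
theorem relIndex_sup_le {V N N₀ C : Subgroup H} (hV : IsElementaryAbelian 2 V) (hN : N ≤ V) (hN₀ : N₀ ≤ N)
    (hC : C ≤ V) (hsup : N ⊔ C = V) : (N₀ ⊔ C).relIndex V ≤ N₀.relIndex N := by
  have hn : N ≤ normalizer ((N₀ ⊔ C : Subgroup H) : Set H) := fun a ha => centralizer_le_normalizer _
    (mem_centralizer_iff.2 fun b hb => elemAb_commute hV ((sup_le (hN₀.trans hN) hC) hb) (hN ha))
  have h := relIndex_sup_of_le_normalizer hn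
  rw [← sup_assoc, sup_eq_left.2 hN₀, hsup] at h
  rw [h]
  exact Nat.le_of_dvd (relIndex_pos' _ _) (relIndex_dvd_of_le_left N le_sup_left)

/-- The data on one component normalized by `N`. -/
theorem exists_component_data (hS3 : ¬ Involves (Equiv.Perm (Fin 3)) H) {D N : Subgroup H}
    (hD : IsQuasisimple D) (hbig : BigInverted (D ⧸ center D)) (hN : IsElementaryAbelian 2 N)
    (hND : N ≤ normalizer (D : Set H)) (hne : ¬ N ≤ centralizer (D : Set H))
    (hcen : ∀ z ∈ D, z ∈ centralizer (D : Set H) → ∀ b ∈ N, b * z = z * b) :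
    ∃ β ∈ N, ∃ (x : H) (r s e : ℕ), x ∈ D ∧ x ∉ centralizer (D : Set H) ∧ r.Prime ∧ r ≠ 2 ∧ orderOf x = r ∧
      β * x * β⁻¹ = x⁻¹ ∧ (N ⊓ centralizer (D : Set H)).relIndex N ≤ 2 ^ s ∧ 4 * s ≤ e + 1 ∧
      ∀ k : ℕ, r ∣ 2 ^ k - 1 → e ∣ k := by
  haveI : Fact (Nat.Prime 2) := ⟨Nat.prime_two⟩
  have hxc : ∀ {β x : H}, β ∈ N → x ∈ D → Odd (orderOf x) → x ≠ 1 → β * x * β⁻¹ = x⁻¹ →
      x ∉ centralizer (D : Set H) := by
    intro β x hβ hx ho hx1 hinv hc
    rw [hcen x hx hc β hβ, mul_inv_cancel_right] at hinv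
    exact hx1 (orderOf_eq_one_iff.1 (Nat.eq_one_of_dvd_coprimes (Nat.coprime_two_left.2 ho)
      (orderOf_dvd_of_pow_eq_one (by rw [pow_two]; nth_rewrite 2 [hinv]; exact mul_inv_cancel x)) dvd_rfl))
  set φ : N →* MulAut (D ⧸ center D) := (CfsgLib.Components.automizerHom D).comp (inclusion hND)
  have hker : φ.ker.map N.subtype ≤ N ⊓ centralizer (D : Set H) := by
    rintro _ ⟨b, hb, rfl⟩
    exact mem_inf.2 ⟨b.2, CfsgLib.LocalEven.OffenderSquare.mem_centralizer_of_automizer_eq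
      (isPerfect_iff.1 hD.1) hb⟩
  have hidx : (N ⊓ centralizer (D : Set H)).relIndex N ≤ Nat.card φ.range := by
    have e : φ.ker.index = (φ.ker.map N.subtype).relIndex N := by
      show _ = ((φ.ker.map N.subtype).comap N.subtype).index
      rw [comap_map_eq_self_of_injective N.subtype_injective]
    rw [← index_ker, e]
    exact Nat.le_of_dvd (relIndex_pos' _ _) (relIndex_dvd_of_le_left N hker)
  by_cases h4 : 4 ≤ Nat.card φ.range
  · have hel : IsElementaryAbelian 2 φ.range := by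
      refine ⟨CfsgLib.PLocal.isMulCommutative_of_forall ?_, ?_⟩
      · rintro _ ⟨u, rfl⟩ _ ⟨v, rfl⟩
        rw [← map_mul, ← map_mul]
        exact congrArg φ (Subtype.ext (elemAb_commute hN u.2 v.2))
      · rintro _ ⟨u, rfl⟩
        rw [← map_pow, show u ^ 2 = 1 from Subtype.ext (hN.2 u u.2), map_one]
    obtain ⟨_, ⟨b, rfl⟩, q, r, s, e, hr, hr2, hq, hinv, hs, hse, he⟩ := hbig _ hel h4
    obtain ⟨l, rfl⟩ := QuotientGroup.mk_surjective q
    have hb2 : (b : H) * b = 1 := by rw [← pow_two]; exact hN.2 b b.2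
    have hbi : (b : H)⁻¹ = b := inv_eq_of_mul_eq_one_left hb2
    have hblD : (b : H) * l * (b : H)⁻¹ ∈ D := (mem_normalizer_iff.1 (hND b.2) l).1 l.2
    set y : D := l⁻¹ * ⟨(b : H) * l * (b : H)⁻¹, hblD⟩ with hy
    have hyq : (QuotientGroup.mk y : D ⧸ center D) = ((QuotientGroup.mk l : D ⧸ center D)⁻¹) ^ 2 := by
      rw [hy, QuotientGroup.mk_mul, QuotientGroup.mk_inv, pow_two]
      congr 1
    have hoy : r ∣ orderOf y := by
      have h := orderOf_map_dvd (QuotientGroup.mk' (center D)) y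
      rw [QuotientGroup.mk'_apply, hyq, Nat.Coprime.orderOf_pow ?_, orderOf_inv, hq] at h
      · exact h
      · rw [orderOf_inv, hq]; exact (Nat.coprime_primes hr Nat.prime_two).2 hr2
    have hyinv : (b : H) * y * (b : H)⁻¹ = (y : H)⁻¹ := by
      show (b : H) * ((l : H)⁻¹ * ((b : H) * l * (b : H)⁻¹)) * (b : H)⁻¹ =
        ((l : H)⁻¹ * ((b : H) * l * (b : H)⁻¹))⁻¹
      simp only [mul_inv_rev, inv_inv, hbi]
      calc (b : H) * ((l : H)⁻¹ * (b * l * b)) * b = b * (l : H)⁻¹ * b * l * (b * b) := by group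
        _ = b * ((l : H)⁻¹ * b) * l := by rw [hb2, mul_one]; group
    set x := (y : H) ^ (orderOf y / r) with hxdef
    have hx : orderOf x = r := by
      rw [hxdef, ← orderOf_coe]
      exact orderOf_pow_orderOf_div (orderOf_pos _).ne' (by rwa [orderOf_coe])
    have hxinv : (b : H) * x * (b : H)⁻¹ = x⁻¹ := by rw [hxdef, ← conj_pow, hyinv, inv_pow]
    exact ⟨b, b.2, x, r, s, e, pow_mem y.2 _, hxc b.2 (pow_mem y.2 _) (hx ▸ hr.odd_of_ne_two hr2)
      (fun h => by rw [h, orderOf_one] at hx; exact hr.one_lt.ne hx) hxinv, hr, hr2, hx, hxinv,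
      hidx.trans hs, hse, he⟩
  · have h2 : Nat.card φ.range ≤ 2 := by
      obtain ⟨k, hk⟩ := ((elemAb_isPGroup hN).of_surjective φ.rangeRestrict
        φ.rangeRestrict_surjective).exists_card_eq
      rw [hk] at h4 ⊢
      have : k < 2 := by
        by_contra hh
        exact h4 (le_trans (by norm_num) (Nat.pow_le_pow_right two_pos (by omega : 2 ≤ k)))
      interval_cases k <;> norm_num
    obtain ⟨a, ha, haD⟩ := SetLike.not_le_iff_exists.1 hne
    obtain ⟨y, hyD, hyo, hy1, hyinv⟩ := exists_inverted_in hD hND hN ha haD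
    obtain ⟨r, hr, hrd⟩ := Nat.exists_prime_and_dvd (fun h => hy1 (orderOf_eq_one_iff.1 h))
    set x := y ^ (orderOf y / r)
    have hx : orderOf x = r := orderOf_pow_orderOf_div (orderOf_pos _).ne' hrd
    have hr2 : r ≠ 2 := fun h => Nat.not_even_iff_odd.2 hyo (even_iff_two_dvd.2 (h ▸ hrd))
    have hxinv : a * x * a⁻¹ = x⁻¹ := by rw [← conj_pow, hyinv, inv_pow]
    have ha1 : a ≠ 1 := fun h => haD (h ▸ one_mem _)
    have hr3 : r ≠ 3 := fun h => hS3 (CfsgLib.PLocal.SThree.involves_perm_three (x := x) (a := a)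
      (by rw [hx, h]) (orderOf_eq_prime (hN.2 a ha) ha1) hxinv)
    obtain ⟨e, he, hek⟩ := exists_prim hr hr2 hr3
    exact ⟨a, ha, x, r, 1, e, pow_mem hyD _, hxc ha (pow_mem hyD _) (hx ▸ hr.odd_of_ne_two hr2)
      (fun h => by rw [h, orderOf_one] at hx; exact hr.one_lt.ne hx) hxinv, hr, hr2, hx, hxinv,
      hidx.trans (by simpa using h2), he, hek⟩

/-- The selection. -/
theorem exists_selected (hO : pCore 2 H = ⊥) (hS3 : ¬ Involves (Equiv.Perm (Fin 3)) H)
    (hK : IsKGroupWith IsSuzukiOrPSL2OddPowerThree H) {V : Subgroup H} (hV : IsElementaryAbelian 2 V)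
    (hV1 : V ≠ ⊥) : Selected V := by
  haveI : Fact (Nat.Prime 2) := ⟨Nat.prime_two⟩
  haveI := CfsgLib.Fitting.fitting_normal (G := H)
  set F := fittingSubgroup H
  have hFodd : (Nat.card F).Coprime 2 := by
    obtain ⟨P⟩ := (inferInstance : Nonempty (Sylow 2 F))
    have hP := CfsgLib.Fitting.sylow_fitting_eq_pCore P
    rw [hO, map_eq_bot_iff_of_injective _ (subtype_injective _)] at hP
    refine ((Nat.Prime.coprime_iff_not_dvd Nat.prime_two).2 fun h2 => ?_).symm
    have := P.not_dvd_index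
    rw [hP, index_bot] at this
    exact this h2
  have hVc : ∀ {a b : H}, a ∈ V → b ∈ V → Commute a b := fun ha hb => elemAb_commute hV ha hb
  by_cases hVF : V ≤ centralizer (F : Set H)
  swap
  · have hgen := CfsgLib.Coprime39.eq_hyperCent (p := 2) hV hV1 hFodd
      (normalizer_eq_top F ▸ le_top)
    obtain ⟨B, hBF⟩ : ∃ B : {B : Subgroup H // B ≤ V ∧ B.relIndex V = 2},
        ¬ F ⊓ centralizer ((B : Subgroup H) : Set H) ≤ centralizer (V : Set H) := by
      by_contra! h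
      exact hVF (le_centralizer_iff.1 (hgen.ge.trans (iSup_le h)))
    obtain ⟨y, hy, hyV⟩ := SetLike.not_le_iff_exists.1 hBF
    obtain ⟨hyF, hyB⟩ := mem_inf.1 hy
    rw [mem_centralizer_iff] at hyV
    push Not at hyV
    obtain ⟨v, hv, hvy⟩ := hyV
    have hv2 : v * v = 1 := by rw [← pow_two]; exact hV.2 v hv
    have hvi : v⁻¹ = v := inv_eq_of_mul_eq_one_left hv2
    set y' := v * y * v⁻¹ * y⁻¹
    have hy'F : y' ∈ F := mul_mem (Normal.conj_mem inferInstance y hyF v) (inv_mem hyF)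
    refine selected_of_inverted hS3 hV B.2.1 B.2.2.le hv
      ((Nat.coprime_two_right.1 (hFodd.coprime_dvd_left (orderOf_dvd_natCard F hy'F))))
      (fun h => hvy (mul_inv_eq_iff_eq_mul.1 (mul_inv_eq_one.1 h))) ?_ fun b hb => ?_
    · calc v * y' * v⁻¹ = (v * v) * y * (v⁻¹ * y⁻¹ * v⁻¹) := by simp only [y']; group
        _ = y * (v * y⁻¹ * v⁻¹) := by rw [hv2, one_mul]; nth_rewrite 1 [hvi]; rfl
        _ = y'⁻¹ := by simp only [y']; group
    · have h1 : Commute b y := mem_centralizer_iff.1 hyB b hb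
      have h2 : Commute b v := hVc (B.2.1 hb) hv
      exact ((h2.mul_right h1).mul_right h2.inv_right).mul_right h1.inv_right |>.eq
  obtain ⟨D, hDc, hDV⟩ : ∃ D : Subgroup H, IsComponent D ∧ ¬ V ≤ centralizer (D : Set H) := by
    by_contra! h
    refine hV1 ((eq_bot_iff_forall _).2 fun v hv => ?_)
    have h1 : v ∈ centralizer (generalizedFittingSubgroup H : Set H) := by
      have h' : generalizedFittingSubgroup H ≤ centralizer ({v} : Set H) :=
        sup_le (sSup_le fun K hK d hd => mem_centralizer_singleton_iff.2 (mem_centralizer_iff.1 (h K hK hv) d hd))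
          fun d hd => mem_centralizer_singleton_iff.2 (mem_centralizer_iff.1 (hVF hv) d hd)
      exact mem_centralizer_iff.2 fun d hd => mem_centralizer_singleton_iff.1 (h' hd)
    rw [← orderOf_eq_one_iff]
    exact Nat.eq_one_of_dvd_coprimes hFodd
      (orderOf_dvd_natCard F (CfsgLib.Components.centralizer_generalizedFitting_le_fitting h1))
      (orderOf_dvd_of_pow_eq_one (hV.2 v hv))
  have hqs : IsQuasisimple D := hDc.2
  have hnc : ¬ IsMulCommutative (↥D ⧸ center ↥D) := by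
    intro h
    haveI := hqs.1
    haveI := hqs.2
    have hp := Group.IsPerfect.ofSurjective (QuotientGroup.mk'_surjective (Subgroup.center ↥D))
    have := hp.commutator_eq_top
    rw [commutator_def, Subgroup.commutator_eq_bot_iff_le_centralizer.2
      (fun x _ => Subgroup.mem_centralizer_iff.2 fun y _ => h.is_comm.comm y x)] at this
    exact bot_ne_top this
  have hbig : BigInverted (D ⧸ center D) := by
    haveI := hqs.2
    exact Cfsg.Agent.S2752.bigInverted_of_target hnc (hK D (center D) inferInstance hnc)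
  have hcomm : ∀ b ∈ V, b ∉ normalizer (D : Set H) →
      ∀ d ∈ D, ∀ d' ∈ D, b * d * b⁻¹ * d' = d' * (b * d * b⁻¹) := by
    intro b _ hb d hd d' hd'
    have hne : D.map (MulAut.conj b).toMonoidHom ≠ D := fun h => hb (mem_normalizer_iff_map_conj_eq.2 h)
    exact (CfsgLib.Components.commute_of_commutator_eq_bot (CfsgLib.Components.commutator_components_eq_bot
      (CfsgLib.Components.isComponent_conj b hDc) hDc hne) (mem_map_of_mem _ hd) hd')
  have hcen : ∀ z ∈ D, z ∈ centralizer (D : Set H) → z ∈ F := by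
    intro z hz hzc
    have hle : (center D).map D.subtype ≤ F := by
      have hsn : ((center D).map D.subtype).IsSubnormal :=
        (Normal.isSubnormal inferInstance).trans' hDc.1
      haveI : Group.IsSolvable (center D) := Group.isSolvable_of_comm fun p q => mul_comm' p q
      have hs : Group.IsSolvable ((center D).map D.subtype) :=
        Group.isSolvable_of_surjective (f := ((center D).equivMapOfInjective D.subtype D.subtype_injective).toMonoidHom)
          ((center D).equivMapOfInjective D.subtype D.subtype_injective).surjective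
      exact CfsgLib.Components.solvable_subnormal_le_fitting hsn hs
        ((map_subtype_le _).trans ((CfsgLib.Components.component_le_layer hDc).trans
          CfsgLib.Components.layer_le_centralizer_fitting))
    exact hle ⟨⟨z, hz⟩, mem_center_iff.2 fun w => Subtype.ext (mem_centralizer_iff.1 hzc w w.2), rfl⟩
  set N := V ⊓ normalizer (D : Set H)
  have hNV : N ≤ V := inf_le_left
  by_cases hNc : N ≤ centralizer (D : Set H)
  · -- a regular orbit
    have hVN : ¬ V ≤ normalizer (D : Set H) := fun h => hDV ((le_inf le_rfl h).trans hNc)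
    obtain ⟨β, hβ, hβN⟩ := SetLike.not_le_iff_exists.1 hVN
    have hNβ : N ⊓ zpowers β = ⊥ := by
      refine eq_bot_iff.2 fun w hw => ?_
      obtain ⟨⟨-, hwN⟩, i, rfl⟩ := hw
      rcases Int.even_or_odd i with ⟨j, rfl⟩ | ⟨j, rfl⟩
      · exact mem_bot.2 (show β ^ (j + j) = 1 by rw [← two_mul, zpow_mul, zpow_two, ← pow_two, hV.2 β hβ, one_zpow])
      · exfalso
        apply hβN
        have e : β ^ (2 * j + 1) = β := by
          rw [zpow_add_one, zpow_mul, zpow_two, ← pow_two, hV.2 β hβ, one_zpow, one_mul]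
        exact e ▸ hwN
    obtain ⟨C₀, hβC₀, hC₀V, hNC₀, hsup₀⟩ := exists_complement_ge hV hNV (zpowers_le.2 hβ) hNβ
    have hβC : β ∈ C₀ := hβC₀ (mem_zpowers β)
    obtain ⟨C₁, -, hC₁C₀, hβC₁, hsup₁⟩ :=
      exists_complement_ge (elemAb_of_le hV hC₀V) hβC₀ bot_le (inf_bot_eq _)
    have hreg : C₀ ⊓ normalizer (D : Set H) = ⊥ := le_bot_iff.1 fun w hw =>
      hNC₀ ▸ mem_inf.2 ⟨mem_inf.2 ⟨hC₀V hw.1, hw.2⟩, hw.1⟩
    obtain ⟨x, hxD, hxc, hxo⟩ : ∃ x ∈ D, x ∉ centralizer (D : Set H) ∧ Odd (orderOf x) := by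
      by_contra! h
      refine CfsgLib.Components.quasisimple_not_isSolvable hqs ?_
      have hp : IsPGroup 2 (D ⧸ center D) := by
        intro q
        obtain ⟨d, rfl⟩ := QuotientGroup.mk_surjective q
        obtain ⟨k, m, hm, hord⟩ :=
          Nat.exists_eq_pow_mul_and_not_dvd (orderOf_pos d).ne' 2 (by norm_num)
        refine ⟨k, ?_⟩
        rw [← QuotientGroup.mk_pow, QuotientGroup.eq_one_iff]
        by_contra hc'
        refine absurd ?_ (h _ (d ^ 2 ^ k).2 fun hc'' => hc' (mem_center_iff.2 fun w =>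
          Subtype.ext (mem_centralizer_iff.1 hc'' w w.2)))
        rw [orderOf_coe, orderOf_pow, hord, Nat.gcd_mul_right_left, Nat.mul_div_cancel_left _ (pow_pos two_pos k)]
        exact Nat.odd_iff.2 (by omega)
      haveI := hp.isNilpotent
      haveI : Group.IsSolvable (center D) :=
        Group.isSolvable_of_comm fun p q => Subtype.ext (mem_center_iff.1 q.2 p)
      exact Group.isSolvable_of_ker_le_range (center D).subtype (QuotientGroup.mk' (center D))
        (by rw [QuotientGroup.ker_mk', range_subtype])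
    have hxx : Commute (β * x⁻¹ * β⁻¹) x := hcomm β hβ hβN _ (inv_mem hxD) x hxD
    set y₀ := x * (β * x⁻¹ * β⁻¹)
    have hym : y₀ ^ orderOf x = 1 := by
      rw [hxx.symm.mul_pow, conj_pow, inv_pow, pow_orderOf_eq_one, inv_one, one_mul, mul_one, mul_inv_cancel]
    have hβ2 : β * β = 1 := by rw [← pow_two]; exact hV.2 β hβ
    obtain ⟨y, hy, hyx, hyinv, hyfix⟩ := exists_doubled hV hC₀V hreg hcomm hβC₀ hC₁C₀ hβC₁ (M := N) hNV hβ
      (x := x) (y₀ := y₀)
      (mul_mem (mem_spread_of_mem hxD) (subset_closure ⟨β, mem_zpowers β, x⁻¹, inv_mem hxD, rfl⟩)) hym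
      (by
        rw [inv_mul_cancel_left]
        exact mem_centralizer_iff.2 fun d hd => (hcomm β hβ hβN _ (inv_mem hxD) d hd).symm)
      (by
        calc β * y₀ * β⁻¹ = (β * x * β⁻¹) * ((β * β) * x⁻¹ * (β * β)⁻¹) := by simp only [y₀]; group
          _ = (β * x * β⁻¹) * x⁻¹ := by rw [hβ2, one_mul, inv_one, mul_one]
          _ = y₀⁻¹ := by simp only [y₀]; group)
      (fun b hb => by
        have h1 : Commute b x := (mem_centralizer_iff.1 (hNc hb) x hxD).symm
        have h2 : Commute b β := hVc (hNV hb) hβ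
        exact (h1.mul_right ((h2.mul_right h1.inv_right).mul_right h2.inv_right)).eq)
    refine selected_of_inverted hS3 hV (sup_le hNV (hC₁C₀.trans hC₀V)) ?_ hβ
      (hxo.of_dvd_nat (orderOf_dvd_of_pow_eq_one hy))
      (fun h => hxc (by rw [h, mul_one] at hyx; simpa using inv_mem hyx)) hyinv hyfix
    have hn : zpowers β ≤ normalizer ((N ⊔ C₁ : Subgroup H) : Set H) := fun a ha => centralizer_le_normalizer _
      (mem_centralizer_iff.2 fun b hb => hVc ((sup_le hNV (hC₁C₀.trans hC₀V)) hb) (zpowers_le.2 hβ ha))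
    have h := relIndex_sup_of_le_normalizer hn
    rw [← sup_assoc, sup_comm (zpowers β) N, sup_assoc, hsup₁, hsup₀] at h
    rw [h]
    refine (Nat.le_of_dvd Nat.card_pos (relIndex_dvd_card _ _)).trans ?_
    rw [Nat.card_zpowers]
    exact Nat.le_of_dvd two_pos (orderOf_dvd_of_pow_eq_one (hV.2 β hβ))
  · obtain ⟨β, hβ, x, r, s, e, hxD, hxc, hr, hr2, hx, hinv, hidx, hse, he⟩ :=
      exists_component_data hS3 hqs hbig (elemAb_of_le hV hNV) inf_le_right hNc
        (fun z hz hzc b hb => (mem_centralizer_iff.1 (hVF (hNV hb)) z (hcen z hz hzc)).symm)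
    obtain ⟨C₀, -, hC₀V, hNC₀, hsup₀⟩ := exists_complement_ge hV hNV bot_le (inf_bot_eq _)
    have hreg : C₀ ⊓ normalizer (D : Set H) = ⊥ := le_bot_iff.1 fun w hw =>
      hNC₀ ▸ mem_inf.2 ⟨mem_inf.2 ⟨hC₀V hw.1, hw.2⟩, hw.1⟩
    obtain ⟨y, hy, hyx, hyinv, hyfix⟩ := exists_doubled hV hC₀V hreg hcomm (Y₀ := ⊥) bot_le le_rfl (bot_inf_eq _)
      (M := N ⊓ centralizer (D : Set H)) (inf_le_left.trans hNV) (hNV hβ) (x := x) (y₀ := x) (m := r)
      (mem_spread_of_mem hxD) (by rw [← hx]; exact pow_orderOf_eq_one x)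
      (by rw [inv_mul_cancel]; exact one_mem _) hinv
      (fun b hb => (mem_centralizer_iff.1 (mem_inf.1 hb).2 x hxD).symm)
    haveI : Fact r.Prime := ⟨hr⟩
    exact ⟨_, sup_le (inf_le_left.trans hNV) hC₀V, β, hNV hβ, y, r, s, e, hr, hr2,
      orderOf_eq_prime hy (fun h => hxc (by rw [h, mul_one] at hyx; simpa using inv_mem hyx)), hyinv, hyfix,
      (relIndex_sup_le hV hNV inf_le_left hC₀V hsup₀).trans hidx, hse, he⟩

end CfsgLib.SFourHat
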