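import Cfsg.Agent.Lib.SFourHat.Series
import Cfsg.Agent.Lib.SFourHat.Select
import Cfsg.Agent.Lib.SFourHat.Core

set_option autoImplicit false
set_option linter.unusedSectionVars false
set_option maxHeartbeats 800000

/-!
An invariant subgroup of `Ω₁Z(Ĵ(P))` with the offender inequality lies in `O₂(G)`.
-/

namespace CfsgLib.SFourHat

open Subgroup Cfsg
open scoped commutatorElement

universe u

variable {G : Type u} [Group G] [Finite G]

/-- A subgroup between `L ∩ O₂(G)` and `O₂(G)` normalized by a Sylow 2-subgroup is normal. -/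
theorem normal_of_between (P : Sylow 2 G) {T : Subgroup G} (hP : (P : Subgroup G) ≤ normalizer (T : Set G))
    (hTQ : T ≤ pCore 2 G) (hQ₂ : oddGen G ⊓ pCore 2 G ≤ T) : T.Normal := by
  haveI : (pCore 2 G).Normal := pCore_normal 2 G
  refine normalizer_eq_top_iff.1 (top_le_iff.1 ((oddGen_sup_sylow P).ge.trans (sup_le ?_ hP)))
  refine le_normalizer_of_conj_mem fun l hl f hf => ?_
  have h : ⁅l, f⁆ ∈ T := by
    refine hQ₂ (mem_inf.2 ⟨?_, mul_mem (Normal.conj_mem inferInstance f (hTQ hf) l) (inv_mem (hTQ hf))⟩)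
    rw [commutatorElement_def, mul_assoc l f, mul_assoc]
    exact mul_mem hl (Normal.conj_mem inferInstance _ (inv_mem hl) f)
  rw [show l * f * l⁻¹ = ⁅l, f⁆ * f by rw [commutatorElement_def]; group]
  exact mul_mem h hf

/-- The main consequence of the selection. -/
theorem le_pCore_of_half {P : Sylow 2 G} (hS : Setting P) {T V : Subgroup G}
    (hTP : T ≤ (P : Subgroup G)) (hQ₂T : oddGen G ⊓ pCore 2 G ≤ T)
    (hPT : (P : Subgroup G) ≤ normalizer (T : Set G)) (hVT : V ≤ T) (hVX : V ≤ xJ (P : Subgroup G))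
    (hPV : (P : Subgroup G) ≤ normalizer (V : Set G)) (hHalf : Half T V)
    (hVJ : V ≤ CfsgLib.PLocal.thompson 2 (P : Subgroup G)) : V ≤ pCore 2 G := by
  haveI : Fact (Nat.Prime 2) := ⟨Nat.prime_two⟩
  set Q := pCore 2 G with hQdef
  haveI hQn : Q.Normal := pCore_normal 2 G
  have hQp : IsPGroup 2 Q := CfsgLib.PCore.pCore_isPGroup
  have hVe : IsElementaryAbelian 2 V := CfsgLib.PLocal.elemAb_of_le (xJ_elemAb _) hVX
  by_contra hVQ
  set π := QuotientGroup.mk' Q
  have hπ : Function.Surjective π := QuotientGroup.mk'_surjective Q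
  have hV1 : V.map π ≠ ⊥ := fun h => hVQ fun x hx =>
    (QuotientGroup.eq_one_iff x).1 (mem_bot.1 (h ▸ mem_map_of_mem π hx))
  have hKq : IsKGroupWith IsSuzukiOrPSL2OddPowerThree (G ⧸ Q) :=
    isKGroupWith_of_surjective hS.kg ⊤ (π.comp (topEquiv : (⊤ : Subgroup G) ≃* G).toMonoidHom)
      (hπ.comp (topEquiv : (⊤ : Subgroup G) ≃* G).surjective)
  obtain ⟨B, hBV, β, hβ, x₀, r, s, e, hr, hr2, hx₀, hinv₀, hBx, hidx, hse, he⟩ :=
    exists_selected CfsgLib.PCore.pCore_quotient_pCore hS.s3 hKq (CfsgLib.PLocal.elemAb_map π hVe) hV1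
  obtain ⟨v, hv, rfl⟩ := hβ
  obtain ⟨y, rfl⟩ := hπ x₀
  have hv2 : v * v = 1 := by rw [← pow_two]; exact hVe.2 v hv
  have hvi : v⁻¹ = v := inv_eq_of_mul_eq_one_left hv2
  set w := v * y * v⁻¹ * y⁻¹ with hwdef
  have hwinv : v * w * v⁻¹ = w⁻¹ := by
    calc v * w * v⁻¹ = (v * v) * y * (v⁻¹ * y⁻¹ * v⁻¹) := by rw [hwdef]; group
      _ = y * (v * y⁻¹ * v⁻¹) := by rw [hv2, one_mul]; nth_rewrite 1 [hvi]; rfl
      _ = w⁻¹ := by rw [hwdef]; group
  have hπw : π w = ((π y)⁻¹) ^ 2 := by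
    rw [hwdef, map_mul, map_mul, map_mul, map_inv, map_inv, hinv₀, pow_two]
  obtain ⟨k, hk⟩ := hQp.exists_card_eq
  set x := w ^ 2 ^ k with hxdef
  have hπx : π x = ((π y)⁻¹) ^ (2 * 2 ^ k) := by rw [hxdef, map_pow, hπw, ← pow_mul]
  have hπx' : orderOf (π x) = r := by
    rw [hπx, Nat.Coprime.orderOf_pow, orderOf_inv, hx₀]
    rw [orderOf_inv, hx₀]
    exact Nat.Coprime.mul_right ((Nat.coprime_primes hr Nat.prime_two).2 hr2)
      (((Nat.coprime_primes hr Nat.prime_two).2 hr2).pow_right k)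
  have hxr : x ^ r = 1 := by
    have h1 : w ^ r ∈ Q := by
      rw [← QuotientGroup.eq_one_iff (N := Q)]
      show π (w ^ r) = 1
      rw [map_pow, hπw, ← pow_mul, mul_comm, pow_mul, inv_pow, ← hx₀, pow_orderOf_eq_one, inv_one, one_pow]
    have h2 := congrArg Subtype.val (pow_card_eq_one' (x := (⟨w ^ r, h1⟩ : Q)))
    rw [hk] at h2
    rw [hxdef, ← pow_mul, mul_comm, pow_mul]
    exact h2
  have hxne : x ≠ 1 := fun h => by
    rw [h, map_one, orderOf_one] at hπx'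
    exact hr.one_lt.ne hπx'
  have hxodd : Odd (orderOf x) := (hr.odd_of_ne_two hr2).of_dvd_nat (orderOf_dvd_of_pow_eq_one hxr)
  have hxinv : v * x * v⁻¹ = x⁻¹ := by rw [hxdef, ← conj_pow, hwinv, inv_pow]
  have hvxi : v * x⁻¹ * v⁻¹ = x := by rw [← conj_inv, hxinv, inv_inv]
  have hxBc : ∀ b ∈ B, b * π x = π x * b := fun b hb => by
    rw [hπx]
    exact ((show Commute b (π y) from hBx b hb).inv_right.pow_right _).eq
  set B₀ := V ⊓ B.comap π
  have hB₀V : B₀ ≤ V := inf_le_left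
  set R := B₀.map (MulAut.conj x).toMonoidHom with hRdef
  have hTN : T ≤ normalizer (V : Set G) := hTP.trans hPV
  have hRT : R ≤ T := by
    rintro _ ⟨u, hu, rfl⟩
    show x * u * x⁻¹ ∈ T
    have hq : u⁻¹ * (x * u * x⁻¹) ∈ oddGen G ⊓ Q := by
      refine mem_inf.2 ⟨?_, ?_⟩
      · rw [show u⁻¹ * (x * u * x⁻¹) = (u⁻¹ * x * u⁻¹⁻¹) * x⁻¹ by group]
        exact mul_mem (Normal.conj_mem inferInstance x (mem_oddGen hxodd) _) (inv_mem (mem_oddGen hxodd))
      · rw [← QuotientGroup.eq_one_iff (N := Q)]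
        show π _ = 1
        rw [map_mul, map_mul, map_mul, map_inv, map_inv, ← hxBc (π u) hu.2, mul_inv_cancel_right,
          inv_mul_cancel]
    have h := mul_mem (hVT hu.1) (hQ₂T hq)
    rwa [mul_inv_cancel_left] at h
  have hRe : IsElementaryAbelian 2 R :=
    CfsgLib.PLocal.elemAb_map _ (CfsgLib.PLocal.elemAb_of_le hVe hB₀V)
  set a := (centralizer (R : Set G)).relIndex B₀ with hadef
  have hpow : ∀ W : Subgroup G, W ≤ V → ∀ C : Subgroup G, ∃ j, C.relIndex W = 2 ^ j := fun W hW C =>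
    (CfsgLib.PLocal.elemAb_isPGroup (CfsgLib.PLocal.elemAb_of_le hVe hW)).index _
  -- upper bound
  have hidx₀ : B₀.relIndex V ≤ 2 ^ s := by
    rw [inf_relIndex_left, relIndex_comap]
    exact hidx
  have hu : (centralizer (R : Set G)).relIndex V ≤ a * 2 ^ s := by
    calc (centralizer (R : Set G)).relIndex V ≤ (centralizer (R : Set G) ⊓ B₀).relIndex V :=
          Nat.le_of_dvd (relIndex_pos' _ _) (relIndex_dvd_of_le_left V inf_le_left)
      _ = (centralizer (R : Set G) ⊓ B₀).relIndex B₀ * B₀.relIndex V :=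
          (relIndex_mul_relIndex _ _ _ inf_le_right hB₀V).symm
      _ ≤ a * 2 ^ s := by rw [inf_relIndex_right]; exact Nat.mul_le_mul_left _ hidx₀
  have hmapR : R.map (MulAut.conj v).toMonoidHom = B₀.map (MulAut.conj x⁻¹).toMonoidHom := by
    rw [hRdef, Subgroup.map_map]
    refine SetLike.coe_injective ?_
    rw [coe_map, coe_map]
    refine Set.image_congr fun b hb => ?_
    show v * (x * b * x⁻¹) * v⁻¹ = x⁻¹ * b * x⁻¹⁻¹
    have hvb : v * b * v⁻¹ = b := by
      rw [CfsgLib.PLocal.elemAb_commute hVe hv (hB₀V hb), mul_inv_cancel_right]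
    calc v * (x * b * x⁻¹) * v⁻¹ = (v * x * v⁻¹) * (v * b * v⁻¹) * (v * x * v⁻¹)⁻¹ := by group
      _ = _ := by rw [hxinv, hvb]
  have hlow : a = (centralizer (B₀ : Set G)).relIndex R := by
    have h1 := relIndex_centralizer_map (MulAut.conj x) (B₀.map (MulAut.conj x⁻¹).toMonoidHom) B₀
    have hback : (B₀.map (MulAut.conj x⁻¹).toMonoidHom).map (MulAut.conj x).toMonoidHom = B₀ := by
      rw [Subgroup.map_map, show (MulAut.conj x).toMonoidHom.comp (MulAut.conj x⁻¹).toMonoidHom =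
        MonoidHom.id G from MonoidHom.ext fun g => by
          show x * (x⁻¹ * g * x⁻¹⁻¹) * x⁻¹ = g
          group, Subgroup.map_id]
    rw [hback] at h1
    have hvB : B₀.map (MulAut.conj v).toMonoidHom = B₀ := mem_normalizer_iff_map_conj_eq.1
      (centralizer_le_normalizer _ (mem_centralizer_iff.2 fun b hb =>
        CfsgLib.PLocal.elemAb_commute hVe (hB₀V hb) hv))
    have h2 := relIndex_centralizer_map (MulAut.conj v) R B₀
    rw [hmapR, hvB] at h2
    rw [hadef, ← h2, ← h1]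
  have ha4 : a < 4 ^ s := by
    by_cases hRV : R ≤ centralizer (V : Set G)
    · have : a = 1 := relIndex_eq_one.2 (hB₀V.trans (le_centralizer_iff.1 hRV))
      rw [this]
      refine Nat.one_lt_pow (fun h0 => ?_) (by norm_num)
      subst h0
      rw [pow_zero] at hidx
      have h1 : B.relIndex (V.map π) = 1 := le_antisymm hidx (relIndex_pos' _ _)
      have hcom := hBx _ (relIndex_eq_one.1 h1 (mem_map_of_mem π hv))
      rw [hcom, mul_inv_cancel_right] at hinv₀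
      have h2 : π y ^ 2 = 1 := by rw [pow_two]; nth_rewrite 2 [hinv₀]; exact mul_inv_cancel _
      exact hr2 ((Nat.prime_dvd_prime_iff_eq hr Nat.prime_two).1 (hx₀ ▸ orderOf_dvd_of_pow_eq_one h2))
    · have h1 := hHalf R hRT (elemOn_of_elemAb V hRe) hRV
      have h2 : a ≤ (centralizer (V : Set G)).relIndex R := by
        rw [hlow]
        exact Nat.le_of_dvd (relIndex_pos' _ _)
          (relIndex_dvd_of_le_left R (centralizer_le (SetLike.coe_subset_coe.2 hB₀V)))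
      have h3 : a ^ 3 < (a * 2 ^ s) ^ 2 :=
        (Nat.pow_le_pow_left h2 3).trans_lt (h1.trans_le (Nat.pow_le_pow_left hu 2))
      rw [mul_pow, pow_succ, ← pow_mul, mul_comm s 2, pow_mul] at h3
      exact Nat.lt_of_mul_lt_mul_left h3
  -- the series
  set Q₁ := T ⊓ Q
  have hPQ₁ : (P : Subgroup G) ≤ normalizer (Q₁ : Set G) := fun p hp =>
    inf_normalizer_le_normalizer_inf ⟨hPT hp, normalizer_eq_top Q ▸ mem_top p⟩
  haveI hQ₁n : Q₁.Normal := normal_of_between P hPQ₁ inf_le_right (le_inf hQ₂T inf_le_right)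
  have hQ₁p : IsPGroup 2 Q₁ := hQp.to_le inf_le_right
  have hex : ∃ i, ∃ f ∈ filt Q₁ (i + 1), ⁅x, f⁆ ∉ filt Q₁ i := by
    by_contra! hall
    obtain ⟨n, hn⟩ := filt_reaches (Q₁ := Q₁) hQ₁p
    have hfix : ∀ i, ∀ f ∈ filt Q₁ i, x * f = f * x := by
      intro i
      induction i with
      | zero => intro f hf; rw [show f = 1 from mem_bot.1 hf, one_mul, mul_one]
      | succ i ih =>
        intro f hf
        refine commute_of_moved_fixed hQ₁p hxodd (filt_le i (hall i f hf)) ?_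
        rw [ih _ (hall i f hf), mul_inv_cancel_right]
    refine hxne (eq_one_of_centralizes hS.char hxodd (mem_centralizer_iff.2 fun q hq => ?_))
    exact (hfix n q (hn.symm ▸ mem_inf.2 ⟨hQ₂T hq, hq.2⟩)).symm
  classical
  set i := Nat.find hex with hidef
  have hmin : ∀ j < i, ∀ f ∈ filt Q₁ (j + 1), ⁅x, f⁆ ∈ filt Q₁ j := fun j hj f hf => by
    by_contra h
    exact Nat.find_min hex hj ⟨f, hf, h⟩
  obtain ⟨f₀, hf₀, hf₀x⟩ := Nat.find_spec hex
  rw [← hidef] at hf₀ hf₀x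
  have hBV' : V ⊓ Q ≤ B₀ := fun u hu => mem_inf.2 ⟨hu.1, by
    rw [mem_comap, show π u = 1 from (QuotientGroup.eq_one_iff u).2 hu.2]; exact one_mem _⟩
  set I₀ := V ⊓ filt Q₁ (i + 1) with hI₀
  have hI₀B : I₀ ≤ B₀ := fun u hu => hBV' ⟨hu.1, (filt_le _ hu.2).2⟩
  have hQ₁V : Q₁ ≤ normalizer (V : Set G) := inf_le_left.trans hTN
  -- elements of `I₀` centralizing `R` are centralized by `x`
  have hfixp : ∀ p ∈ I₀, p ∈ centralizer (R : Set G) → ⁅x, p⁆ ∈ filt Q₁ i := by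
    intro p hp hpR
    obtain ⟨hpV, hpF⟩ := mem_inf.1 hp
    have hpQ₁ := (mem_filt_succ.1 hpF).1
    rcases Nat.eq_zero_or_pos i with hi0 | hi0
    · -- the bottom layer
      have hpF1 : p ∈ filt Q₁ 1 := by rw [hi0] at hpF; exact hpF
      set Vb := V ⊓ filt Q₁ 1
      have hVbF : Vb ≤ filt Q₁ 1 := inf_le_right
      have hVbn : (P : Subgroup G) ≤ normalizer (Vb : Set G) := fun g hg =>
        inf_normalizer_le_normalizer_inf ⟨hPV hg, normalizer_eq_top (filt Q₁ 1) ▸ mem_top g⟩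
      have hF1 : normalClosure (Vb : Set G) ≤ filt Q₁ 1 := normalClosure_le_normal hVbF
      have hF1c : ∀ f ∈ filt Q₁ 1, ∀ q ∈ Q₁, f * q = q * f := fun f hf q hq =>
        commutatorElement_eq_one_iff_mul_comm.1 (mem_bot.1 ((mem_filt_succ.1 hf).2.2 q hq))
      have hN : IsElementaryAbelian 2 (normalClosure (Vb : Set G)) :=
        CfsgLib.PLocal.elemAb_of_le ⟨CfsgLib.PLocal.isMulCommutative_of_forall fun f hf g hg =>
          hF1c f hf g (filt_le 1 hg), fun f hf => mem_bot.1 (mem_filt_succ.1 hf).2.1⟩ hF1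
      have hJ := core hS (Q₁ := Q₁) (V := Vb) inf_le_right (le_inf hQ₂T inf_le_right)
        (inf_le_left.trans hVX) hVbn (half_of_le_centralizer fun q hq => mem_centralizer_iff.2 fun f hf =>
          hF1c f (hVbF hf) q hq) hN ((hF1.trans (filt_le 1)).trans inf_le_right)
      haveI := normalClosure_normal (s := (Vb : Set G))
      have hxc := oddGen_le_centralizer hS hJ (mem_oddGen hxodd)
      rw [commutatorElement_eq_one_iff_mul_comm.2
        (mem_centralizer_iff.1 hxc p (subset_normalClosure (mem_inf.2 ⟨hpV, hpF1⟩))).symm]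
      exact one_mem _
    obtain ⟨i', hi'⟩ : ∃ i', i = i' + 1 := ⟨i - 1, by omega⟩
    set v' := x * v * x⁻¹
    set c := ⁅p, v'⁆ with hcdef
    set xV := V.map (MulAut.conj x).toMonoidHom
    have hQ₁xV : Q₁ ≤ normalizer (xV : Set G) := le_normalizer_of_conj_mem fun q hq z hz => by
      obtain ⟨u, hu, rfl⟩ := hz
      refine ⟨(x⁻¹ * q * x⁻¹⁻¹) * u * (x⁻¹ * q * x⁻¹⁻¹)⁻¹,
        conj_mem_of_le_normalizer hQ₁V (Normal.conj_mem inferInstance q hq _) hu, ?_⟩
      show x * _ * x⁻¹ = q * (x * u * x⁻¹) * q⁻¹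
      group
    have hv'V : v' ∈ xV := ⟨v, hv, rfl⟩
    have hxVe : IsElementaryAbelian 2 xV := CfsgLib.PLocal.elemAb_map _ hVe
    have hcV : c ∈ xV := mul_mem (conj_mem_of_le_normalizer hQ₁xV hpQ₁ hv'V) (inv_mem hv'V)
    have hcF : c ∈ filt Q₁ (i + 1) := by
      rw [show c = p * (v' * p⁻¹ * v'⁻¹) by rw [hcdef, commutatorElement_def]; group]
      exact mul_mem hpF (Normal.conj_mem inferInstance _ (inv_mem hpF) v')
    have hcQ₁ := (mem_filt_succ.1 hcF).1
    have hc2 : c ^ 2 = 1 := hxVe.2 c hcV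
    have hci : c ∈ filt Q₁ i := by
      rw [hi', mem_filt_succ]
      refine ⟨hcQ₁, by rw [hc2]; exact one_mem _, fun z hz => ?_⟩
      set k₁ := ⁅z, v'⁆ with hk₁
      have hk₁V : k₁ ∈ xV := mul_mem (conj_mem_of_le_normalizer hQ₁xV hz hv'V) (inv_mem hv'V)
      have hk₁Q : k₁ ∈ Q := by
        rw [show k₁ = z * (v' * z⁻¹ * v'⁻¹) by rw [hk₁, commutatorElement_def]; group]
        exact mul_mem hz.2 (Normal.conj_mem inferInstance _ (inv_mem hz.2) v')
      have hk₁R : k₁ ∈ R := by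
        obtain ⟨u, hu, hue⟩ := hk₁V
        refine ⟨u, hBV' ⟨hu, ?_⟩, hue⟩
        have : x⁻¹ * k₁ * x⁻¹⁻¹ ∈ Q := Normal.conj_mem inferInstance _ hk₁Q x⁻¹
        rw [← hue] at this
        simpa [mul_assoc] using this
      have hk₁Q₁ : k₁ ∈ Q₁ := mem_inf.2 ⟨hRT hk₁R, hk₁Q⟩
      set e₁ := ⁅z, p⁆ with he₁
      have he₁V : e₁ ∈ V := mul_mem (conj_mem_of_le_normalizer hQ₁V hz hpV) (inv_mem hpV)
      have he₁F : e₁ ∈ filt Q₁ i := by
        rw [he₁, ← commutatorElement_inv p z]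
        exact inv_mem ((mem_filt_succ.1 hpF).2.2 z hz)
      have he₁F' : e₁ ∈ filt Q₁ (i' + 1) := hi' ▸ he₁F
      have h1 : ⁅e₁, c⁆ ∈ filt Q₁ i' := (mem_filt_succ.1 he₁F').2.2 c hcQ₁
      have h2 : ⁅e₁, k₁⁆ ∈ filt Q₁ i' := (mem_filt_succ.1 he₁F').2.2 k₁ hk₁Q₁
      have h3 : ⁅e₁, v'⁆ ∈ filt Q₁ i' := by
        have hf : ⁅x⁻¹, e₁⁆ ∈ filt Q₁ i' := by
          rw [show ⁅x⁻¹, e₁⁆ = x⁻¹ * ⁅x, e₁⁆⁻¹ * x⁻¹⁻¹ by simp only [commutatorElement_def]; group]
          exact Normal.conj_mem inferInstance _ (inv_mem (hmin i' (by omega) e₁ he₁F')) _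
        have hve : e₁ * v = v * e₁ := CfsgLib.PLocal.elemAb_commute hVe he₁V hv
        have hve' : v * e₁ * v⁻¹ = e₁ := by rw [← hve, mul_inv_cancel_right]
        have e2 : ⁅e₁, v'⁆ =
            (x * (v * ⁅x⁻¹, e₁⁆ * v⁻¹) * x⁻¹ * (x * ⁅x⁻¹, e₁⁆⁻¹ * x⁻¹))⁻¹ := by
          calc ⁅e₁, v'⁆ = (x * (v * ⁅x⁻¹, e₁⁆ * v⁻¹) * x⁻¹ * (x * (v * e₁ * v⁻¹) * x⁻¹) * e₁⁻¹)⁻¹ := by
                simp only [v', commutatorElement_def]; group
            _ = (x * (v * ⁅x⁻¹, e₁⁆ * v⁻¹) * x⁻¹ * (x * e₁ * x⁻¹) * e₁⁻¹)⁻¹ := by rw [hve']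
            _ = _ := by simp only [commutatorElement_def]; group
        rw [e2]
        exact inv_mem (mul_mem (Normal.conj_mem inferInstance _ (Normal.conj_mem inferInstance _ hf v) x)
          (Normal.conj_mem inferInstance _ (inv_mem hf) x))
      have hpk : p * k₁ = k₁ * p := (mem_centralizer_iff.1 hpR k₁ hk₁R).symm
      have hkc : k₁ * c = c * k₁ := CfsgLib.PLocal.elemAb_commute hxVe hk₁V hcV
      have e3 : z * c * z⁻¹ = ⁅e₁, c⁆ * c * (⁅e₁, k₁⁆ * (k₁ * ⁅e₁, v'⁆ * k₁⁻¹)) := by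
        have ez : z * c * z⁻¹ = ⁅e₁ * p, k₁ * v'⁆ := by
          rw [hcdef, conjugate_commutatorElement, show e₁ * p = z * p * z⁻¹ by rw [he₁, commutatorElement_def]; group,
            show k₁ * v' = z * v' * z⁻¹ by rw [hk₁, commutatorElement_def]; group]
        have hc' : ⁅p, k₁ * v'⁆ = c := by
          rw [show ⁅p, k₁ * v'⁆ = ⁅p, k₁⁆ * (k₁ * c * k₁⁻¹) by simp only [hcdef, commutatorElement_def]; group,
            commutatorElement_eq_one_iff_mul_comm.2 hpk, one_mul, hkc, mul_inv_cancel_right]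
        rw [ez, show ⁅e₁ * p, k₁ * v'⁆ = e₁ * ⁅p, k₁ * v'⁆ * e₁⁻¹ * ⁅e₁, k₁ * v'⁆ by
            simp only [commutatorElement_def]; group, hc',
          show ⁅e₁, k₁ * v'⁆ = ⁅e₁, k₁⁆ * (k₁ * ⁅e₁, v'⁆ * k₁⁻¹) by simp only [commutatorElement_def]; group]
        simp only [commutatorElement_def]; group
      set g₁ := ⁅e₁, k₁⁆ * (k₁ * ⁅e₁, v'⁆ * k₁⁻¹)
      have hg₁ : g₁ ∈ filt Q₁ i' := mul_mem h2 (Normal.conj_mem inferInstance _ h3 k₁)
      rw [show ⁅c, z⁆ = c * (z * c * z⁻¹)⁻¹ by rw [commutatorElement_def]; group, e3]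
      rw [show c * (⁅e₁, c⁆ * c * g₁)⁻¹ = (c * g₁⁻¹ * c⁻¹) * ⁅e₁, c⁆⁻¹ by group]
      exact mul_mem (Normal.conj_mem inferInstance _ (inv_mem hg₁) c) (inv_mem h1)
    -- so `p` is fixed by `x ^ 2` modulo `filt Q₁ i`
    set πi := QuotientGroup.mk' (filt Q₁ i)
    have h1 : Commute (πi p) (πi v') := by
      have h : πi c = 1 := (QuotientGroup.eq_one_iff c).2 hci
      rw [hcdef, map_commutatorElement] at h
      exact commutatorElement_eq_one_iff_mul_comm.1 h
    have h2 : Commute (πi p) (πi v) := (show Commute p v from CfsgLib.PLocal.elemAb_commute hVe hpV hv).map πi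
    have h3 := h1.mul_right h2
    rw [← map_mul, show v' * v = x ^ 2 by
      rw [show v' * v = x * (v * x⁻¹ * v⁻¹) * (v * v) by simp only [v']; group, hvxi, hv2, mul_one, pow_two],
      map_pow] at h3
    obtain ⟨j, hj⟩ := hr.odd_of_ne_two hr2
    have h4 := h3.pow_right (j + 1)
    rw [← pow_mul, show 2 * (j + 1) = r + 1 by omega, pow_succ, ← map_pow, hxr, map_one, one_mul] at h4
    rw [← QuotientGroup.eq_one_iff (N := filt Q₁ i)]
    show πi ⁅x, p⁆ = 1
    rw [map_commutatorElement, commutatorElement_eq_one_iff_mul_comm]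
    exact h4.eq.symm
  -- the bound
  set πi := QuotientGroup.mk' (filt Q₁ i)
  set W := (filt Q₁ (i + 1)).map πi
  haveI : W.Normal := (inferInstance : (filt Q₁ (i + 1)).Normal).map πi (QuotientGroup.mk'_surjective _)
  have hW : IsElementaryAbelian 2 W := by
    refine ⟨CfsgLib.PLocal.isMulCommutative_of_forall ?_, ?_⟩
    · rintro _ ⟨f, hf, rfl⟩ _ ⟨g, hg, rfl⟩
      rw [← commutatorElement_eq_one_iff_mul_comm, ← map_commutatorElement]
      exact (QuotientGroup.eq_one_iff _).2 ((mem_filt_succ.1 hf).2.2 g (filt_le _ hg))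
    · rintro _ ⟨f, hf, rfl⟩
      rw [← map_pow]
      exact (QuotientGroup.eq_one_iff _).2 (mem_filt_succ.1 hf).2.1
  have hbound := two_pow_le_moved W (I₀.map πi) hW (x := πi x) (v := πi v) hr hr2
    (by rw [← map_pow, hxr, map_one]) (by rw [← map_mul, hv2, map_one])
    (by rw [← map_inv, ← map_mul, ← map_mul, hxinv, map_inv])
    ⟨πi f₀, mem_map_of_mem πi hf₀, by
      rw [← map_commutatorElement]
      exact fun h => hf₀x ((QuotientGroup.eq_one_iff _).1 h)⟩
    (by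
      rintro _ ⟨f, hf, rfl⟩
      rw [← map_commutatorElement]
      refine mem_map_of_mem πi (mem_inf.2 ⟨?_, ?_⟩)
      · exact mul_mem (conj_mem_of_le_normalizer hQ₁V (mem_filt_succ.1 hf).1 hv) (inv_mem hv)
      · rw [show ⁅f, v⁆ = f * (v * f⁻¹ * v⁻¹) by rw [commutatorElement_def]; group]
        exact mul_mem hf (Normal.conj_mem inferInstance _ (inv_mem hf) v)) he
  have hle : (centralizer ({πi x} : Set (G ⧸ filt Q₁ i))).relIndex (I₀.map πi) ≤ a := by
    rw [← relIndex_comap]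
    refine le_trans (Nat.le_of_dvd (relIndex_pos' _ _) ?_)
      (relIndex_le_of_le_right hI₀B index_ne_zero_of_finite)
    rw [← inf_relIndex_right (centralizer (R : Set G))]
    refine relIndex_dvd_of_le_left I₀ fun p hp => ?_
    rw [mem_comap, mem_centralizer_singleton_iff, eq_comm, ← commutatorElement_eq_one_iff_mul_comm,
      ← map_commutatorElement]
    exact (QuotientGroup.eq_one_iff _).2 (hfixp p hp.2 hp.1)
  obtain ⟨j, hj⟩ := hpow B₀ hB₀V (centralizer (R : Set G))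
  rw [← hadef] at hj
  have h5 : 2 ^ e ≤ 2 ^ (2 * j) := by
    rw [mul_comm, pow_mul, ← hj]
    exact hbound.trans (Nat.pow_le_pow_left hle 2)
  rw [hj, show (4 : ℕ) = 2 ^ 2 from rfl, ← pow_mul, Nat.pow_lt_pow_iff_right one_lt_two] at ha4
  rw [Nat.pow_le_pow_iff_right one_lt_two] at h5
  omega

end CfsgLib.SFourHat
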