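import Cfsg.Agent.Lib.SFourHat.EGroup
import Cfsg.Agent.Lib.Techniques.SThreeFactor

set_option autoImplicit false
set_option linter.unusedSectionVars false

/-!
The factorizations `G = C(Z(S)) N(Ĵ(S))` and `G = C(Ω₁Z(Ĵ(S))) N(J(S))`.
-/

namespace CfsgLib.SFourHat

open Subgroup Cfsg
open scoped commutatorElement IsMulCommutative

universe u

theorem map_inf_centralizer {G H : Type*} [Group G] [Group H] {f : G →* H} (hf : Function.Injective f)
    (A : Subgroup G) : (A ⊓ centralizer (A : Set G)).map f = A.map f ⊓ centralizer (A.map f : Set H) := by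
  ext y
  simp only [mem_map, mem_inf, mem_centralizer_iff, coe_map, Set.forall_mem_image, SetLike.mem_coe]
  constructor
  · rintro ⟨x, ⟨hx, hc⟩, rfl⟩
    exact ⟨⟨x, hx, rfl⟩, fun a ha => by rw [← map_mul, ← map_mul, hc a ha]⟩
  · rintro ⟨⟨x, hx, rfl⟩, hc⟩
    exact ⟨x, ⟨hx, fun a ha => hf (by rw [map_mul, map_mul]; exact hc ha)⟩, rfl⟩

theorem xJ_map {G H : Type*} [Group G] [Finite G] [Group H] [Finite H] {f : G →* H} (hf : Function.Injective f)
    (P : Subgroup G) : xJ (P.map f) = (xJ P).map f := by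
  unfold xJ
  rw [jH_map hf, ← map_inf_centralizer hf, CfsgLib.PLocal.omegaOne_map hf]

/-- No section `S₃` over the 2-core. -/
theorem sThree_free_of_sFour {G : Type u} [Group G] [Finite G]
    (hC : centralizer (pCore 2 G : Set G) ≤ pCore 2 G) (hS4 : ¬ Involves (Equiv.Perm (Fin 4)) G) :
    ¬ Involves (Equiv.Perm (Fin 3)) (G ⧸ pCore 2 G) := by
  intro h
  haveI : (pCore 2 G).Normal := pCore_normal 2 G
  set T := pCore 2 G
  refine hS4 (Cfsg.Agent.S2759.backward T CfsgLib.PCore.pCore_isPGroup ?_)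
  have hle : (centralizer (T : Set G)).subgroupOf (normalizer (T : Set G)) ≤
      T.comap (normalizer (T : Set G)).subtype := comap_mono hC
  refine LocalEven.Involved.involves_of_surjective
    (QuotientGroup.map _ T (normalizer (T : Set G)).subtype hle) ?_ h
  intro y
  obtain ⟨g, rfl⟩ := QuotientGroup.mk_surjective y
  exact ⟨QuotientGroup.mk ⟨g, normalizer_eq_top T ▸ mem_top g⟩, rfl⟩

/-- The conjugates of `J(P)` centralize `Ω₁Z(Ĵ(P))`. -/
theorem conj_mem_centralizer : ∀ {G : Type u} [Group G] [Finite G],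
    centralizer (pCore 2 G : Set G) ≤ pCore 2 G → ¬ Involves (Equiv.Perm (Fin 4)) G →
      IsKGroupWith IsSuzukiOrPSL2OddPowerThree G → ∀ (P : Sylow 2 G) (g : G),
        ∀ j ∈ CfsgLib.PLocal.thompson 2 (P : Subgroup G),
          g * j * g⁻¹ ∈ centralizer (xJ (P : Subgroup G) : Set G) := by
  suffices main : ∀ (n : ℕ) {G : Type u} [Group G] [Finite G], Nat.card G = n →
      centralizer (pCore 2 G : Set G) ≤ pCore 2 G → ¬ Involves (Equiv.Perm (Fin 4)) G →
        IsKGroupWith IsSuzukiOrPSL2OddPowerThree G → ∀ (P : Sylow 2 G) (g : G),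
          ∀ j ∈ CfsgLib.PLocal.thompson 2 (P : Subgroup G),
            g * j * g⁻¹ ∈ centralizer (xJ (P : Subgroup G) : Set G) from
    fun {G} _ _ h1 h2 h3 => main _ rfl h1 h2 h3
  intro n
  induction n using Nat.strong_induction_on with
  | _ n ih =>
  intro G _ _ hn hC hS4 hK P
  haveI : Fact (Nat.Prime 2) := ⟨Nat.prime_two⟩
  set J := CfsgLib.PLocal.thompson 2 (P : Subgroup G) with hJdef
  set X := xJ (P : Subgroup G)
  have hJX : J ≤ centralizer (X : Set G) :=
    (thompson_le_jH _).trans (le_centralizer_iff.1 (xJ_le_centralizer_jH _))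
  have hnorm : ∀ g ∈ normalizer (J : Set G), ∀ j ∈ J, g * j * g⁻¹ ∈ centralizer (X : Set G) :=
    fun g hg j hj => hJX ((mem_normalizer_iff.1 hg j).1 hj)
  by_cases hPn : (P : Subgroup G).Normal
  · intro g
    exact hnorm g (CfsgLib.PLocal.normalizer_le_normalizer_thompson 2 _
      (normalizer_eq_top (P : Subgroup G) ▸ mem_top g))
  have hind : ∀ H : Subgroup G, (P : Subgroup G) ≤ H → H ≠ ⊤ → ∀ h ∈ H, ∀ j ∈ J,
      h * j * h⁻¹ ∈ centralizer (X : Set G) := by
    intro H hPH hH h hh j hj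
    have hlt : Nat.card H < n := hn ▸ lt_of_not_ge fun hge => hH (eq_top_of_le_card H hge)
    set PH := P.subtype hPH
    have hmap : (PH : Subgroup H).map H.subtype = (P : Subgroup G) := map_subgroupOf_eq_of_le hPH
    have hQH : (pCore 2 G).subgroupOf H ≤ pCore 2 H :=
      CfsgLib.PCore.le_pCore ((pCore_normal 2 G).comap _)
        (CfsgLib.PCore.pCore_isPGroup.comap_of_injective _ H.subtype_injective)
    have hCH : centralizer (pCore 2 H : Set H) ≤ pCore 2 H := fun z hz => hQH
      (hC (mem_centralizer_iff.2 fun q hq => congrArg Subtype.val (mem_centralizer_iff.1 hz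
        ⟨q, hPH (CfsgLib.PCore.pCore_le_sylow P hq)⟩ (hQH hq))) : (z : G) ∈ pCore 2 G)
    have hJ : J = (CfsgLib.PLocal.thompson 2 (PH : Subgroup H)).map H.subtype := by
      rw [hJdef, ← hmap, CfsgLib.PLocal.thompson_map H.subtype_injective]
    obtain ⟨j', hj', rfl⟩ := hJ.le hj
    have h1 := ih _ hlt rfl hCH (fun hi => hS4 (LocalEven.Involved.involves_of_subgroup hi))
      (isKGroupWith_of_surjective hK H (MonoidHom.id H) Function.surjective_id) PH ⟨h, hh⟩ j' hj'
    refine mem_centralizer_iff.2 fun x hx => ?_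
    have hX : X = (xJ (PH : Subgroup H)).map H.subtype := by
      show xJ (P : Subgroup G) = _
      rw [← xJ_map H.subtype_injective, hmap]
    obtain ⟨x', hx', rfl⟩ := hX.le hx
    exact congrArg Subtype.val (mem_centralizer_iff.1 h1 x' hx')
  set K := normalClosure (J : Set G) with hKdef
  haveI hKn : K.Normal := normalClosure_normal
  by_cases hgen : K ⊔ (P : Subgroup G) = ⊤
  · exact fun g => conj_mem_centralizer_of_setting
      ⟨hC, sThree_free_of_sFour hC hS4, hK, hgen, hPn, hind⟩ g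
  intro g j hj
  obtain ⟨k, hk, m, hm, rfl⟩ := CfsgLib.Techniques.exists_eq_mul_normalizer_inf P K g
  have he : CfsgLib.PLocal.thompson 2 ((P : Subgroup G) ⊓ K) = J :=
    CfsgLib.PLocal.thompson_eq_of_le inf_le_left
      (le_inf (CfsgLib.PLocal.thompson_le _ _) fun x hx => subset_normalClosure hx)
  have hm' : m ∈ normalizer (J : Set G) := he ▸ CfsgLib.PLocal.normalizer_le_normalizer_thompson 2 _ hm
  rw [show k * m * j * (k * m)⁻¹ = k * (m * j * m⁻¹) * k⁻¹ by group]
  exact hind _ le_sup_right hgen k (mem_sup_left hk) _ ((mem_normalizer_iff.1 hm' j).1 hj)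

variable {G : Type u} [Group G] [Finite G]

/-- `G = C(Ω₁Z(Ĵ(S))) N(J(S))`. -/
theorem exists_factor_xJ (hC : centralizer (pCore 2 G : Set G) ≤ pCore 2 G)
    (hS4 : ¬ Involves (Equiv.Perm (Fin 4)) G) (hK : IsKGroupWith IsSuzukiOrPSL2OddPowerThree G)
    (S : Sylow 2 G) (g : G) : ∃ c ∈ centralizer (xJ (S : Subgroup G) : Set G),
      ∃ m ∈ normalizer (CfsgLib.PLocal.thompson 2 (S : Subgroup G) : Set G), g = c * m := by
  haveI : Fact (Nat.Prime 2) := ⟨Nat.prime_two⟩
  set J := CfsgLib.PLocal.thompson 2 (S : Subgroup G)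
  set K := normalClosure (J : Set G)
  have hKX : K ≤ centralizer (xJ (S : Subgroup G) : Set G) := (closure_le _).2 fun y hy => by
    obtain ⟨j, hj, hjy⟩ := Group.mem_conjugatesOfSet_iff.1 hy
    obtain ⟨h, rfl⟩ := isConj_iff.1 hjy
    exact conj_mem_centralizer hC hS4 hK S h j hj
  haveI : K.Normal := normalClosure_normal
  have he : CfsgLib.PLocal.thompson 2 ((S : Subgroup G) ⊓ K) = J :=
    CfsgLib.PLocal.thompson_eq_of_le inf_le_left
      (le_inf (CfsgLib.PLocal.thompson_le _ _) fun x hx => subset_normalClosure hx)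
  obtain ⟨k, hk, m, hm, rfl⟩ := CfsgLib.Techniques.exists_eq_mul_normalizer_inf S K g
  exact ⟨k, hKX hk, m, he ▸ CfsgLib.PLocal.normalizer_le_normalizer_thompson 2 _ hm, rfl⟩

/-- The bound for the elementary sections of `G / C(V)` on `V`. -/
theorem moves_of_pCore_eq_bot (hS4 : ¬ Involves (Equiv.Perm (Fin 4)) G)
    (hK : IsKGroupWith IsSuzukiOrPSL2OddPowerThree G) (V : Subgroup G) [V.Normal]
    (hV : IsElementaryAbelian 2 V) (hO : pCore 2 (G ⧸ centralizer (V : Set G)) = ⊥) (T : Subgroup G) :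
    Moves T V := by
  intro R _ he hn
  haveI := hV.1
  haveI : Fact (Nat.Prime 2) := ⟨Nat.prime_two⟩
  set φ : G →* MulAut V := MulAut.conjNormal
  set C := centralizer (V : Set G)
  have hφ : ∀ (g : G) (v : V), ((φ g v : V) : G) = g * v * g⁻¹ := MulAut.conjNormal_apply
  have hker : φ.ker = C := by
    ext g
    rw [MonoidHom.mem_ker, mem_centralizer_iff]
    constructor
    · intro h v hv
      have h1 := hφ g ⟨v, hv⟩
      rw [h] at h1
      exact (mul_inv_eq_iff_eq_mul.1 h1.symm).symm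
    · intro h
      exact MulEquiv.ext fun v => Subtype.ext (by rw [hφ, ← h v v.2, mul_inv_cancel_right]; rfl)
  set e : G ⧸ C ≃* φ.range :=
    (QuotientGroup.quotientMulEquivOfEq hker.symm).trans (QuotientGroup.quotientKerEquivRange φ)
  have hS3 : ¬ Involves (Equiv.Perm (Fin 3)) φ.range := by
    intro h
    refine hS4 (Cfsg.Agent.S2759.backward V (CfsgLib.PLocal.elemAb_isPGroup hV) ?_)
    have h' : Involves (Equiv.Perm (Fin 3)) (G ⧸ C) :=
      LocalEven.Involved.involves_of_surjective e.toMonoidHom e.surjective h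
    refine LocalEven.Involved.involves_of_surjective
      (QuotientGroup.map (C.subgroupOf (normalizer (V : Set G))) C (normalizer (V : Set G)).subtype le_rfl) ?_ h'
    intro y
    obtain ⟨g, rfl⟩ := QuotientGroup.mk_surjective y
    exact ⟨QuotientGroup.mk ⟨g, normalizer_eq_top V ▸ mem_top g⟩, rfl⟩
  have hKr : IsKGroupWith IsSuzukiOrPSL2OddPowerThree φ.range := isKGroupWith_of_surjective hK ⊤
    (φ.rangeRestrict.comp (topEquiv : (⊤ : Subgroup G) ≃* G).toMonoidHom)
    (φ.rangeRestrict_surjective.comp (topEquiv : (⊤ : Subgroup G) ≃* G).surjective)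
  set A := R.map φ.rangeRestrict
  have hA : IsElementaryAbelian 2 A := by
    refine ⟨CfsgLib.PLocal.isMulCommutative_of_forall ?_, ?_⟩
    · rintro _ ⟨a, ha, rfl⟩ _ ⟨b, hb, rfl⟩
      rw [← commutatorElement_eq_one_iff_mul_comm, ← map_commutatorElement]
      exact Subtype.ext (MonoidHom.mem_ker.1 (hker.ge (he.1 (commutator_mem_commutator ha hb))))
    · rintro _ ⟨a, ha, rfl⟩
      rw [← map_pow]
      exact Subtype.ext (MonoidHom.mem_ker.1 (hker.ge (he.2 a ha)))
  have hVR : ⁅V, R⁆ ≤ V := commutator_le_left _ _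
  obtain ⟨h1, h2⟩ := square_bound (fun v : V => Subtype.ext (hV.2 v v.2)) φ.range
    (CfsgLib.PCore.pCore_eq_bot_of_equiv e hO) hS3 hKr A hA
    ((centralizer (R : Set G)).subgroupOf V) (⁅V, R⁆.subgroupOf V)
    (by
      rintro v hv _ ⟨r, hr, rfl⟩
      refine Subtype.ext ?_
      show ((φ r v : V) : G) = v
      have h' : r * (v : G) = (v : G) * r := mem_centralizer_iff.1 (mem_subgroupOf.1 hv) r hr
      rw [hφ, h', mul_inv_cancel_right])
    (by
      rintro v _ ⟨r, hr, rfl⟩
      rw [mem_subgroupOf]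
      show (v : G) * ((φ r v : V) : G)⁻¹ ∈ ⁅V, R⁆
      rw [hφ, show (v : G) * (r * v * r⁻¹)⁻¹ = ⁅(v : G), r⁆ by rw [commutatorElement_def]; group]
      exact commutator_mem_commutator v.2 hr)
  have ha : Nat.card A = C.relIndex R := by
    rw [← relIndex_bot_left, ← relIndex_comap, MonoidHom.comap_bot, MonoidHom.ker_rangeRestrict, hker]
  have ha1 : 1 < C.relIndex R := by
    rcases Nat.lt_or_ge 1 (C.relIndex R) with h | h
    · exact h
    · exact absurd (relIndex_eq_one.1 (le_antisymm h (relIndex_pos' _ _))) hn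
  rw [ha] at h1 h2
  rw [Nat.card_congr (subgroupOfEquivOfLe hVR).toEquiv] at h2
  refine ⟨?_, lt_of_lt_of_le (by nlinarith) h2⟩
  calc C.relIndex R ^ 3 < (C.relIndex R ^ 2) ^ 2 := by
        rw [← pow_mul]; exact Nat.pow_lt_pow_right ha1 (by norm_num)
    _ ≤ _ := Nat.pow_le_pow_left h1 2

/-- `G = C(Z(S)) N(Ĵ(S))`. -/
theorem exists_factor_jH (hC : centralizer (pCore 2 G : Set G) ≤ pCore 2 G)
    (hS4 : ¬ Involves (Equiv.Perm (Fin 4)) G) (hK : IsKGroupWith IsSuzukiOrPSL2OddPowerThree G)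
    (S : Sylow 2 G) (g : G) :
    ∃ c ∈ centralizer (((S : Subgroup G) ⊓ centralizer ((S : Subgroup G) : Set G) : Subgroup G) : Set G),
      ∃ n ∈ normalizer (jH (S : Subgroup G) : Set G), g = c * n := by
  haveI : Fact (Nat.Prime 2) := ⟨Nat.prime_two⟩
  set Z := (S : Subgroup G) ⊓ centralizer ((S : Subgroup G) : Set G)
  set ZQ := pCore 2 G ⊓ centralizer (pCore 2 G : Set G)
  haveI : (pCore 2 G).Normal := pCore_normal 2 G
  haveI hZQn : ZQ.Normal := inferInstance
  have hZc : Z ≤ centralizer (pCore 2 G : Set G) :=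
    inf_le_right.trans (centralizer_le (SetLike.coe_subset_coe.2 (CfsgLib.PCore.pCore_le_sylow S)))
  have hZZQ : Z ≤ ZQ := le_inf (hZc.trans hC) hZc
  set W := normalClosure (Z : Set G)
  have hWZQ : W ≤ ZQ := normalClosure_le_normal hZZQ
  haveI hWc : IsMulCommutative W := CfsgLib.PLocal.isMulCommutative_of_forall fun a ha b hb =>
    mem_centralizer_iff.1 (hWZQ hb).2 a (hWZQ ha).1
  have hWp : IsPGroup 2 W := CfsgLib.PCore.pCore_isPGroup.to_le (hWZQ.trans inf_le_left)
  set C := centralizer (W : Set G)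
  haveI hCn : C.Normal := inferInstance
  have hOC : pCore 2 (G ⧸ C) = ⊥ := by
    set M := (pCore 2 (G ⧸ C)).comap (QuotientGroup.mk' C) with hM
    haveI : M.Normal := (pCore_normal 2 _).comap _
    have hMsup : ∀ m ∈ M, ∃ c ∈ C, ∃ s ∈ (S : Subgroup G) ⊓ M, c * s = m := by
      intro m hm
      have h1 := CfsgLib.PCore.pCore_le_sylow (S.mapSurjective (QuotientGroup.mk'_surjective C)) hm
      rw [Sylow.coe_mapSurjective] at h1
      obtain ⟨s, hs, hsm⟩ := h1
      have h2 : m * s⁻¹ ∈ C := by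
        rw [← QuotientGroup.eq_one_iff (N := C), QuotientGroup.mk_mul, QuotientGroup.mk_inv,
          mul_inv_eq_one]
        exact hsm.symm
      refine ⟨m * s⁻¹, h2, s, ⟨hs, ?_⟩, by group⟩
      show QuotientGroup.mk' C s ∈ pCore 2 (G ⧸ C)
      rw [hsm]; exact hm
    suffices hMC : M ≤ C by
      refine eq_bot_iff.2 fun x hx => ?_
      obtain ⟨g, rfl⟩ := QuotientGroup.mk_surjective x
      exact Subgroup.mem_bot.2 ((QuotientGroup.eq_one_iff g).2 (hMC hx))
    have hSMC : (S : Subgroup G) ⊓ M ≤ C := by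
      intro t ht
      have : W ≤ centralizer {t} := by
        refine (Subgroup.closure_le _).2 ?_
        intro y hy
        obtain ⟨z, hz, hzy⟩ := Group.mem_conjugatesOfSet_iff.1 hy
        obtain ⟨x, rfl⟩ := isConj_iff.1 hzy
        obtain ⟨m, hm, n, hn, rfl⟩ := CfsgLib.Techniques.exists_eq_mul_normalizer_inf S M x
        have h1 : ∀ s ∈ (S : Subgroup G) ⊓ M, s * (n * z * n⁻¹) = (n * z * n⁻¹) * s := by
          intro s hs
          have h2 : n⁻¹ * s * n ∈ (S : Subgroup G) ⊓ M := by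
            simpa using (mem_normalizer_iff.1 (inv_mem hn) s).1 hs
          have h3 := mem_centralizer_iff.1 hz.2 _ h2.1
          calc s * (n * z * n⁻¹) = n * (n⁻¹ * s * n * z) * n⁻¹ := by group
            _ = n * (z * (n⁻¹ * s * n)) * n⁻¹ := by rw [h3]
            _ = n * z * n⁻¹ * s := by group
        obtain ⟨c, hc, s, hs, rfl⟩ := hMsup m hm
        have hzW : n * z * n⁻¹ ∈ W :=
          (normalClosure_normal (s := (Z : Set G))).conj_mem _ (subset_normalClosure hz) n
        have h4 : c * s * n * z * (c * s * n)⁻¹ = n * z * n⁻¹ := by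
          calc c * s * n * z * (c * s * n)⁻¹ = c * (s * (n * z * n⁻¹) * s⁻¹) * c⁻¹ := by group
            _ = c * (n * z * n⁻¹) * c⁻¹ := by rw [h1 s hs, mul_inv_cancel_right]
            _ = _ := by rw [← mem_centralizer_iff.1 hc _ hzW, mul_inv_cancel_right]
        rw [SetLike.mem_coe, h4, mem_centralizer_iff]
        rintro _ rfl
        exact h1 _ ht
      exact mem_centralizer_iff.2 fun w hw => (mem_centralizer_iff.1 (this hw) t rfl).symm
    intro m hm
    obtain ⟨c, hc, s, hs, rfl⟩ := hMsup m hm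
    exact C.mul_mem hc (hSMC hs)
  set V := omegaOne 2 W with hVdef
  have hVW : V ≤ W := CfsgLib.PLocal.omegaOne_le 2 W
  have hV : IsElementaryAbelian 2 V := CfsgLib.PLocal.omegaOne_elemAb 2 W
  haveI hVn : V.Normal := normalizer_eq_top_iff.1 (top_le_iff.1
    ((normalizer_eq_top W).ge.trans (CfsgLib.PLocal.normalizer_le_normalizer_omegaOne 2 W)))
  have hCV : centralizer (V : Set G) = C := by
    refine le_antisymm ?_ (centralizer_le (SetLike.coe_subset_coe.2 hVW))
    set CV := centralizer (V : Set G) with hCVd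
    haveI : CV.Normal := inferInstance
    have hp : IsPGroup 2 (CV.map (QuotientGroup.mk' C)) := by
      rintro ⟨_, y, hy, rfl⟩
      obtain ⟨k, hodd⟩ := exists_odd_pow y
      refine ⟨k, Subtype.ext ?_⟩
      show (QuotientGroup.mk' C y) ^ 2 ^ k = 1
      rw [← map_pow, QuotientGroup.mk'_apply, QuotientGroup.eq_one_iff, mem_centralizer_iff]
      intro w hw
      have hyk := CV.pow_mem hy (2 ^ k)
      have h := CfsgLib.Techniques.SThree.commute_of_fix_involutions hWp hodd
        (fun w hw => (normalClosure_normal (s := (Z : Set G))).conj_mem w hw _)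
        (fun w hw hw2 => by
          rw [← mem_centralizer_iff.1 hyk w (CfsgLib.PLocal.mem_omegaOne hw hw2), mul_inv_cancel_right]) w hw
      exact (mul_inv_eq_iff_eq_mul.1 h).symm
    have h1 := hOC ▸ CfsgLib.PCore.le_pCore
      ((inferInstance : CV.Normal).map _ (QuotientGroup.mk'_surjective C)) hp
    rwa [le_bot_iff, Subgroup.map_eq_bot_iff, QuotientGroup.ker_mk'] at h1
  have hOV : pCore 2 (G ⧸ centralizer (V : Set G)) = ⊥ :=
    CfsgLib.PCore.pCore_eq_bot_of_equiv (QuotientGroup.quotientMulEquivOfEq hCV.symm) hOC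
  have hM : ∀ T, Moves T V := moves_of_pCore_eq_bot hS4 hK V hV hOV
  have hVS : V ≤ (S : Subgroup G) :=
    (hVW.trans (hWZQ.trans inf_le_left)).trans (CfsgLib.PCore.pCore_le_sylow S)
  have hJV := thompson_le_centralizer_of_half (CfsgLib.PLocal.thompson_le 2 _) le_rfl hVS hV
    (hM _).half
  have hjC : jH (S : Subgroup G) ≤ C := sSup_le fun U hU => hCV ▸ le_centralizer_iff.1
    (hU.2.1 V ((le_thompson_of_le_centralizer hVS hV hJV).trans hU.2.2)
      (normalizer_eq_top V ▸ le_top) hV (hM U))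
  have he : jH ((S : Subgroup G) ⊓ C) = jH (S : Subgroup G) := jH_eq_of_le inf_le_left
    (le_inf (CfsgLib.PLocal.thompson_le _ _) ((thompson_le_jH _).trans hjC)) (le_inf (jH_le _) hjC)
  obtain ⟨c, hc, n, hn, rfl⟩ := CfsgLib.Techniques.exists_eq_mul_normalizer_inf S C g
  exact ⟨c, centralizer_le (fun z hz => subset_normalClosure hz) hc, n,
    he ▸ normalizer_le_normalizer_jH _ hn, rfl⟩

end CfsgLib.SFourHat
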