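import Cfsg.Agent.Lib.PCore.Basic
import Cfsg.Agent.Lib.SFourHat.Layer

set_option autoImplicit false
set_option linter.unusedSectionVars false

/-!
The largest `S`-invariant subgroup of `S` that is a 2-group modulo `C`.
-/

namespace CfsgLib.SFourHat

open Subgroup

variable {G : Type*} [Group G] [Finite G]

theorem exists_radical {S C : Subgroup G} (hCS : C ≤ S) (hC : S ≤ normalizer (C : Set G)) :
    ∃ R : Subgroup G, C ≤ R ∧ R ≤ S ∧ S ≤ normalizer (R : Set G) ∧ (∀ x ∈ R, ∃ k : ℕ, x ^ 2 ^ k ∈ C) ∧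
      ∀ M : Subgroup G, M ≤ S → S ≤ normalizer (M : Set G) → (∀ x ∈ M, ∃ k : ℕ, x ^ 2 ^ k ∈ C) → M ≤ R := by
  haveI : (C.subgroupOf S).Normal := normal_subgroupOf_of_le_normalizer hC
  set π := QuotientGroup.mk' (C.subgroupOf S)
  set R₀ := (Cfsg.pCore 2 (↥S ⧸ C.subgroupOf S)).comap π
  haveI hRn : R₀.Normal := (Cfsg.pCore_normal 2 _).comap _
  refine ⟨R₀.map S.subtype, fun x hx => ?_, map_subtype_le _, ?_, ?_, ?_⟩
  · refine ⟨⟨x, hCS hx⟩, ?_, rfl⟩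
    show π ⟨x, hCS hx⟩ ∈ Cfsg.pCore 2 (↥S ⧸ C.subgroupOf S)
    rw [show π ⟨x, hCS hx⟩ = 1 from (QuotientGroup.eq_one_iff _).2 hx]
    exact one_mem _
  · refine le_normalizer_of_conj_mem fun s hs x hx => ?_
    obtain ⟨y, hy, rfl⟩ := hx
    exact ⟨⟨s, hs⟩ * y * (⟨s, hs⟩ : S)⁻¹, hRn.conj_mem y hy _, rfl⟩
  · rintro _ ⟨y, hy, rfl⟩
    obtain ⟨k, hk⟩ := CfsgLib.PCore.pCore_isPGroup (p := 2) ⟨π y, hy⟩
    refine ⟨k, ?_⟩
    have h1 : π (y ^ 2 ^ k) = 1 := by rw [map_pow]; exact congrArg Subtype.val hk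
    exact (QuotientGroup.eq_one_iff (y ^ 2 ^ k)).1 h1
  · intro M hMS hSM hM x hx
    haveI : (M.subgroupOf S).Normal := normal_subgroupOf_of_le_normalizer hSM
    refine ⟨⟨x, hMS hx⟩, ?_, rfl⟩
    refine CfsgLib.PCore.le_pCore ((inferInstance : (M.subgroupOf S).Normal).map π
      (QuotientGroup.mk'_surjective _)) ?_ (mem_map_of_mem π (show (⟨x, hMS hx⟩ : S) ∈ M.subgroupOf S from hx))
    rintro ⟨_, y, hy, rfl⟩
    obtain ⟨k, hk⟩ := hM y hy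
    refine ⟨k, Subtype.ext ?_⟩
    show π y ^ 2 ^ k = 1
    rw [← map_pow]
    exact (QuotientGroup.eq_one_iff (y ^ 2 ^ k)).2 hk

end CfsgLib.SFourHat
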