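import Cfsg.Agent.Lib.SFourHat.Basic
import Cfsg.Agent.Lib.Techniques.ClassTwoFactor
import Cfsg.Agent.Lib.PCore.Basic
import Cfsg.Prelude.Def_Local

set_option autoImplicit false
set_option linter.unusedSectionVars false

/-!
The minimal situation for `G = C(Ω₁Z(Ĵ(P))) N(J(P))`.
-/

namespace CfsgLib.SFourHat

open Subgroup Cfsg
open scoped commutatorElement

universe u

variable {G : Type u} [Group G]

/-- `Ω₁Z(Ĵ(P))`. -/
def xJ (P : Subgroup G) : Subgroup G := omegaOne 2 (jH P ⊓ centralizer (jH P : Set G))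

theorem xJ_le_jH (P : Subgroup G) : xJ P ≤ jH P := (CfsgLib.PLocal.omegaOne_le 2 _).trans inf_le_left

theorem xJ_le (P : Subgroup G) : xJ P ≤ P := (xJ_le_jH P).trans (jH_le P)

theorem xJ_le_centralizer_jH (P : Subgroup G) : xJ P ≤ centralizer (jH P : Set G) :=
  (CfsgLib.PLocal.omegaOne_le 2 _).trans inf_le_right

theorem isMulCommutative_centre (T : Subgroup G) :
    IsMulCommutative ↥(T ⊓ centralizer (T : Set G) : Subgroup G) :=
  CfsgLib.PLocal.isMulCommutative_of_forall fun _ ha _ hb =>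
    mem_centralizer_iff.1 (mem_inf.1 hb).2 _ (mem_inf.1 ha).1

theorem xJ_elemAb (P : Subgroup G) : IsElementaryAbelian 2 (xJ P) :=
  haveI := isMulCommutative_centre (jH P)
  CfsgLib.PLocal.omegaOne_elemAb 2 _

theorem mem_xJ {P : Subgroup G} {x : G} (hx : x ∈ jH P) (hc : x ∈ centralizer (jH P : Set G))
    (h2 : x ^ 2 = 1) : x ∈ xJ P := CfsgLib.PLocal.mem_omegaOne (mem_inf.2 ⟨hx, hc⟩) h2

/-- The subgroup generated by the elements of odd order. -/
def oddGen (G : Type u) [Group G] : Subgroup G := closure {x : G | Odd (orderOf x)}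

theorem mem_oddGen {x : G} (h : Odd (orderOf x)) : x ∈ oddGen G := subset_closure h

instance oddGen_normal : (oddGen G).Normal := by
  constructor
  intro n hn g
  have h : oddGen G ≤ (oddGen G).comap (MulAut.conj g).toMonoidHom := (closure_le _).2 fun x hx => by
    show g * x * g⁻¹ ∈ oddGen G
    refine mem_oddGen ?_
    rw [show g * x * g⁻¹ = (MulAut.conj g).toMonoidHom x from rfl,
      orderOf_injective _ (MulAut.conj g).injective]
    exact hx
  exact h hn

variable [Finite G]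

theorem exists_odd_pow (x : G) : ∃ k : ℕ, Odd (orderOf (x ^ 2 ^ k)) := by
  obtain ⟨k, h, -⟩ := CfsgLib.Techniques.JeTwo.exists_odd_power x
  exact ⟨k, h⟩

theorem oddGen_sup_sylow (P : Sylow 2 G) : oddGen G ⊔ (P : Subgroup G) = ⊤ := by
  haveI : Fact (Nat.Prime 2) := ⟨Nat.prime_two⟩
  set π := QuotientGroup.mk' (oddGen G)
  have hp : IsPGroup 2 (G ⧸ oddGen G) := fun q => QuotientGroup.induction_on q fun x => by
    obtain ⟨k, hk⟩ := exists_odd_pow x
    exact ⟨k, by rw [← QuotientGroup.mk_pow, QuotientGroup.eq_one_iff]; exact mem_oddGen hk⟩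
  have htop : (P : Subgroup G).map π = ⊤ := by
    have h := (P.mapSurjective (f := π) (QuotientGroup.mk'_surjective _)).is_maximal'
      (Q := (⊤ : Subgroup (G ⧸ oddGen G))) (hp.of_equiv topEquiv.symm) le_top
    exact h.symm
  refine (eq_top_iff' _).2 fun x => ?_
  obtain ⟨p, hp', he⟩ := htop.ge (mem_top (π x))
  have h1 : x * p⁻¹ ∈ oddGen G := by
    rw [← QuotientGroup.eq_one_iff (N := oddGen G), QuotientGroup.mk_mul, QuotientGroup.mk_inv, mul_inv_eq_one]
    exact he.symm
  simpa using mul_mem (mem_sup_left h1 : x * p⁻¹ ∈ oddGen G ⊔ (P : Subgroup G)) (mem_sup_right hp')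

/-- The minimal situation. -/
structure Setting (P : Sylow 2 G) : Prop where
  char : centralizer (pCore 2 G : Set G) ≤ pCore 2 G
  s3 : ¬ Involves (Equiv.Perm (Fin 3)) (G ⧸ pCore 2 G)
  kg : IsKGroupWith IsSuzukiOrPSL2OddPowerThree G
  gen : normalClosure (CfsgLib.PLocal.thompson 2 (P : Subgroup G) : Set G) ⊔ (P : Subgroup G) = ⊤
  notNormal : ¬ (P : Subgroup G).Normal
  ind : ∀ H : Subgroup G, (P : Subgroup G) ≤ H → H ≠ ⊤ → ∀ h ∈ H,
    ∀ j ∈ CfsgLib.PLocal.thompson 2 (P : Subgroup G), h * j * h⁻¹ ∈ centralizer (xJ (P : Subgroup G) : Set G)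

theorem pCore_lt {P : Sylow 2 G} (h : Setting P) : pCore 2 G ≠ (P : Subgroup G) := fun e =>
  h.notNormal (e ▸ pCore_normal 2 G)

/-- A normal subgroup centralized by `J` is centralized by the odd order elements. -/
theorem oddGen_le_centralizer {P : Sylow 2 G} (h : Setting P) {N : Subgroup G} [N.Normal]
    (hJ : CfsgLib.PLocal.thompson 2 (P : Subgroup G) ≤ centralizer (N : Set G)) :
    oddGen G ≤ centralizer (N : Set G) := by
  haveI : Fact (Nat.Prime 2) := ⟨Nat.prime_two⟩
  have hC : (centralizer (N : Set G)).Normal := inferInstance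
  have hG : centralizer (N : Set G) ⊔ (P : Subgroup G) = ⊤ :=
    top_le_iff.1 (h.gen ▸ sup_le_sup_right (normalClosure_le_normal hJ) _)
  refine (closure_le _).2 fun x hx => ?_
  obtain ⟨c, hc, p, hp, rfl⟩ := mem_sup_of_normal_left.1 (hG ▸ mem_top x)
  obtain ⟨k, hk⟩ := P.isPGroup' ⟨p, hp⟩
  rw [SetLike.mem_coe, ← QuotientGroup.eq_one_iff (N := centralizer (N : Set G)), ← orderOf_eq_one_iff]
  refine Nat.eq_one_of_dvd_coprimes (a := orderOf (c * p)) (b := 2 ^ k)
    ((Nat.coprime_two_right.2 hx).pow_right k) (orderOf_map_dvd (QuotientGroup.mk' _) _) ?_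
  refine orderOf_dvd_of_pow_eq_one ?_
  rw [QuotientGroup.mk_mul, (QuotientGroup.eq_one_iff c).2 hc, one_mul, ← QuotientGroup.mk_pow,
    show p ^ 2 ^ k = 1 from congrArg Subtype.val hk, QuotientGroup.mk_one]

end CfsgLib.SFourHat
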