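import Cfsg.Agent.Lib.SFourHat.Layer
import Cfsg.Agent.Lib.SFourHat.Step
import Cfsg.Agent.Lib.SFourHat.Setting
import Cfsg.Agent.Lib.Stellmacher.Tools

set_option autoImplicit false
set_option linter.unusedSectionVars false

/-!
A central series with elementary factors of a normal 2-subgroup, and the bound on the elements moved by an
involution inverting an element of large order.
-/

namespace CfsgLib.SFourHat

open Subgroup
open scoped commutatorElement

universe u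

variable {G : Type u} [Group G]

/-- The next term of the series. -/
def upStep (Q₁ N : Subgroup G) : Subgroup G :=
  closure {f | f ∈ Q₁ ∧ f ^ 2 ∈ N ∧ ∀ y ∈ Q₁, ⁅f, y⁆ ∈ N}

/-- The series. -/
def filt (Q₁ : Subgroup G) : ℕ → Subgroup G
  | 0 => ⊥
  | i + 1 => upStep Q₁ (filt Q₁ i)

theorem filt_succ (Q₁ : Subgroup G) (i : ℕ) : filt Q₁ (i + 1) = upStep Q₁ (filt Q₁ i) := rfl

theorem upStep_spec {Q₁ N : Subgroup G} [N.Normal] {f : G} :
    f ∈ upStep Q₁ N ↔ f ∈ Q₁ ∧ f ^ 2 ∈ N ∧ ∀ y ∈ Q₁, ⁅f, y⁆ ∈ N := by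
  refine ⟨fun hf => ?_, fun h => subset_closure h⟩
  let K : Subgroup G :=
    { carrier := {f | f ∈ Q₁ ∧ f ^ 2 ∈ N ∧ ∀ y ∈ Q₁, ⁅f, y⁆ ∈ N}
      one_mem' := ⟨one_mem _, by rw [one_pow]; exact one_mem _, fun y _ => by
        rw [commutatorElement_one_left]; exact one_mem _⟩
      mul_mem' := fun {a b} ha hb => ⟨mul_mem ha.1 hb.1, by
        rw [show (a * b) ^ 2 = a ^ 2 * (a⁻¹ * ⁅a, b⁆⁻¹ * a⁻¹⁻¹) * b ^ 2 by
          simp only [commutatorElement_def, pow_two]; group]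
        exact mul_mem (mul_mem ha.2.1 (Normal.conj_mem inferInstance _ (inv_mem (ha.2.2 b hb.1)) _)) hb.2.1,
        fun y hy => by
        rw [show ⁅a * b, y⁆ = a * ⁅b, y⁆ * a⁻¹ * ⁅a, y⁆ by simp only [commutatorElement_def]; group]
        exact mul_mem (Normal.conj_mem inferInstance _ (hb.2.2 y hy) a) (ha.2.2 y hy)⟩
      inv_mem' := fun {a} ha => ⟨inv_mem ha.1, by rw [inv_pow]; exact inv_mem ha.2.1, fun y hy => by
        rw [show ⁅a⁻¹, y⁆ = a⁻¹ * ⁅a, y⁆⁻¹ * a⁻¹⁻¹ by simp only [commutatorElement_def]; group]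
        exact Normal.conj_mem inferInstance _ (inv_mem (ha.2.2 y hy)) _⟩ }
  exact (closure_le K).2 (fun _ h => h) hf

theorem upStep_normal {Q₁ N : Subgroup G} [Q₁.Normal] [N.Normal] : (upStep Q₁ N).Normal := by
  constructor
  intro f hf g
  obtain ⟨h1, h2, h3⟩ := upStep_spec.1 hf
  refine upStep_spec.2 ⟨Normal.conj_mem inferInstance f h1 g, ?_, fun y hy => ?_⟩
  · rw [conj_pow]; exact Normal.conj_mem inferInstance _ h2 g
  · have h := Normal.conj_mem (inferInstance : N.Normal) _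
      (h3 (g⁻¹ * y * g⁻¹⁻¹) (Normal.conj_mem inferInstance y hy g⁻¹)) g
    rwa [conjugate_commutatorElement, show g * (g⁻¹ * y * g⁻¹⁻¹) * g⁻¹ = y by group] at h

instance filt_normal {Q₁ : Subgroup G} [Q₁.Normal] : ∀ i, (filt Q₁ i).Normal
  | 0 => inferInstanceAs ((⊥ : Subgroup G).Normal)
  | i + 1 => haveI := filt_normal (Q₁ := Q₁) i; upStep_normal

theorem mem_filt_succ {Q₁ : Subgroup G} [Q₁.Normal] {i : ℕ} {f : G} :
    f ∈ filt Q₁ (i + 1) ↔ f ∈ Q₁ ∧ f ^ 2 ∈ filt Q₁ i ∧ ∀ y ∈ Q₁, ⁅f, y⁆ ∈ filt Q₁ i := upStep_spec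

theorem filt_le {Q₁ : Subgroup G} [Q₁.Normal] : ∀ i, filt Q₁ i ≤ Q₁
  | 0 => bot_le
  | _ + 1 => fun _ hf => (mem_filt_succ.1 hf).1

theorem filt_le_succ {Q₁ : Subgroup G} [Q₁.Normal] (i : ℕ) : filt Q₁ i ≤ filt Q₁ (i + 1) := fun f hf =>
  mem_filt_succ.2 ⟨filt_le i hf, pow_mem hf 2, fun y _ => by
    rw [show ⁅f, y⁆ = f * (y * f⁻¹ * y⁻¹) by rw [commutatorElement_def]; group]
    exact mul_mem hf (Normal.conj_mem inferInstance _ (inv_mem hf) y)⟩

variable [Finite G]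

theorem filt_reaches {Q₁ : Subgroup G} [Q₁.Normal] (hQ : IsPGroup 2 Q₁) : ∃ n, filt Q₁ n = Q₁ := by
  haveI : Fact (Nat.Prime 2) := ⟨Nat.prime_two⟩
  suffices h : ∀ n, filt Q₁ n = Q₁ ∨ n < Nat.card (filt Q₁ n) by
    rcases h (Nat.card Q₁) with h' | h'
    · exact ⟨_, h'⟩
    · exact absurd h' (not_lt.2 (Nat.le_of_dvd Nat.card_pos (card_dvd_of_le (filt_le _))))
  intro n
  induction n with
  | zero => exact Or.inr Nat.card_pos
  | succ n ih =>
    rcases eq_or_lt_of_le (filt_le (Q₁ := Q₁) n) with h | h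
    · exact Or.inl (le_antisymm (filt_le _) (h.ge.trans (filt_le_succ n)))
    refine Or.inr ?_
    obtain ⟨y, hyQ, hyN, hy⟩ := exists_fixed_above hQ le_rfl le_rfl le_normalizer h
    have hn : Q₁ ≤ normalizer (filt Q₁ n : Set G) := normalizer_eq_top (filt Q₁ n) ▸ le_top
    have hyfix : y ∈ fixMod Q₁ Q₁ (filt Q₁ n) hn := ⟨hyQ, hy⟩
    obtain ⟨k, hk⟩ := hQ ⟨y, hyQ⟩
    have hex : ∃ j, y ^ 2 ^ j ∈ filt Q₁ n := ⟨k, by
      rw [show y ^ 2 ^ k = 1 from congrArg Subtype.val hk]; exact one_mem _⟩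
    classical
    rcases hj : Nat.find hex with _ | j
    · have := Nat.find_spec hex
      rw [hj, pow_zero, pow_one] at this
      exact absurd this hyN
    have hnot : y ^ 2 ^ j ∉ filt Q₁ n := Nat.find_min hex (hj ▸ Nat.lt_succ_self j)
    have hmem : y ^ 2 ^ j ∈ filt Q₁ (n + 1) := by
      refine mem_filt_succ.2 ⟨pow_mem hyQ _, ?_, fun q hq => ?_⟩
      · rw [← pow_mul, ← pow_succ]; have := Nat.find_spec hex; rwa [hj] at this
      · have h' := inv_mem ((mem_fixMod.1 (pow_mem hyfix (2 ^ j))).2 q hq)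
        rwa [commutatorElement_inv] at h'
    have hlt : filt Q₁ n < filt Q₁ (n + 1) := lt_of_le_of_ne (filt_le_succ n) fun e => hnot (e ▸ hmem)
    have hcard : Nat.card (filt Q₁ n) < Nat.card (filt Q₁ (n + 1)) :=
      lt_of_not_ge fun hge => hlt.ne (eq_of_le_of_card_ge hlt.le hge)
    rcases ih with h' | h'
    · exact absurd h' h.ne
    · omega

theorem eq_one_of_odd_of_two_power {d : G} {n k : ℕ} (hn : Odd n) (h1 : d ^ n = 1) (h2 : d ^ 2 ^ k = 1) :
    d = 1 := by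
  rw [← orderOf_eq_one_iff]
  exact Nat.eq_one_of_dvd_coprimes ((Nat.coprime_two_right.2 hn).pow_right k)
    (orderOf_dvd_of_pow_eq_one h1) (orderOf_dvd_of_pow_eq_one h2)

/-- An element of odd order moving `f` by an element it fixes fixes it. -/
theorem commute_of_moved_fixed {x f : G} {Q : Subgroup G} (hQ : IsPGroup 2 Q) (hx : Odd (orderOf x))
    (hd : ⁅x, f⁆ ∈ Q) (hfix : x * ⁅x, f⁆ * x⁻¹ = ⁅x, f⁆) : x * f = f * x := by
  set d := ⁅x, f⁆ with hddef
  have hn : ∀ n : ℕ, x ^ n * f * (x ^ n)⁻¹ = d ^ n * f := by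
    intro n
    induction n with
    | zero => simp
    | succ n ih =>
      calc x ^ (n + 1) * f * (x ^ (n + 1))⁻¹ = x * (x ^ n * f * (x ^ n)⁻¹) * x⁻¹ := by rw [pow_succ']; group
        _ = (x * d * x⁻¹) ^ n * (x * f * x⁻¹) := by rw [ih, conj_pow]; group
        _ = d ^ n * (d * f) := by rw [hfix, hddef, commutatorElement_def]; group
        _ = _ := by rw [pow_succ]; group
  have h1 := hn (orderOf x)
  rw [pow_orderOf_eq_one, one_mul, inv_one, mul_one] at h1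
  obtain ⟨k, hk⟩ := hQ ⟨d, hd⟩
  have : d = 1 := eq_one_of_odd_of_two_power hx (mul_right_cancel (b := f) (by rw [← h1, one_mul]))
    (congrArg Subtype.val hk : d ^ 2 ^ k = 1)
  rw [hddef, commutatorElement_eq_one_iff_mul_comm] at this
  exact this

/-- An odd order element centralizing `L ∩ O₂(G)` is trivial. -/
theorem eq_one_of_centralizes (hchar : centralizer (Cfsg.pCore 2 G : Set G) ≤ Cfsg.pCore 2 G) {d : G}
    (hd : Odd (orderOf d))
    (hc : d ∈ centralizer ((oddGen G ⊓ Cfsg.pCore 2 G : Subgroup G) : Set G)) : d = 1 := by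
  haveI : (Cfsg.pCore 2 G).Normal := Cfsg.pCore_normal 2 G
  have hQ : IsPGroup 2 (Cfsg.pCore 2 G) := CfsgLib.PCore.pCore_isPGroup
  have h : d ∈ centralizer (Cfsg.pCore 2 G : Set G) := mem_centralizer_iff.2 fun q hq => by
    have h1 : ⁅d, q⁆ ∈ Cfsg.pCore 2 G := mul_mem (Normal.conj_mem inferInstance q hq d) (inv_mem hq)
    have h2 : ⁅d, q⁆ ∈ oddGen G := by
      rw [commutatorElement_def, mul_assoc d q, mul_assoc]
      exact mul_mem (mem_oddGen hd) (Normal.conj_mem inferInstance _ (inv_mem (mem_oddGen hd)) q)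
    refine (commute_of_moved_fixed hQ hd h1 ?_).symm
    rw [← mem_centralizer_iff.1 hc _ (mem_inf.2 ⟨h2, h1⟩), mul_inv_cancel_right]
  obtain ⟨k, hk⟩ := hQ ⟨d, hchar h⟩
  exact eq_one_of_odd_of_two_power hd (pow_orderOf_eq_one d) (congrArg Subtype.val hk : d ^ 2 ^ k = 1)

/-- An involution inverting an element of order `r` moves at least half the dimension of what that element
moves. -/
theorem two_pow_le_moved (W I : Subgroup G) [W.Normal] (hW : Cfsg.IsElementaryAbelian 2 W) {x v : G}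
    {r e : ℕ} (hr : r.Prime) (hr2 : r ≠ 2) (hx : x ^ r = 1) (hv : v * v = 1) (hinv : v * x * v⁻¹ = x⁻¹)
    (hne : ∃ w ∈ W, ⁅x, w⁆ ≠ 1) (hI : ∀ w ∈ W, ⁅w, v⁆ ∈ I) (he : ∀ k : ℕ, r ∣ 2 ^ k - 1 → e ∣ k) :
    2 ^ e ≤ (centralizer ({x} : Set G)).relIndex I ^ 2 := by
  haveI : Fact (Nat.Prime 2) := ⟨Nat.prime_two⟩
  have hWc : ∀ a ∈ W, ∀ b ∈ W, a * b = b * a := fun a ha b hb => CfsgLib.PLocal.elemAb_commute hW ha hb
  have hWn : ∀ g : G, ∀ a ∈ W, g * a * g⁻¹ ∈ W := fun g a ha => Normal.conj_mem inferInstance a ha g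
  have hcomW : ∀ g : G, ∀ a ∈ W, ⁅g, a⁆ ∈ W := fun g a ha => mul_mem (hWn g a ha) (inv_mem ha)
  have hadd : ∀ g : G, ∀ a ∈ W, ∀ b ∈ W, ⁅g, a * b⁆ = ⁅g, a⁆ * ⁅g, b⁆ := fun g a ha b hb => by
    rw [show ⁅g, a * b⁆ = ⁅g, a⁆ * (a * ⁅g, b⁆ * a⁻¹) by simp only [commutatorElement_def]; group,
      hWc a ha _ (hcomW g b hb), mul_inv_cancel_right]
  have hWinv : ∀ a ∈ W, a⁻¹ = a := fun a ha =>
    inv_eq_of_mul_eq_one_left (by rw [← pow_two]; exact hW.2 a ha)
  -- the moved part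
  let M : Subgroup G :=
    { carrier := {m | ∃ w ∈ W, ⁅x, w⁆ = m}
      one_mem' := ⟨1, one_mem _, commutatorElement_one_right x⟩
      mul_mem' := fun {a b} ⟨wa, hwa, ea⟩ ⟨wb, hwb, eb⟩ =>
        ⟨wa * wb, mul_mem hwa hwb, by rw [hadd x wa hwa wb hwb, ea, eb]⟩
      inv_mem' := fun {a} ⟨wa, hwa, ea⟩ => ⟨wa, hwa, by rw [← ea, hWinv _ (hcomW x wa hwa)]⟩ }
  have hMW : M ≤ W := fun _ ⟨w, hw, e⟩ => e ▸ hcomW x w hw
  have hMx : M ⊓ centralizer ({x} : Set G) = ⊥ := by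
    refine eq_bot_iff.2 ?_
    rintro _ ⟨⟨w, hw, rfl⟩, hm⟩
    have hfix : x * ⁅x, w⁆ * x⁻¹ = ⁅x, w⁆ := by
      rw [← mem_centralizer_singleton_iff.1 hm, mul_inv_cancel_right]
    have h := commute_of_moved_fixed (CfsgLib.PLocal.elemAb_isPGroup hW) ((hr.odd_of_ne_two hr2).of_dvd_nat
      (orderOf_dvd_of_pow_eq_one hx)) (hcomW x w hw) hfix
    exact mem_bot.2 (commutatorElement_eq_one_iff_mul_comm.2 h)
  have hMv : ∀ m ∈ M, v * m * v⁻¹ ∈ M := by
    rintro _ ⟨w, hw, rfl⟩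
    refine ⟨x⁻¹ * (v * w * v⁻¹) * x⁻¹⁻¹, hWn _ _ (hWn v w hw), ?_⟩
    have h1 := hcomW x⁻¹ _ (hWn v w hw)
    rw [conjugate_commutatorElement, hinv, ← hWinv _ h1]
    simp only [commutatorElement_def]; group
  have hMx' : ∀ m ∈ M, x * m * x⁻¹ ∈ M := by
    rintro _ ⟨w, hw, rfl⟩
    refine ⟨x * w * x⁻¹, hWn x w hw, ?_⟩
    simp only [commutatorElement_def]; group
  have hM1 : M ≠ ⊥ := by
    obtain ⟨w, hw, hne⟩ := hne
    exact fun h => hne (mem_bot.1 (h ▸ (⟨w, hw, rfl⟩ : ⁅x, w⁆ ∈ M)))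
  -- the order of the moved part
  obtain ⟨n, hn⟩ := (CfsgLib.PLocal.elemAb_isPGroup (CfsgLib.PLocal.elemAb_of_le hW hMW)).exists_card_eq
  have hn0 : n ≠ 0 := fun h => hM1 (eq_bot_of_card_eq _ (by rw [hn, h, pow_zero]))
  have hxm : ∀ j : ℕ, ∀ m ∈ M, x ^ j * m * (x ^ j)⁻¹ ∈ M := by
    intro j
    induction j with
    | zero => intro m hm; simpa using hm
    | succ j ih =>
      intro m hm
      rw [show x ^ (j + 1) * m * (x ^ (j + 1))⁻¹ = x * (x ^ j * m * (x ^ j)⁻¹) * x⁻¹ by rw [pow_succ']; group]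
      exact hMx' _ (ih m hm)
  have hdvd : r ∣ 2 ^ n - 1 := by
    obtain ⟨p, hp⟩ : ∃ p : Equiv.Perm M, ∀ m : M, ((p m : M) : G) = x * m * x⁻¹ :=
      ⟨Equiv.ofBijective (fun m : M => (⟨x * m * x⁻¹, hMx' m m.2⟩ : M))
        (Finite.injective_iff_bijective.1 fun a b h => Subtype.ext
          (mul_left_cancel (mul_right_cancel (congrArg Subtype.val h)))), fun m => rfl⟩
    have hpj : ∀ (j : ℕ) (m : M), (((p ^ j) m : M) : G) = x ^ j * m * (x ^ j)⁻¹ := by
      intro j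
      induction j with
      | zero => intro m; simp
      | succ j ih => intro m; rw [pow_succ', Equiv.Perm.mul_apply, hp, ih, pow_succ']; group
    have h := CfsgLib.Stellmacher.modEq_one_of_unique_fixed (j := 1) hr p (Equiv.ext fun m => Subtype.ext (by
        rw [pow_one, hpj, hx]; simp)) (1 : M) (Subtype.ext (by rw [hp]; simp)) (fun m hm => by
      have h1 : x * (m : G) * x⁻¹ = m := by rw [← hp, hm]
      exact Subtype.ext (mem_bot.1 (hMx.le (mem_inf.2 ⟨m.2,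
        mem_centralizer_singleton_iff.2 (mul_inv_eq_iff_eq_mul.1 h1).symm⟩))))
    rw [hn] at h
    exact (Nat.modEq_iff_dvd' Nat.one_le_two_pow).1 h.symm
  have hen : e ≤ n := Nat.le_of_dvd (Nat.pos_of_ne_zero hn0) (he n hdvd)
  -- the moved part of the involution
  set Cv := centralizer ({v} : Set G)
  set Cx := centralizer ({x} : Set G)
  set Cv' := Cv.map (MulAut.conj x).toMonoidHom
  have hCC : M ⊓ (Cv ⊓ Cv') = ⊥ := by
    refine eq_bot_iff.2 fun m hm => ?_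
    obtain ⟨hmM, hm1, ⟨m', hm', e'⟩⟩ := hm
    have e'' : x * m' * x⁻¹ = m := e'
    refine hMx.le (mem_inf.2 ⟨hmM, ?_⟩)
    have h1 : Commute m v := mem_centralizer_singleton_iff.1 hm1
    have h2 : Commute m (x * v * x⁻¹) := by
      rw [← e'']
      exact (show Commute m' v from mem_centralizer_singleton_iff.1 hm').map (MulAut.conj x)
    have h3 := (h2.mul_right h1)
    have ex : x * v * x⁻¹ * v = x ^ 2 := by
      rw [show x * v * x⁻¹ * v = x * (v * x⁻¹ * v⁻¹) * (v * v) by group, ← conj_inv, hinv, inv_inv, hv, mul_one,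
        pow_two]
    rw [ex] at h3
    obtain ⟨j, hj⟩ := hr.odd_of_ne_two hr2
    have h4 := h3.pow_right (j + 1)
    rw [← pow_mul, show 2 * (j + 1) = r + 1 by omega, pow_succ, hx, one_mul] at h4
    exact mem_centralizer_singleton_iff.2 h4.eq
  have hmapM : M.map (MulAut.conj x).toMonoidHom = M := mem_normalizer_iff_map_conj_eq.1
    (le_normalizer_of_conj_mem (S := zpowers x) (by
      intro s hs m hm
      obtain ⟨j, hj⟩ := (mem_powers_iff_mem_zpowers.2 hs)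
      rw [← hj]
      exact hxm j m hm) (mem_zpowers x))
  have hcard : Nat.card M ≤ Cv.relIndex M * Cv.relIndex M := by
    have e1 : Cv'.relIndex M = Cv.relIndex M := by
      conv_lhs => rw [← hmapM]
      exact relIndex_map_map_of_injective _ _ (MulAut.conj x).injective
    have h2 : (Cv ⊓ Cv').relIndex M = Nat.card M := by
      rw [← inf_relIndex_right, inf_comm, hCC, relIndex_bot_left]
    calc Nat.card M = (Cv ⊓ Cv').relIndex M := h2.symm
      _ ≤ Cv.relIndex M * Cv'.relIndex M := relIndex_inf_le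
      _ = _ := by rw [e1]
  let ψ : M →* G :=
    { toFun := fun m => ⁅v, (m : G)⁆
      map_one' := commutatorElement_one_right v
      map_mul' := fun a b => hadd v a (hMW a.2) b (hMW b.2) }
  have hψker : Cv.subgroupOf M = ψ.ker := by
    ext m
    rw [mem_subgroupOf, mem_centralizer_singleton_iff, MonoidHom.mem_ker]
    show _ ↔ ⁅v, (m : G)⁆ = 1
    rw [commutatorElement_eq_one_iff_mul_comm]
    exact eq_comm
  have hrange : Cv.relIndex M ≤ Cx.relIndex I := by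
    have h1 : Cv.relIndex M = Nat.card ψ.range := by
      show (Cv.subgroupOf M).index = _
      rw [hψker, index_ker]
    have h2 : Cx.relIndex ψ.range = Nat.card ψ.range := by
      have e : Cx ⊓ ψ.range = ⊥ := by
        refine le_bot_iff.1 fun y hy => hMx.le (mem_inf.2 ⟨?_, hy.1⟩)
        obtain ⟨m, rfl⟩ := hy.2
        exact mul_mem (hMv m m.2) (inv_mem m.2)
      rw [← inf_relIndex_right, e, relIndex_bot_left]
    have h3 : ψ.range ≤ I := by
      rintro _ ⟨m, rfl⟩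
      show ⁅v, (m : G)⁆ ∈ I
      rw [← commutatorElement_inv (m : G) v]
      exact inv_mem (hI m (hMW m.2))
    rw [h1, ← h2]
    exact relIndex_le_of_le_right h3 index_ne_zero_of_finite
  calc 2 ^ e ≤ 2 ^ n := Nat.pow_le_pow_right two_pos hen
    _ = Nat.card M := hn.symm
    _ ≤ Cv.relIndex M * Cv.relIndex M := hcard
    _ ≤ _ := by rw [pow_two]; exact Nat.mul_le_mul hrange hrange

end CfsgLib.SFourHat
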